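import Cfsg.Agent.N9M.Kit

/-! The symmetric copies of the configurations and the subgroup `X`. -/

set_option autoImplicit false
set_option linter.unusedSectionVars false

namespace Cfsg.Lib.N9M

open Subgroup Cfsg.Lib.Trans Cfsg.Lib.SC6
open Cfsg.Lib.Odd3 (conj_mem_of_norm conj_mem_of_norm' mem_norm_of_conj)
open Cfsg.Lib.L3 (sq_cases cube_cases SZ)

variable {G : Type*} [Group G] [Finite G] {u s c z y w h : G} {Q T X : Subgroup G}

namespace CjK

theorem ex {g a : G} {A : Subgroup G} (ha : a ∈ Trans.cj g A) : ∃ b ∈ A, a = g * b * g⁻¹ :=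
  ⟨_, mem_cj.1 ha, by group⟩

theorem mk {g a b : G} {A : Subgroup G} (ha : a ∈ A) (e : b = g * a * g⁻¹) : b ∈ Trans.cj g A :=
  e ▸ conj_mem_cj.2 ha

theorem un {g a b : G} {A : Subgroup G} (hb : b ∈ Trans.cj g A) (e : b = g * a * g⁻¹) : a ∈ A :=
  conj_mem_cj.1 (e ▸ hb)

theorem nm {g a : G} {A : Subgroup G} (ha : a ∈ Nm A) : g * a * g⁻¹ ∈ Nm (Trans.cj g A) :=
  mem_nm_cj.2 (by simpa [mul_assoc] using ha)

theorem cj_nm (g : G) (A : Subgroup G) : Trans.cj g (Nm A) = Nm (Trans.cj g A) :=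
  Subgroup.ext fun _ => mem_cj.trans mem_nm_cj.symm

theorem ab (H : AB u s c z Q X) (g : G) : AB (g * u * g⁻¹) (g * s * g⁻¹) (g * c * g⁻¹)
    (g * z * g⁻¹) (Trans.cj g Q) (Trans.cj g X) where
  toQS := H.toQS.cj g
  zD := by rw [st_conj_left, st_conj_iff]; exact H.zD
  isX := H.isX.cj g
  ne := fun e => H.ne (cj_eq_bot.1 e)
  cX := nm H.cX
  vQ := fun x hx => by
    replace hx := ex hx
    obtain ⟨x, hx, rfl⟩ := hx
    have := nm (g := g) (H.vQ x hx)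
    convert this using 1
    unfold ff; group
  nX := fun x hx => by
    replace hx := ex hx
    obtain ⟨x, hx, rfl⟩ := hx
    rw [st_conj_left, st_conj_iff]; exact H.nX x hx
  hY := fun a ha e => by
    replace ha := ex ha
    obtain ⟨a, ha, rfl⟩ := ha
    rw [cj_cj, inv_mul_cancel_right, cj_mul]
    exact (H.hY a ha (by simpa [mul_assoc] using conj_comm (g := g⁻¹) e)).imp
      (fun k => mk k rfl) fun k => mk k (by group)
  hK := fun k hk n e1 e2 => by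
    rw [← cj_C1] at hk
    replace hk := ex hk
    obtain ⟨k, hk, rfl⟩ := hk
    refine mk (H.hK k hk n (conj_eq_one_iff.1 (conj_pow.symm.trans e1)) fun f hf => ?_) rfl
    simpa [mul_assoc] using conj_comm (g := g⁻¹)
      (e2 (g * f * g⁻¹) (mem_om_cj.2 (by simpa [mul_assoc] using hf)))

theorem ca (H : CA u s c z y Q T) (g : G) : CA (g * u * g⁻¹) (g * s * g⁻¹) (g * c * g⁻¹)
    (g * z * g⁻¹) (g * y * g⁻¹) (Trans.cj g Q) (Trans.cj g T) where
  toQS := H.toQS.cj g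
  syl := by rw [← cj_C1]; exact H.syl.cj g
  QT := cj_mono g H.QT
  zT := mk H.zT rfl
  y3 := by rw [conj_pow, H.y3]; group
  y1 := conj_ne_one H.y1
  ys := conj_comm H.ys
  yT := nm H.yT
  card := by rw [card_cj, card_cj, H.card]
  dec := fun a ha => by
    replace ha := ex ha
    obtain ⟨a, ha, rfl⟩ := ha
    exact (H.dec a ha).imp (fun k => mk k rfl) (Or.imp (fun k => mk k (by group))
      (Or.imp (fun k => mk k (by group)) fun k => mk k (by group)))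
  sq := fun a ha => by
    replace ha := ex ha
    obtain ⟨a, ha, rfl⟩ := ha
    rw [← cj_zpowers]
    exact mk (H.sq a ha) (by group)
  ab := fun a ha b hb => by
    replace ha := ex ha
    obtain ⟨a, ha, rfl⟩ := ha
    replace hb := ex hb
    obtain ⟨b, hb, rfl⟩ := hb
    rw [← cj_zpowers]
    exact mk (H.ab a ha b hb) (by group)
  cz := fun k hk e => by
    rw [← cj_C1] at hk
    replace hk := ex hk
    obtain ⟨k, hk, rfl⟩ := hk
    exact mk (H.cz k hk (un e (by group))) rfl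
  simp := fun N h1 h2 h3 => by
    obtain ⟨N, rfl⟩ : ∃ M, N = Trans.cj g M := ⟨_, (cj_cj_inv g N).symm⟩
    rw [← cj_C1] at h2 h3 ⊢
    rw [← cj_nm] at h3
    exact (H.simp N (cj_le_cj.1 h1) (cj_le_cj.1 h2) (cj_le_cj.1 h3)).imp (congrArg _) (congrArg _)
  five := by
    obtain ⟨w, w1, w2, w3⟩ := H.five
    exact ⟨g * w * g⁻¹, cj_C1 g s ▸ mk w1 rfl, by rw [conj_pow, w2]; group, conj_ne_one w3⟩
  ne := by rw [← cj_zpowers, cj_le_cj]; exact H.ne

theorem ce (H : CE u s c z y Q T) (g : G) : CE (g * u * g⁻¹) (g * s * g⁻¹) (g * c * g⁻¹)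
    (g * z * g⁻¹) (g * y * g⁻¹) (Trans.cj g Q) (Trans.cj g T) where
  toCA := ca H.toCA g
  zD := by rw [st_conj_left, st_conj_iff]; exact H.zD
  el := fun a ha => by
    rw [← cj_C1, ← cj_C1, ← cj_inf] at ha
    replace ha := ex ha
    obtain ⟨a, ha, rfl⟩ := ha
    exact conj_sq (H.el a ha)
  eT := by rw [← cj_C1, ← cj_C1, ← cj_inf]; exact cj_mono g H.eT
  nE := by rw [← cj_C1, ← cj_C1, ← cj_inf, ← cj_nm]; exact cj_mono g H.nE
  yE := by rw [← cj_C1, ← cj_C1, ← cj_inf]; exact nm H.yE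
  cE := by rw [← cj_C1, ← cj_C1, ← cj_inf]; exact nm H.cE
  sup := by rw [← cj_C1, ← cj_C1, ← cj_inf, ← cj_sup, H.sup]
  cw := fun a ha e => by
    rw [← cj_C1, ← cj_C1, ← cj_inf] at ha
    replace ha := ex ha
    obtain ⟨a, ha, rfl⟩ := ha
    rw [← cj_C1, ← cj_C1, ← cj_C1, ← cj_inf, ← cj_inf, H.cw a ha fun k => e (mk k rfl)]
  cE4 := by rw [← cj_C1, ← cj_C1, ← cj_inf, ← cj_inf, card_cj, card_cj, H.cE4]
  cQ := by rw [← cj_C1, ← cj_inf, card_cj, card_cj, H.cQ]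
  y8 := by rw [← cj_C1, ← cj_inf, card_cj]; exact H.y8
  half := fun a ha e => by
    rw [← cj_C1, ← cj_C1, ← cj_inf] at ha
    replace ha := ex ha
    obtain ⟨a, ha, rfl⟩ := ha
    rw [st_conj_left, st_conj_left, conj_mul, st_conj_iff, st_conj_iff]
    exact H.half a ha fun k => e (mk k rfl)

variable (H : QS u s c z Q)
include H

theorem nrm_mul {a b : G} (ha : a ∈ om Q) (hb : b ∈ Q) : nrm u (a * b) = nrm u a * nrm u b := by
  have f := H.loc.fp
  have p1 := (conj_mem_om f.yR ha).2.2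
  have q1 := (conj_mem_om (inv_mem f.yR) ha).2.2
  rw [inv_inv] at q1
  have e1 := p1 b hb
  have e2 := q1 _ (mul_mem hb (f.conj hb))
  unfold nrm
  calc _ = a * (b * (u * a * u⁻¹)) * (u * b * u⁻¹) * (u⁻¹ * a * u) * (u⁻¹ * b * u) := by group
    _ = a * (u * a * u⁻¹) * (b * (u * b * u⁻¹) * (u⁻¹ * a * u)) * (u⁻¹ * b * u) := by
      rw [e1]; group
    _ = _ := by rw [e2]; group

theorem nrm_fix {a g : G} (ha : a ∈ Q) (e : g * s = s * g) : g * nrm u a * g⁻¹ = nrm u a := by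
  rcases H.nrm_cases ha with k | k <;> rw [k]
  · group
  · exact conj_eq_of_comm e

theorem nrm_u {a : G} (ha : a ∈ Q) : nrm u (u * a * u⁻¹) = nrm u a := by
  rw [← nrm_fix H ha H.hy.w6.yt, ← nrm_conj, mul_inv_cancel_right]

theorem nrm_z {a : G} (ha : a ∈ om Q) : nrm u (z * a * z⁻¹) = nrm u a := by
  have y1 : z * u⁻¹ * z⁻¹ = u := by rw [← conj_inv, H.hy.zu, inv_inv]
  have e : nrm u⁻¹ a = nrm u a := by
    unfold nrm
    rw [inv_inv, mul_assoc, (conj_mem_om H.loc.fp.yR ha).2.2 _ (H.loc.fp.conj' ha.1), ← mul_assoc]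
  rw [← nrm_fix H ha.1 H.hy.zs, ← e, ← nrm_conj, y1]

theorem s_om : s ∈ om Q := H.loc.zp_om (mem_zpowers s)

theorem nrm_ss : nrm u s = s := by
  have := H.nrm_s (one_mem Q)
  rwa [one_mul, show nrm u 1 = 1 by unfold nrm; group, one_mul] at this

end CjK

open CjK

theorem AB.cc (H : AB u s c z Q X) : AB (c * u * c⁻¹) (z * s) c z (Trans.cj c Q) X := by
  have := ab H c
  rwa [H.hy.sc, H.hy.cz, mul_inv_cancel_right, cj_eq_of_mem_normalizer H.cX] at this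

theorem CE.cc (H : CE u s c z y Q T) :
    CE (c * u * c⁻¹) (z * s) c z (c * y * c⁻¹) (Trans.cj c Q) (Trans.cj c T) := by
  have := ce H c
  rwa [H.hy.sc, H.hy.cz, mul_inv_cancel_right] at this

theorem IsX.mem_or (H : QS u s c z Q) (hX : IsX u z Q X) {f : G} (hf : f ∈ om Q)
    (e : f * z = z * f) : f ∈ X ∨ f * s ∈ X := by
  refine (H.nrm_cases hf.1).imp (fun k => (hX f).2 ⟨hf, e, k⟩) fun k => (hX _).2
    ⟨mul_mem hf (s_om H), ?_, by rw [H.nrm_s hf.1, k, H.hy.w6.t2]⟩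
  rw [mul_assoc, ← H.hy.zs, ← mul_assoc, e, mul_assoc]

theorem IsX.dec (H : QS u s c z Q) (hX : IsX u z Q X) {f : G} (hf : f ∈ om Q) :
    f * z * f⁻¹ * z⁻¹ ∈ X ∧ ∃ a ∈ X, ∃ b ∈ X, f = a * (u * b * u⁻¹) ∨ f = s * a * (u * b * u⁻¹) := by
  have zN : z ∈ Nm Q := H.nQ (mem_C1.2 H.hy.zs)
  have zi : z⁻¹ = z := inv_eq_of_mul_eq_one_right H.hy.z2
  have k1 : ∀ f ∈ om Q, f * z * f⁻¹ * z⁻¹ ∈ X := fun f hf => by
    have a1 := conj_mem_om zN hf
    rw [inv_eq_of_mul_eq_one_right hf.2.1, mul_assoc, mul_assoc, ← mul_assoc z]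
    refine (hX _).2 ⟨mul_mem hf a1, ?_, ?_⟩
    · conv_rhs => rw [a1.2.2 f hf.1]
      conv_lhs => rw [zi]
      calc f * (z * f * z) * z = f * z * f * (z * z) := by group
        _ = z * z * (f * z * f) := by rw [H.hy.z2, mul_one, one_mul]
        _ = _ := by rw [zi]; group
    · rw [nrm_mul H hf a1.1, nrm_z H hf]
      rcases H.nrm_cases hf.1 with k | k <;> rw [k]
      exacts [mul_one _, H.hy.w6.t2]
  have k2 : ∀ f ∈ om Q, nrm u f = 1 → ∃ a ∈ X, ∃ b ∈ X, f = a * (u * b * u⁻¹) := fun f hf n => by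
    have hx := k1 f hf
    obtain ⟨x1, x2, x3⟩ := (hX _).1 hx
    have t := H.tau0 x1.1 x1.2.1 x2 x3
    have b1 := conj_mem_om H.loc.fp.yR x1
    have b2 := nrm_u H x1.1
    have e0 : f * z * f⁻¹ = f * z * f⁻¹ * z⁻¹ * z := by group
    generalize f * z * f⁻¹ * z⁻¹ = x at hx x1 x2 x3 t b1 b2 e0
    refine ⟨f * (u * x * u⁻¹), (hX _).2 ⟨mul_mem hf b1, ?_, by rw [nrm_mul H hf b1.1, n, b2, x3,
      mul_one]⟩, x, hx, by rw [mul_assoc f, b1.2.1, mul_one]⟩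
    generalize u * x * u⁻¹ = b at t
    rw [← mul_inv_eq_iff_eq_mul]
    calc f * b * z * (f * b)⁻¹ = f * (b * z * b⁻¹) * f⁻¹ := by group
      _ = f * z * (x * f) * f⁻¹ * f⁻¹ := by rw [t]; group
      _ = f * z * f⁻¹ * (f * f) * x * (f * f)⁻¹ := by rw [hf.2.2 x x1.1]; group
      _ = z := by rw [hf.2.1, e0, x2, mul_one, mul_assoc z, x1.2.1]; group
  refine ⟨k1 f hf, ?_⟩
  rcases H.nrm_cases hf.1 with k | k
  · obtain ⟨a, ha, b, hb, e⟩ := k2 f hf k
    exact ⟨a, ha, b, hb, .inl e⟩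
  · obtain ⟨a, ha, b, hb, e⟩ := k2 _ (mul_mem hf (s_om H)) (by rw [H.nrm_s hf.1, k, H.hy.w6.t2])
    refine ⟨a, ha, b, hb, .inr ?_⟩
    rw [mul_assoc, ← e, H.loc.cen f hf.1, ← mul_assoc, H.hy.w6.t2, one_mul]

theorem exists_isX (H : QS u s c z Q) : ∃ X, IsX u z Q X ∧ (¬ om Q ≤ zpowers s → X ≠ ⊥) := by
  let X : Subgroup G :=
    { carrier := {x | x ∈ om Q ∧ x * z = z * x ∧ nrm u x = 1}
      one_mem' := ⟨one_mem _, by simp, by unfold nrm; group⟩
      mul_mem' := fun {a b} ha hb => ⟨mul_mem ha.1 hb.1,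
        by rw [mul_assoc, hb.2.1, ← mul_assoc, ha.2.1, mul_assoc],
        by rw [nrm_mul H ha.1 hb.1.1, ha.2.2, hb.2.2, mul_one]⟩
      inv_mem' := fun {a} ha => by rwa [inv_eq_of_mul_eq_one_right ha.1.2.1] }
  have hX : IsX u z Q X := fun _ => Iff.rfl
  refine ⟨X, hX, fun e e' => e fun f hf => ?_⟩
  obtain ⟨-, a, ha, b, hb, k⟩ := hX.dec H hf
  rw [e', mem_bot] at ha hb
  subst ha hb
  rcases k with k | k <;> rw [k] <;> simp

theorem IsX.inf (H : QS u s c z Q) (hX : IsX u z Q X) : X ⊓ Trans.cj u X = ⊥ ∧ s ∉ X := by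
  have k : s ∉ X := fun e => H.hy.w6.t1 ((nrm_ss H).symm.trans ((hX s).1 e).2.2)
  refine ⟨eq_bot_iff.2 fun x hx => ?_, k⟩
  obtain ⟨x1, x2, -⟩ := (hX x).1 hx.1
  have x3 := conj_comm (g := u) ((hX _).1 (mem_cj.1 hx.2)).2.1
  rw [show u * (u⁻¹ * x * u) * u⁻¹ = x by group] at x3
  have e : z * (u * z * u⁻¹) = u := by
    calc _ = z * u * z⁻¹ * (z * z) * u⁻¹ := by group
      _ = (u ^ 3)⁻¹ * u := by rw [H.hy.zu, H.hy.z2, pow_three']; group
      _ = u := by rw [H.hy.w6.y3]; group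
  have x4 : Commute x u := e ▸ Commute.mul_right x2 x3
  rcases sq_cases H.hy.w6.t2 (H.loc.fp.fpf x x1.1 (comm_mem_of_eq x4.symm.eq)) with a | a
  · exact mem_bot.2 a
  · exact absurd (a ▸ hx.1) k

end Cfsg.Lib.N9M
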