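import Cfsg.Agent.N9M.Defs

/-! Fixed-point-free action of `u` on a section of order prime to three. -/

set_option autoImplicit false

namespace Cfsg.Lib.N9M

open Subgroup Cfsg.Lib.Trans Cfsg.Lib.SC6
open Cfsg.Lib.Odd3 (conj_mem_of_norm conj_mem_of_norm' mem_norm_of_conj)
open Cfsg.Lib.L3 (sq_cases cube_cases SZ)

namespace FpqAux

theorem mul_two {K : Type*} [Group K] (h : ∀ x g : K, Commute x (g * x * g⁻¹)) {x y : K}
    {m n : ℕ} (hx : x ^ 2 ^ m = 1) (hy : y ^ 2 ^ n = 1) : (x * y) ^ 2 ^ (n + m) = 1 := by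
  have hc := Rank2.isMulCommutative_normalClosure h x
  have h1 : ∀ w ∈ normalClosure ({x} : Set K), w ^ 2 ^ m = 1 := fun w hw => by
    refine closure_induction (p := fun w _ => w ^ 2 ^ m = 1) ?_ (one_pow _) ?_ ?_ hw
    · intro b hb
      obtain ⟨a, ha, c, hc⟩ := Group.mem_conjugatesOfSet_iff.1 hb
      rw [Set.mem_singleton_iff.1 ha] at hc
      have e : b = c * x * (c : K)⁻¹ := by rw [hc.eq]; group
      rw [e, conj_pow, hx]; group
    · intro a b ha hb e1 e2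
      have : Commute a b :=
        congrArg Subtype.val (hc.is_comm.comm (⟨a, ha⟩ : normalClosure ({x} : Set K)) ⟨b, hb⟩)
      rw [this.mul_pow, e1, e2, one_mul]
    · intro a _ e
      rw [inv_pow, e, inv_one]
  have h2 : ∀ k : ℕ, (x * y) ^ k * (y ^ k)⁻¹ ∈ normalClosure ({x} : Set K) := fun k => by
    induction k with
    | zero => simpa using one_mem _
    | succ k ih =>
      have := mul_mem (subset_normalClosure (s := ({x} : Set K)) (Set.mem_singleton x))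
        (normalClosure_normal.conj_mem _ ih y)
      convert this using 1
      rw [pow_succ', pow_succ']; group
  have := h1 _ (h2 (2 ^ n))
  rwa [hy, inv_one, mul_one, ← pow_mul, ← pow_add] at this

variable {G : Type*} [Group G] [Finite G] {u s c z : G}

theorem fix (H : Hy u s c z) {C D : Subgroup G} (h3 : ¬ 3 ∣ Nat.card C)
    (le : D ≤ C) (sD : s ∈ D) {a : G} (ha : a ∈ C) (e : u * a = a * u) : a ∈ D := by
  have key : ∀ b ∈ C, b ^ 3 = 1 → b = 1 := fun b hb e => by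
    by_contra c
    have := Fact.mk Nat.prime_three
    exact h3 (orderOf_eq_prime e c ▸ Subgroup.orderOf_dvd_natCard C hb)
  rcases H.cu2 a s e.symm H.w6.yt.symm with e1 | e1 | e1
  · exact key a ha e1 ▸ one_mem _
  · exact absurd (key s (le sD) e1) H.w6.t1
  · exact eq_inv_of_mul_eq_one_left (key _ (mul_mem ha (le sD)) e1) ▸ inv_mem sD

theorem fpf (H : Hy u s c z) {C D : Subgroup G} (h3 : ¬ 3 ∣ Nat.card C)
    (le : D ≤ C) (uD : u ∈ Nm D) (sD : s ∈ D) {a : G} (ha : a ∈ C)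
    (e : u * a * u⁻¹ * a⁻¹ ∈ D) : a ∈ D := by
  have h1 := fix_set (n := 1) (by rw [pow_one, H.w6.y3]) {x | x * a⁻¹ ∈ D} fun x hx => by
    have := mul_mem (conj_mem_of_norm uD hx) e
    change _ ∈ D
    convert this using 1; group
  have h2 : Nat.card {x | x * a⁻¹ ∈ D} = Nat.card D :=
    Nat.card_congr ((Equiv.mulRight a⁻¹).subtypeEquiv fun _ => Iff.rfl)
  by_contra hc
  have : IsEmpty {x : {x | x * a⁻¹ ∈ D} // u * x = x * u} := ⟨fun x => hc (by
    have x1 : (x.1 : G) * a⁻¹ ∈ D := x.1.2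
    have := fix H h3 le sD ((C.mul_mem_cancel_right (inv_mem ha)).1 (le x1)) x.2
    exact D.inv_mem_iff.1 ((D.mul_mem_cancel_left this).1 x1))⟩
  rw [h2, Nat.card_of_isEmpty (α := {x : {x | x * a⁻¹ ∈ D} // u * x = x * u})] at h1
  exact h3 (((Nat.modEq_zero_iff_dvd).1 h1).trans (card_dvd_of_le le))

theorem quot (H : Hy u s c z) {C D : Subgroup G} (h3 : ¬ 3 ∣ Nat.card C) (uC : u ∈ Nm C)
    (le : D ≤ C) (nD : C ≤ Nm D) (uD : u ∈ Nm D) (sD : s ∈ D) :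
    ∃ (_ : (D.subgroupOf C).Normal) (a : MulAut (C ⧸ D.subgroupOf C)),
      (∀ x, a (a (a x)) = x) ∧ (∀ x, a x = x → x = 1) ∧
      ∀ r : C, a r = (⟨u * r * u⁻¹, conj_mem_of_norm uC r.2⟩ : C) := by
  have hN : (D.subgroupOf C).Normal := ⟨fun a ha g => conj_mem_of_norm (A := D) (nD g.2) ha⟩
  let e : C ≃* C := normalizerMonoidHom C ⟨u, uC⟩
  have he : (D.subgroupOf C).map (e : C →* C) = D.subgroupOf C := by
    ext r
    constructor
    · rintro ⟨x, hx, rfl⟩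
      exact conj_mem_of_norm uD hx
    · intro hr
      exact ⟨⟨u⁻¹ * r * u, conj_mem_of_norm' uC r.2⟩, conj_mem_of_norm' uD hr,
        Subtype.ext (by change u * (u⁻¹ * r * u) * u⁻¹ = r; group)⟩
  have ha : ∀ r : C, QuotientGroup.congr _ _ e he r =
      (⟨u * r * u⁻¹, conj_mem_of_norm uC r.2⟩ : C) := fun r => rfl
  refine ⟨hN, QuotientGroup.congr _ _ e he, fun x => ?_, fun x hx => ?_, ha⟩
  · obtain ⟨x, rfl⟩ := QuotientGroup.mk_surjective x
    rw [ha, ha, ha]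
    congr 1
    apply Subtype.ext
    change u * (u * (u * x * u⁻¹) * u⁻¹) * u⁻¹ = x
    rw [yy H.w6.y3]; group
  · obtain ⟨x, rfl⟩ := QuotientGroup.mk_surjective x
    rw [ha, ← mul_inv_eq_one, ← QuotientGroup.mk_inv, ← QuotientGroup.mk_mul,
      QuotientGroup.eq_one_iff] at hx
    exact (QuotientGroup.eq_one_iff x).2 (fpf H h3 le uD sD x.2 hx)

end FpqAux

variable {G : Type*} [Group G] [Finite G] {u s c z y w h : G} {Q T X : Subgroup G}

theorem fpq (H : Hy u s c z) {C D : Subgroup G} (h3 : ¬ 3 ∣ Nat.card C) (uC : u ∈ Nm C)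
    (le : D ≤ C) (nD : C ≤ Nm D) (uD : u ∈ Nm D) (sD : s ∈ D) {a : G} (ha : a ∈ C) :
    nrm u a ∈ D := by
  obtain ⟨_, f, h0, h1, h2⟩ := FpqAux.quot H h3 uC le nD uD sD
  have := Rank2.fpf_norm h0 h1 ((⟨a, ha⟩ : C) : C ⧸ D.subgroupOf C)
  rw [h2, h2, ← QuotientGroup.mk_mul, ← QuotientGroup.mk_mul, QuotientGroup.eq_one_iff] at this
  rw [nrm, ← yy H.w6.y3]
  exact this

theorem fp2 (H : Hy u s c z) {C D : Subgroup G} (h3 : ¬ 3 ∣ Nat.card C) (uC : u ∈ Nm C)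
    (le : D ≤ C) (nD : C ≤ Nm D) (uD : u ∈ Nm D) (sD : s ∈ D) (pD : IsPGroup 2 D) :
    ∃ R, FP u R D ∧ R ≤ C ∧ ∀ g ∈ C, ∀ n : ℕ, g ^ 2 ^ n = 1 → g ∈ R := by
  obtain ⟨_, f, h0, h1, -⟩ := FpqAux.quot H h3 uC le nD uD sD
  have key : ∀ (r : C) (n : ℕ), (r : C ⧸ D.subgroupOf C) ^ n = 1 ↔ (r : G) ^ n ∈ D := fun r n => by
    rw [← QuotientGroup.mk_pow, QuotientGroup.eq_one_iff]; rfl
  let R : Subgroup G :=
    { carrier := {g | g ∈ C ∧ ∃ n : ℕ, g ^ 2 ^ n ∈ D}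
      one_mem' := ⟨one_mem _, 0, by simpa using one_mem D⟩
      mul_mem' := by
        rintro a b ⟨ha, m, hm⟩ ⟨hb, n, hn⟩
        refine ⟨mul_mem ha hb, n + m, (key (⟨a, ha⟩ * ⟨b, hb⟩) _).1 ?_⟩
        rw [QuotientGroup.mk_mul]
        exact FpqAux.mul_two (Rank2.fpf_engel h0 h1) ((key ⟨a, ha⟩ _).2 hm) ((key ⟨b, hb⟩ _).2 hn)
      inv_mem' := by
        rintro a ⟨ha, m, hm⟩
        exact ⟨inv_mem ha, m, inv_pow a _ ▸ inv_mem hm⟩ }
  have hR : R ≤ C := fun _ h => h.1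
  refine ⟨R, ⟨fun g => ?_, fun d hd => ⟨le hd, 0, by simpa using hd⟩, hR.trans nD,
    mem_norm_of_conj fun a ha => ?_, uD, H.w6.y3,
    fun a ha e => FpqAux.fpf H h3 le uD sD (hR ha) e⟩, hR,
    fun g hg n e => ⟨hg, n, e ▸ one_mem _⟩⟩
  · obtain ⟨n, hn⟩ := g.2.2
    obtain ⟨k, hk⟩ := pD ⟨_, hn⟩
    refine ⟨n + k, Subtype.ext ?_⟩
    have := congrArg Subtype.val hk
    rw [Subgroup.coe_pow, pow_add, pow_mul]
    exact this
  · obtain ⟨n, hn⟩ := ha.2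
    exact ⟨conj_mem_of_norm uC ha.1, n, by rw [conj_pow]; exact conj_mem_of_norm uD hn⟩

end Cfsg.Lib.N9M
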