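import Cfsg.Agent.N9M.Kit
import Cfsg.Agent.N9M.Fpq
import Cfsg.Agent.N9M.Cj

/-! The configuration `AB` with trivial commutators: first consequences. -/

set_option autoImplicit false

namespace Cfsg.Lib.N9M

open Subgroup Cfsg.Lib.Trans Cfsg.Lib.SC6
open Cfsg.Lib.Odd3 (conj_mem_of_norm conj_mem_of_norm' mem_norm_of_conj)
open Cfsg.Lib.L3 (sq_cases cube_cases SZ)

variable {G : Type*} [Group G] [Finite G] {u s c z y w h : G} {Q T X : Subgroup G}

namespace Z0a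

omit [Finite G] in
theorem uu (u3 : u ^ 3 = 1) : u * u = u⁻¹ :=
  eq_inv_of_mul_eq_one_left (by rw [← u3, pow_three'])

omit [Finite G] in
theorem nrm_mul {p q : G} (e1 : q * (u * p * u⁻¹) = u * p * u⁻¹ * q)
    (e2 : q * (u⁻¹ * p * u) = u⁻¹ * p * u * q)
    (e3 : u * q * u⁻¹ * (u⁻¹ * p * u) = u⁻¹ * p * u * (u * q * u⁻¹)) :
    nrm u (p * q) = nrm u p * nrm u q := by
  unfold nrm
  calc p * q * (u * (p * q) * u⁻¹) * (u⁻¹ * (p * q) * u)
      = p * (q * (u * p * u⁻¹)) * (u * q * u⁻¹ * (u⁻¹ * p * u)) * (u⁻¹ * q * u) := by group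
    _ = p * (u * p * u⁻¹) * (q * (u⁻¹ * p * u)) * (u * q * u⁻¹) * (u⁻¹ * q * u) := by
      rw [e1, e3]; group
    _ = _ := by rw [e2]; group

omit [Finite G] in
theorem nrm_u (u3 : u ^ 3 = 1) (x : G) : nrm u (u * x * u⁻¹) = u * nrm u x * u⁻¹ := by
  unfold nrm
  have e : u * (u⁻¹ * x * u) * u⁻¹ = x := by group
  have e' : u⁻¹ * (u * x * u⁻¹) * u = x := by group
  calc u * x * u⁻¹ * (u * (u * x * u⁻¹) * u⁻¹) * (u⁻¹ * (u * x * u⁻¹) * u)
      = u * x * u⁻¹ * (u * (u * x * u⁻¹) * u⁻¹) * (u * (u⁻¹ * x * u) * u⁻¹) := by rw [e, e']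
    _ = _ := by group

omit [Finite G] in
theorem zconj {f b : G} (zu : z * u * z⁻¹ = u⁻¹) (z2 : z * z = 1) (f2 : f * f = 1)
    (fz : f * z * f⁻¹ = z * y) (fy : f * y = y * f) (yb : u⁻¹ * y * u = y * b) :
    u * f * u⁻¹ * z * (u * f * u⁻¹)⁻¹ = f * nrm u f * (y * b) * z := by
  have zi : z⁻¹ = z := inv_eq_of_mul_eq_one_right z2
  have fi : f⁻¹ = f := inv_eq_of_mul_eq_one_right f2
  have e1 : z * f⁻¹ * z⁻¹ = f * y := by
    calc z * f⁻¹ * z⁻¹ = z⁻¹ * (f * z * f⁻¹) * f := by rw [zi, fi]; calc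
          z * f * z = z * f * z * (f * f) := by rw [f2, mul_one]
          _ = _ := by group
      _ = _ := by rw [fz, fy]; group
  have e2 : z * u⁻¹ * z⁻¹ = u := by rw [← conj_inv, zu, inv_inv]
  unfold nrm
  calc u * f * u⁻¹ * z * (u * f * u⁻¹)⁻¹
      = u * f * u⁻¹ * (z * u * z⁻¹) * (z * f⁻¹ * z⁻¹) * (z * u⁻¹ * z⁻¹) * z := by group
    _ = (f * f) * (u * f * u⁻¹) * (u⁻¹ * f * u) * (u⁻¹ * y * u) * z := by
      rw [zu, e1, e2, f2]; group
    _ = _ := by rw [yb]; group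

variable (H : AB u s c z Q X)
include H

omit [Finite G] in
theorem xo {x : G} (hx : x ∈ X) : x ∈ om Q := ((H.isX x).1 hx).1

omit [Finite G] in
theorem uQ : u ∈ Nm Q := H.nQ (mem_C1.2 H.hy.w6.yt)

omit [Finite G] in
theorem bo {x : G} (hx : x ∈ X) : u * x * u⁻¹ ∈ om Q := conj_mem_om (uQ H) (xo H hx)

omit [Finite G] in
theorem x2 {x : G} (hx : x ∈ X) : u⁻¹ * x * u = x * (u * x * u⁻¹) := by
  have n : x * (u * x * u⁻¹) * (u⁻¹ * x * u) = 1 := ((H.isX x).1 hx).2.2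
  rw [eq_inv_of_mul_eq_one_right n]
  exact inv_eq_of_mul_eq_one_right (mul_mem (xo H hx) (bo H hx)).2.1

theorem bz (hy : y ∈ X) : u * y * u⁻¹ * z * (u * y * u⁻¹)⁻¹ = z * y :=
  H.tau0 (xo H hy).1 (xo H hy).2.1 ((H.isX y).1 hy).2.1 ((H.isX y).1 hy).2.2

theorem basic (hy : y ∈ X) : ff u c y * ff u c y = 1 ∧ ff u c y * s * (ff u c y)⁻¹ = s * y ∧
    ff u c y * z * (ff u c y)⁻¹ = z * y ∧ ff u c y ∈ om (cj c Q) := by
  have fo : ff u c y ∈ om (cj c Q) := bo H.cc hy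
  have fz : ff u c y * z * (ff u c y)⁻¹ = z * y := bz H.cc hy
  have e := fo.2.2 _ H.cc.sQ
  refine ⟨fo.2.1, ?_, fz, fo⟩
  generalize ff u c y = f at *
  calc f * s * f⁻¹ = (f * z * f⁻¹)⁻¹ * (f * (z * s)) * f⁻¹ := by group
    _ = y⁻¹ * s := by rw [fz, ← e]; group
    _ = _ := by rw [inv_eq_of_mul_eq_one_right (xo H hy).2.1, (xo H hy).2.2 s H.sQ]

theorem fx {x : G} (hy : y ∈ X) (hx : x ∈ X) : ff u c y * x = x * ff u c y := by
  have h1 : x ∈ cj c Q := by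
    rw [mem_cj]
    exact (xo H (conj_mem_of_norm' H.cX hx)).1
  exact ((basic H hy).2.2.2.2.2 x h1).symm

omit [Finite G] H in
theorem fb (k0 : ∀ x ∈ X, ∀ y ∈ X, kap u c x y = 1) {x : G} (hy : y ∈ X) (hx : x ∈ X) :
    ff u c y * (u * x * u⁻¹) = u * x * u⁻¹ * ff u c y :=
  (eq_of_comm_one (k0 x hx y hy)).symm

omit [Finite G] in
theorem nF {a x : G} (ha : a ∈ X) (hx : x ∈ X) : nrm u (a * (u * x * u⁻¹)) = 1 := by
  have a1 := bo H ha
  have a2 : u⁻¹ * a * u ∈ om Q := by rw [x2 H ha]; exact mul_mem (xo H ha) a1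
  have x1 := bo H hx
  rw [nrm_mul (a1.2.2 _ x1.1) (a2.2.2 _ x1.1) (a2.2.2 _ (conj_mem_om (uQ H) x1).1),
    nrm_u H.hy.w6.y3, ((H.isX a).1 ha).2.2, ((H.isX x).1 hx).2.2]
  group

theorem mem (k0 : ∀ x ∈ X, ∀ y ∈ X, kap u c x y = 1) (hy : y ∈ X) :
    nrm u (ff u c y) ∈ om Q := by
  have u3 := H.hy.w6.y3
  have FQ : X ⊔ cj u X ≤ om Q :=
    sup_le (fun x hx => xo H hx) (cj_le_iff.2 fun x hx => bo H hx)
  have uF : u ∈ Nm (X ⊔ cj u X) := by
    refine mem_normalizer_of_cj_le ?_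
    rw [cj_sup]
    refine sup_le le_sup_right (cj_le_iff.2 fun t ht => ?_)
    have h1 := mem_cj.1 ht
    have e : u * t * u⁻¹ = u⁻¹ * (u⁻¹ * t * u) * u := by
      have e1 : u = u⁻¹ * u⁻¹ := by rw [← mul_inv_rev, uu u3, inv_inv]
      calc u * t * u⁻¹ = (u⁻¹ * u⁻¹) * t * (u * u) := by rw [← e1, uu u3]
        _ = _ := by group
    rw [e, x2 H h1]
    exact mul_mem (mem_sup_left h1) (mem_sup_right (conj_mem_cj.2 h1))
  obtain ⟨⟨x, hx⟩, x1⟩ := ne_bot_iff_exists_ne_one.1 H.ne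
  have x1' : x ≠ 1 := fun e => x1 (Subtype.ext e)
  have h3 : ¬ 3 ∣ Nat.card ↥(Nm Q ⊓ centralizer ((X ⊔ cj u X : Subgroup G) : Set G)) := by
    refine H.hy.not3 (xo H hx).2.1 (bo H hx).2.1 x1' (conj_ne_one x1') (fun e => x1' ?_)
      ((bo H hx).2.2 _ (xo H hx).1) (fun g hg => mem_C1.2 ?_) fun g hg => mem_C1.2 ?_
    · rw [← mem_bot, ← (H.isX.inf H.toQS).1]
      exact ⟨hx, by rw [e]; exact conj_mem_cj.2 hx⟩
    · exact (mem_centralizer_iff.1 hg.2 x (mem_sup_left hx)).symm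
    · exact (mem_centralizer_iff.1 hg.2 _ (mem_sup_right (conj_mem_cj.2 hx))).symm
  refine fpq (D := om Q) H.hy h3 (nm_inf (le_normalizer (uQ H)) (normalizer_le_normalizer_centralizer _ uF))
    (fun a ha => ⟨le_normalizer ha.1, mem_centralizer_iff.2 fun b hb => ha.2.2 b (FQ hb).1⟩)
    (inf_le_left.trans (nm_om Q)) (nm_om Q (uQ H))
    ⟨H.sQ, H.hy.w6.t2, fun a ha => mem_C1.1 (H.le ha)⟩ ⟨H.vQ y hy, ?_⟩
  have : X ⊔ cj u X ≤ C1 (ff u c y) :=
    sup_le (fun x hx => mem_C1.2 (fx H hy hx).symm)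
      (cj_le_iff.2 fun x hx => mem_C1.2 (fb k0 hy hx).symm)
  exact mem_centralizer_iff.2 fun b hb => mem_C1.1 (this hb)

theorem gz (hy : y ∈ X) : u * ff u c y * u⁻¹ * z * (u * ff u c y * u⁻¹)⁻¹ =
    ff u c y * nrm u (ff u c y) * (y * (u * y * u⁻¹)) * z :=
  zconj H.hy.zu H.hy.z2 (basic H hy).1 (basic H hy).2.2.1 (fx H hy hy) (x2 H hy)

theorem one (k0 : ∀ x ∈ X, ∀ y ∈ X, kap u c x y = 1) (hy : y ∈ X) : nrm u (ff u c y) = 1 := by
  have u3 := H.hy.w6.y3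
  have us := H.hy.w6.yt
  obtain ⟨f2, fs, -⟩ := basic H hy
  have cu : u * nrm u (ff u c y) * u⁻¹ = ff u c y * nrm u (ff u c y) * (ff u c y)⁻¹ := by
    unfold nrm
    generalize ff u c y = f at f2
    have e1 : u = u⁻¹ * u⁻¹ := by rw [← mul_inv_rev, uu u3, inv_inv]
    calc u * (f * (u * f * u⁻¹) * (u⁻¹ * f * u)) * u⁻¹
        = (u * f * u⁻¹) * ((u * u) * f * (u⁻¹ * u⁻¹)) * f := by group
      _ = (f * f) * (u * f * u⁻¹) * (u⁻¹ * f * u) * f⁻¹ := by
        rw [uu u3, ← e1, f2, inv_eq_of_mul_eq_one_right f2]; group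
      _ = _ := by group
  obtain ⟨-, a, ha, x, hx, e⟩ := H.isX.dec H.toQS (mem H k0 hy)
  have fβ : ff u c y * (a * (u * x * u⁻¹)) = a * (u * x * u⁻¹) * ff u c y := by
    rw [← mul_assoc, fx H hy ha, mul_assoc, fb k0 hy hx, ← mul_assoc]
  have βo : a * (u * x * u⁻¹) ∈ om Q := mul_mem (xo H ha) (bo H hx)
  rcases e with e | e
  · rw [e, conj_eq_of_comm fβ] at cu
    have n := nF H ha hx
    rw [e]
    generalize a * (u * x * u⁻¹) = β at *
    have cu' : u⁻¹ * β * u = β := by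
      conv_lhs => rw [← cu]
      group
    unfold nrm at n
    rwa [cu, cu', βo.2.1, one_mul] at n
  · exfalso
    have e1 : u * (a * (u * x * u⁻¹)) * u⁻¹ = y * (a * (u * x * u⁻¹)) := by
      rw [e] at cu
      apply mul_left_cancel (a := s)
      calc s * (u * (a * (u * x * u⁻¹)) * u⁻¹) = u * (s * a * (u * x * u⁻¹)) * u⁻¹ := by
            rw [← mul_assoc, ← mul_assoc, ← us]; group
        _ = ff u c y * s * (ff u c y)⁻¹ * (ff u c y * (a * (u * x * u⁻¹)) * (ff u c y)⁻¹) := by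
          rw [cu]; group
        _ = _ := by rw [fs, conj_eq_of_comm fβ]; group
    have e2 : u * a * u⁻¹ = y * a * x⁻¹ := by
      have e0 : u = u⁻¹ * u⁻¹ := by rw [← mul_inv_rev, uu u3, inv_inv]
      have : u * a * u⁻¹ * (x * (u * x * u⁻¹)) = y * (a * (u * x * u⁻¹)) := by
        rw [← x2 H hx, ← e1]
        calc u * a * u⁻¹ * (u⁻¹ * x * u) = u * a * u⁻¹ * ((u * u) * x * (u⁻¹ * u⁻¹)) := by
              rw [uu u3, ← e0]
          _ = _ := by group
      calc u * a * u⁻¹ = u * a * u⁻¹ * (x * (u * x * u⁻¹)) * (u * x * u⁻¹)⁻¹ * x⁻¹ := by group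
        _ = _ := by rw [this]; group
    have a1 : a = 1 := by
      by_contra a1
      refine conj_ne_one (g := u) a1 ?_
      rw [← mem_bot, ← (H.isX.inf H.toQS).1]
      have : u * a * u⁻¹ ∈ X := by rw [e2]; exact X.mul_mem (X.mul_mem hy ha) (X.inv_mem hx)
      exact ⟨this, conj_mem_cj.2 ha⟩
    have xy : x = y := by
      rw [a1] at e2
      have : y * x⁻¹ = 1 := by rw [← mul_one y, ← e2]; group
      exact (mul_inv_eq_one.1 this).symm
    rw [a1, xy, mul_one] at e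
    have g1 := gz H hy
    have b1 := bz H hy
    have v2 : (c * u * c⁻¹)⁻¹ * y * (c * u * c⁻¹) = y * ff u c y := x2 H.cc hy
    have vs : c * u * c⁻¹ * (z * s) = z * s * (c * u * c⁻¹) := H.cc.hy.w6.yt
    have fy := fx H hy hy
    have bo' := bo H hy
    have yo := xo H hy
    have bs := bo'.2.2 s H.sQ
    have by' := bo'.2.2 y yo.1
    have ys := yo.2.2 s H.sQ
    have yz := ((H.isX y).1 hy).2.1
    have zs := H.hy.zs
    have fz := (basic H hy).2.2.1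
    refine H.zD ((st_conj_iff (g := u * ff u c y * u⁻¹)).1 ?_)
    rw [g1, e]
    have k1 : St s (z * s) := ⟨c, H.hy.sc⟩
    have k2 := (k1.conj (u * y * u⁻¹)).conj (c * u * c⁻¹)⁻¹
    convert k2 using 1
    have b2 := bo'.2.1
    generalize u * y * u⁻¹ = b at *
    generalize ff u c y = f at *
    generalize c * u * c⁻¹ = v at *
    have fs' : f * (z * s) = z * s * f := by
      calc f * (z * s) = (f * z * f⁻¹) * (f * s * f⁻¹) * f := by group
        _ = z * (y * s) * y * f := by rw [fz, fs]; group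
        _ = z * s * (y * y) * f := by rw [← ys]; group
        _ = _ := by rw [yo.2.1, mul_one]
    calc f * (s * b) * (y * b) * z = f * s * (b * b) * y * z := by rw [by']; group
      _ = f * (s * y) * z := by rw [b2]; group
      _ = f * y * (z * s) := by rw [ys, zs]; group
      _ = y * (z * s * f) := by rw [fy, ← fs']; group
      _ = (y * z) * s * f := by group
      _ = z * (y * s) * f := by rw [yz]; group
      _ = z * s * (y * f) := by rw [← ys]; group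
      _ = v⁻¹ * (v * (z * s)) * (v⁻¹ * y * v) := by rw [v2]; group
      _ = v⁻¹ * (z * (s * y)) * v := by rw [vs]; group
      _ = v⁻¹ * (b * z * b⁻¹ * s) * v := by rw [b1, ys]; group
      _ = v⁻¹ * (b * z * b⁻¹ * (s * b) * b⁻¹) * v := by group
      _ = _ := by rw [bs]; group

theorem k0c (k0 : ∀ x ∈ X, ∀ y ∈ X, kap u c x y = 1) :
    ∀ x ∈ X, ∀ y ∈ X, kap (c * u * c⁻¹) c x y = 1 := fun x hx y hy => by
  have e : ff (c * u * c⁻¹) c y = y * (u * y * u⁻¹) := by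
    unfold ff
    rw [H.hy.cv, inv_inv, x2 H hy]
  have : ff u c x * (y * (u * y * u⁻¹)) = y * (u * y * u⁻¹) * ff u c x := by
    rw [← mul_assoc, fx H hx hy, mul_assoc, fb k0 hx hy, ← mul_assoc]
  unfold kap
  rw [e]
  change ff u c x * _ * (ff u c x)⁻¹ * _ = 1
  rw [this]; group

theorem two (k0 : ∀ x ∈ X, ∀ y ∈ X, kap u c x y = 1) (hy : y ∈ X) :
    nrm (c * u * c⁻¹) (u * y * u⁻¹) = 1 := by
  have n := one H.cc (k0c H k0) hy
  have e : ff (c * u * c⁻¹) c y = y * (u * y * u⁻¹) := by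
    unfold ff
    rw [H.hy.cv, inv_inv, x2 H hy]
  have v2 : (c * u * c⁻¹)⁻¹ * y * (c * u * c⁻¹) = y * ff u c y := x2 H.cc hy
  have v3 := H.cc.hy.w6.y3
  have f1 := (fb k0 hy hy).symm
  have by' := (bo H hy).2.2 y (xo H hy).1
  rw [e, nrm_mul f1 (by rw [v2, ← mul_assoc, ← by', mul_assoc, f1, ← mul_assoc]) ?_,
    ((H.cc.isX y).1 hy).2.2, one_mul] at n
  · exact n
  · unfold ff at f1
    generalize c * u * c⁻¹ = v at *
    have e0 : v = v⁻¹ * v⁻¹ := by rw [← mul_inv_rev, uu v3, inv_inv]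
    have e1 : v⁻¹ * y * v = v * (v * y * v⁻¹) * v⁻¹ := by
      calc v⁻¹ * y * v = (v * v) * y * (v⁻¹ * v⁻¹) := by rw [uu v3, ← e0]
        _ = _ := by group
    rw [e1]
    exact conj_comm f1

end Z0a

theorem AB.zeroA (H : AB u s c z Q X) (k0 : ∀ x ∈ X, ∀ y ∈ X, kap u c x y = 1) {y : G}
    (hy : y ∈ X) : nrm u (ff u c y) = 1 ∧ nrm (c * u * c⁻¹) (u * y * u⁻¹) = 1 ∧
      ff u c (u * y * u⁻¹) * (u * ff u c y * u⁻¹) ∈ C1 s ⊓ C1 z := by
  have n1 := Z0a.one H k0 hy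
  have n2 := Z0a.two H k0 hy
  refine ⟨n1, n2, ?_⟩
  have g1 := Z0a.gz H hy
  have bo' := Z0a.bo H hy
  have yo := Z0a.xo H hy
  have b1 := Z0a.bz H hy
  have by' := bo'.2.2 y yo.1
  have v2 : (c * u * c⁻¹)⁻¹ * y * (c * u * c⁻¹) = y * ff u c y := Z0a.x2 H.cc hy
  have g2 := Z0a.zconj H.cc.hy.zu H.hy.z2 bo'.2.1 b1 by'.symm v2
  rw [n1, mul_one] at g1
  rw [n2, mul_one] at g2
  have vs : c * u * c⁻¹ * (z * s) = z * s * (c * u * c⁻¹) := H.cc.hy.w6.yt
  have us := H.hy.w6.yt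
  obtain ⟨f2, fs, fz, -⟩ := Z0a.basic H hy
  have fy := Z0a.fx H hy hy
  have fb := Z0a.fb k0 hy hy
  have bs := bo'.2.2 s H.sQ
  have ys := yo.2.2 s H.sQ
  have yz := ((H.isX y).1 hy).2.1
  have b2 := bo'.2.1
  have y2 := yo.2.1
  have g3 : u * ff u c y * u⁻¹ * s * (u * ff u c y * u⁻¹)⁻¹ = s * (u * y * u⁻¹) := by
    have e1 : u⁻¹ * s * u = s := by rw [mul_assoc, ← us]; group
    calc _ = u * (ff u c y * (u⁻¹ * s * u) * (ff u c y)⁻¹) * u⁻¹ := by group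
      _ = (u * s) * y * u⁻¹ := by rw [e1, fs]; group
      _ = _ := by rw [us]; group
  have fd : ff u c y = c * u * c⁻¹ * y * (c * u * c⁻¹)⁻¹ := rfl
  have gd : ff u c (u * y * u⁻¹) = c * u * c⁻¹ * (u * y * u⁻¹) * (c * u * c⁻¹)⁻¹ := rfl
  rw [gd]
  generalize u * ff u c y * u⁻¹ = g at *
  generalize u * y * u⁻¹ = b at *
  generalize ff u c y = f at *
  generalize c * u * c⁻¹ = v at *
  have fs' : f * (z * s) = z * s * f := by
    calc f * (z * s) = (f * z * f⁻¹) * (f * s * f⁻¹) * f := by group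
      _ = z * (y * s) * y * f := by rw [fz, fs]; group
      _ = z * s * (y * y) * f := by rw [← ys]; group
      _ = _ := by rw [y2, mul_one]
  have g4 : v * b * v⁻¹ * (z * s) * (v * b * v⁻¹)⁻¹ = z * s * f := by
    have e1 : v⁻¹ * (z * s) * v = z * s := by rw [mul_assoc, ← vs]; group
    calc _ = v * (b * (v⁻¹ * (z * s) * v) * b⁻¹) * v⁻¹ := by group
      _ = v * (b * z * b⁻¹ * (b * s) * b⁻¹) * v⁻¹ := by rw [e1]; group
      _ = v * (z * (y * s)) * v⁻¹ := by rw [b1, ← bs]; group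
      _ = (v * (z * s)) * y * v⁻¹ := by rw [← ys]; group
      _ = _ := by rw [vs, fd]; group
  have g5 : g * (z * s) * g⁻¹ = z * s * f := by
    calc _ = (g * z * g⁻¹) * (g * s * g⁻¹) := by group
      _ = f * y * b * z * (s * b) := by rw [g1, g3]; group
      _ = f * y * (b * z * b⁻¹) * (b * b) * s := by rw [bs]; group
      _ = f * (y * z) * y * s := by rw [b1, b2]; group
      _ = f * z * (y * y) * s := by rw [yz]; group
      _ = _ := by rw [y2, mul_one, mul_assoc, fs']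
  have g6 : g * z * g⁻¹ = v * b * v⁻¹ * z * (v * b * v⁻¹)⁻¹ := by
    rw [g1, g2]
    calc f * (y * b) * z = (f * y) * b * z := by group
      _ = y * (f * b) * z := by rw [fy]; group
      _ = (y * b) * f * z := by rw [fb]; group
      _ = _ := by rw [by']; group
  have p2 : v * b * v⁻¹ * (v * b * v⁻¹) = 1 := conj_sq b2
  generalize v * b * v⁻¹ = p at *
  have key : ∀ t, g * t * g⁻¹ = p * t * p⁻¹ → p * g * t = t * (p * g) := fun t e => by
    calc p * g * t = p * (g * t * g⁻¹) * g := by group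
      _ = (p * p) * t * (p * p)⁻¹ * (p * g) := by rw [e]; group
      _ = _ := by rw [p2]; group
  have k1 := key z g6
  have k2 := key (z * s) (g5.trans g4.symm)
  refine ⟨mem_C1.2 ?_, mem_C1.2 k1⟩
  apply mul_left_cancel (a := z)
  calc z * (p * g * s) = (z * (p * g)) * s := by group
    _ = p * g * (z * s) := by rw [← k1]; group
    _ = _ := by rw [k2]; group

end Cfsg.Lib.N9M
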