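import Cfsg.Agent.N9M.Kit
import Cfsg.Agent.N9M.Fpq

/-! A strongly `3`-embedded subgroup `3 ^ 2 : SD₁₆`: a transvection lemma. -/

set_option autoImplicit false

namespace Cfsg.Lib.N9M

open Subgroup Cfsg.Lib.Trans Cfsg.Lib.SC6
open Cfsg.Lib.Odd3 (conj_mem_of_norm conj_mem_of_norm' mem_norm_of_conj)
open Cfsg.Lib.L3 (sq_cases cube_cases SZ)

variable {G : Type*} [Group G] [Finite G] {u s c z y w h : G} {Q T X : Subgroup G}

namespace Kl

theorem nm_of {g : G} {A B : Subgroup G} (h1 : ∀ a ∈ A, g * a * g⁻¹ ∈ A ⊔ B)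
    (h2 : ∀ a ∈ B, g * a * g⁻¹ ∈ A ⊔ B) : g ∈ Nm (A ⊔ B) := by
  have : A ⊔ B ≤ Trans.cj g⁻¹ (A ⊔ B) :=
    sup_le (fun a ha => mem_cj_inv.2 (h1 a ha)) fun a ha => mem_cj_inv.2 (h2 a ha)
  exact mem_norm_of_conj fun a ha => mem_cj_inv.1 (this ha)

theorem nm_cen {g : G} {A : Subgroup G} (hg : g ∈ Nm A) : g ∈ Nm (centralizer (A : Set G)) :=
  mem_norm_of_conj fun a ha => mem_centralizer_iff.2 fun b hb => by
    have := mem_centralizer_iff.1 ha _ (conj_mem_of_norm' hg hb)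
    calc b * (g * a * g⁻¹) = g * (g⁻¹ * b * g * a) * g⁻¹ := by group
      _ = _ := by rw [this]; group

end Kl

theorem kl (H : Hy u s c z) (x2 : ∀ x ∈ X, x * x = 1) (xs : X ≤ C1 s) (xn : ∀ x ∈ X, nrm u x = 1)
    (xu : ∀ x ∈ X, ∀ y ∈ X, x * (u * y * u⁻¹) = u * y * u⁻¹ * x) (xi : X ⊓ Trans.cj u X = ⊥)
    {t x₀ : G} (t1 : ∀ x ∈ X, t * x = x * t)
    (t2 : ∀ x ∈ X, t * (u * x * u⁻¹) * t⁻¹ * (u * x * u⁻¹)⁻¹ ∈ X) (h0 : x₀ ∈ X) (h1 : x₀ ≠ 1)
    (e : t * (u * x₀ * u⁻¹) = u * x₀ * u⁻¹ * t) :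
    ∀ x ∈ X, t * (u * x * u⁻¹) = u * x * u⁻¹ * t := by
  have u3 : u * u * u = 1 := by rw [← pow_three', H.w6.y3]
  have uu : u * u = u⁻¹ := eq_inv_of_mul_eq_one_left u3
  have ub : ∀ x ∈ X, u * (u * x * u⁻¹) * u⁻¹ = (x * (u * x * u⁻¹))⁻¹ := fun x hx => by
    have := xn x hx
    unfold nrm at this
    rw [← eq_inv_of_mul_eq_one_right this]
    calc _ = u * u * x * (u * u)⁻¹ := by group
      _ = _ := by rw [uu, inv_inv]
  have triv : ∀ x ∈ X, u * x * u⁻¹ ∈ X → x = 1 := fun x hx hb => by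
    have : u * x * u⁻¹ ∈ X ⊓ Trans.cj u X := ⟨hb, conj_mem_cj.2 hx⟩
    rw [xi, mem_bot] at this
    simpa using this
  set F : Subgroup G := X ⊔ Trans.cj u X with hF
  have mX : ∀ x ∈ X, x ∈ F := fun x hx => mem_sup_left hx
  have mB : ∀ x ∈ X, u * x * u⁻¹ ∈ F := fun x hx => mem_sup_right (conj_mem_cj.2 hx)
  have rep : ∀ a ∈ Trans.cj u X, ∃ x ∈ X, a = u * x * u⁻¹ := fun a ha =>
    ⟨u⁻¹ * a * u, mem_cj.1 ha, by group⟩
  have uF : u ∈ Nm F := Kl.nm_of mB fun a ha => by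
    obtain ⟨x, hx, rfl⟩ := rep a ha
    rw [ub x hx]
    exact inv_mem (mul_mem (mX x hx) (mB x hx))
  have tF : t ∈ Nm F := Kl.nm_of (fun a ha => by rw [t1 a ha, mul_inv_cancel_right]; exact mX a ha)
    fun a ha => by
      obtain ⟨x, hx, rfl⟩ := rep a ha
      have := mul_mem (mX _ (t2 x hx)) (mB x hx)
      rwa [inv_mul_cancel_right] at this
  have sD : s ∈ centralizer (F : Set G) := by
    have : F ≤ C1 s := sup_le xs fun a ha => by
      obtain ⟨x, hx, rfl⟩ := rep a ha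
      have := mem_C1.2 H.w6.yt
      exact mul_mem (mul_mem this (xs hx)) (inv_mem this)
    exact mem_centralizer_iff.2 fun b hb => mem_C1.1 (this hb)
  have n := fpq H (C := Nm F ⊓ (C1 x₀ ⊓ C1 (u * x₀ * u⁻¹))) (D := centralizer (F : Set G))
    (H.not3 (x2 _ h0) (b := u * x₀ * u⁻¹) (by
      calc _ = u * (x₀ * x₀) * u⁻¹ := by group
        _ = 1 := by rw [x2 _ h0]; group) h1 (by simpa using h1)
      (fun a => h1 (triv _ h0 (a ▸ h0))) (xu _ h0 _ h0)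
      (inf_le_right.trans inf_le_left) (inf_le_right.trans inf_le_right))
    (nm_inf (nm_self uF) (mem_norm_of_conj fun a ha => by
      have a1 : u * a * u⁻¹ ∈ C1 (u * x₀ * u⁻¹) := mem_C1_conj.2 (by simpa [mul_assoc] using ha.1)
      have a2 : u * a * u⁻¹ ∈ C1 (u * (u * x₀ * u⁻¹) * u⁻¹) :=
        mem_C1_conj.2 (by simpa [mul_assoc] using ha.2)
      rw [ub _ h0] at a2
      refine ⟨mem_C1.2 (mem_C1.1 ?_).symm, a1⟩
      have b1 : u * x₀ * u⁻¹ ∈ C1 (u * a * u⁻¹) := mem_C1.2 (mem_C1.1 a1).symm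
      have b2 : (x₀ * (u * x₀ * u⁻¹))⁻¹ ∈ C1 (u * a * u⁻¹) := mem_C1.2 (mem_C1.1 a2).symm
      exact (mul_mem_cancel_right b1).1 (inv_mem_iff.1 b2)))
    (fun a ha => ⟨centralizer_le_normalizer _ ha,
      mem_C1.2 (mem_centralizer_iff.1 ha _ (mX _ h0)).symm,
      mem_C1.2 (mem_centralizer_iff.1 ha _ (mB _ h0)).symm⟩)
    (fun a ha => Kl.nm_cen ha.1) (Kl.nm_cen uF) sD (a := t)
    ⟨tF, mem_C1.2 (t1 _ h0), mem_C1.2 e⟩
  intro x hx
  have n1 : nrm u t = t * u * (t * u) * (t * u) := by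
    unfold nrm
    rw [show t * (u * t * u⁻¹) * (u⁻¹ * t * u) = t * u * t * (u * u)⁻¹ * t * u by group, uu]
    group
  have k1 := t2 x hx
  have k2 := t2 _ k1
  have g1 := mem_centralizer_iff.1 n _ (inv_mem (mul_mem (mX x hx) (mB x hx)))
  have c1 := xu _ k1 x hx
  have u1 := ub x hx
  have tx := t1 x hx
  set b := u * x * u⁻¹ with hb
  set k := t * b * t⁻¹ * b⁻¹ with hk
  have tb : t * b * t⁻¹ = k * b := by rw [hk]; group
  have s1 : t * u * (x * b)⁻¹ * (t * u)⁻¹ = x := by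
    rw [← u1, hb]
    calc _ = t * (u * u * u) * x * (u * u * u)⁻¹ * t⁻¹ := by group
      _ = _ := by rw [u3, mul_one, inv_one, mul_one, tx]; group
  have s2 : t * u * x * (t * u)⁻¹ = k * b := by rw [← tb, hb]; group
  have s3 : t * u * b * (t * u)⁻¹ = (x * (k * b))⁻¹ := by
    calc _ = t * (u * b * u⁻¹) * t⁻¹ := by group
      _ = (t * x * t⁻¹ * (t * b * t⁻¹))⁻¹ := by rw [u1]; group
      _ = _ := by rw [tb, tx, mul_inv_cancel_right]
  have s4 : t * (u * k * u⁻¹) * t⁻¹ = k := by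
    have q : (x * b)⁻¹ = t * (u * k * u⁻¹) * t⁻¹ * (x * (k * b))⁻¹ := by
      calc (x * b)⁻¹ = nrm u t * (x * b)⁻¹ * (nrm u t)⁻¹ := by rw [← g1]; group
        _ = t * u * (t * u * (t * u * (x * b)⁻¹ * (t * u)⁻¹) * (t * u)⁻¹) * (t * u)⁻¹ := by
          rw [n1]; group
        _ = t * (u * k * u⁻¹) * t⁻¹ * (t * u * b * (t * u)⁻¹) := by rw [s1, s2]; group
        _ = _ := by rw [s3]
    calc _ = (x * b)⁻¹ * (x * (k * b)) := by rw [q]; group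
      _ = b⁻¹ * (k * b) := by group
      _ = _ := by rw [c1]; group
  rw [s4] at k2
  have k3 : k = 1 := triv k k1 (inv_mem_iff.1 ((mul_mem_cancel_left k1).1 k2))
  rw [k3, one_mul] at tb
  exact mul_inv_eq_iff_eq_mul.1 tb

end Cfsg.Lib.N9M
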