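import Cfsg.Agent.N9M.Kit
import Cfsg.Agent.N9M.Cj
import Cfsg.Agent.N9M.Kl

/-! A strongly `3`-embedded subgroup `3 ^ 2 : SD₁₆`: the commutator map of the last configuration. -/

set_option autoImplicit false

namespace Cfsg.Lib.N9M

open Subgroup Cfsg.Lib.Trans Cfsg.Lib.SC6
open Cfsg.Lib.Odd3 (conj_mem_of_norm conj_mem_of_norm' mem_norm_of_conj)
open Cfsg.Lib.L3 (sq_cases cube_cases SZ)

variable {G : Type*} [Group G] [Finite G] {u s c z : G} {Q X : Subgroup G}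

namespace ABkH

omit [Finite G] in
theorem mem (H : AB u s c z Q X) {x : G} (hx : x ∈ X) :
    x ∈ om Q ∧ x * z = z * x ∧ nrm u x = 1 := (H.isX x).1 hx

theorem bQ (H : AB u s c z Q X) {x : G} (hx : x ∈ X) : u * x * u⁻¹ ∈ om Q :=
  conj_mem_om (H.nQ (mem_C1.2 H.hy.w6.yt)) (mem H hx).1

theorem fQ (H : AB u s c z Q X) {x : G} (hx : x ∈ X) : ff u c x ∈ om (Trans.cj c Q) := bQ H.cc hx

theorem bN (H : AB u s c z Q X) {x : G} (hx : x ∈ X) : u * x * u⁻¹ ∈ Nm (Trans.cj c Q) := by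
  have k := H.cc.vQ x hx
  rw [ff, H.hy.cv, inv_inv] at k
  have e : u * x * u⁻¹ = x⁻¹ * nrm u x * (u⁻¹ * x * u)⁻¹ := by rw [nrm]; group
  rw [e, (mem H hx).2.2, mul_one]
  exact mul_mem (inv_mem (nm_self (mem H.cc hx).1.1)) (inv_mem k)

theorem kX (H : AB u s c z Q X) {x y : G} (hx : x ∈ X) (hy : y ∈ X) : kap u c x y ∈ X := by
  have k1 : kap u c x y ∈ om Q := by
    have := mul_mem (bQ H hx) (conj_mem_om (H.vQ y hy) (inv_mem (bQ H hx)))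
    rw [kap]
    convert this using 1
    group
  have k2 : kap u c x y ∈ Trans.cj c Q :=
    (mul_mem (conj_mem_om (bN H hx) (fQ H hy)) (inv_mem (fQ H hy))).1
  refine (H.isX.mem_or H.toQS k1 (H.toQS.r2 k1.1 k2)).resolve_right fun e => H.toQS.sQc ?_
  exact (mul_mem_cancel_left k2).1 (mem H.cc e).1.1

theorem xb (H : AB u s c z Q X) {x y : G} (hx : x ∈ X) (hy : y ∈ X) :
    u * y * u⁻¹ * x = x * (u * y * u⁻¹) := (mem H hx).1.2.2 _ (bQ H hy).1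

theorem xf (H : AB u s c z Q X) {x y : G} (hx : x ∈ X) (hy : y ∈ X) :
    ff u c y * x = x * ff u c y := xb H.cc hx hy

theorem kl' (H : AB u s c z Q X) {t x₀ : G} (t1 : ∀ x ∈ X, t * x = x * t)
    (t2 : ∀ x ∈ X, t * (u * x * u⁻¹) * t⁻¹ * (u * x * u⁻¹)⁻¹ ∈ X) (h0 : x₀ ∈ X) (h1 : x₀ ≠ 1)
    (e : t * (u * x₀ * u⁻¹) = u * x₀ * u⁻¹ * t) :
    ∀ x ∈ X, t * (u * x * u⁻¹) = u * x * u⁻¹ * t :=
  kl H.hy (fun _ hx => (mem H hx).1.2.1) (fun _ hx => H.le (mem H hx).1.1)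
    (fun _ hx => (mem H hx).2.2) (fun _ hx _ hy => (xb H hx hy).symm) (H.isX.inf H.toQS).1 t1 t2 h0 h1 e

theorem add (H : AB u s c z Q X) {x y y' : G} (hx : x ∈ X) (hy : y ∈ X) (hy' : y' ∈ X) :
    kap u c x (y * y') = kap u c x y * kap u c x y' := by
  have e : ff u c (y * y') = ff u c y * ff u c y' := by simp only [ff]; group
  have k := (Commute.inv_left (a := ff u c y) (xf H (kX H hx hy') hy)).eq
  calc kap u c x (y * y') = u * x * u⁻¹ * ff u c y * (u * x * u⁻¹)⁻¹ *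
        (kap u c x y' * (ff u c y)⁻¹) := by simp only [kap, e]; group
    _ = _ := by rw [← k]; simp only [kap]; group

theorem zero (H : AB u s c z Q X) {x₁ y₀ : G} (h1 : x₁ ∈ X) (n1 : x₁ ≠ 1) (h0 : y₀ ∈ X) (n0 : y₀ ≠ 1)
    (e : kap u c x₁ y₀ = 1) : ∀ x ∈ X, ∀ y ∈ X, kap u c x y = 1 := fun x hx y hy => by
  have k1 := kl' H (t := ff u c y₀) (fun a ha => xf H ha h0) (fun a ha => comm_symm (kX H ha h0)) h1 n1
    (eq_of_comm_one e).symm x hx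
  have k2 : u * x * u⁻¹ * ff u c y = ff u c y * (u * x * u⁻¹) :=
    kl' H.cc (t := u * x * u⁻¹) (fun a ha => xb H ha hx) (fun a ha => kX H hx ha) h0 n0 k1.symm y hy
  rw [kap, k2]
  group

theorem one1 (H : AB u s c z Q X) {x₁ y₀ : G} (h1 : x₁ ∈ X) (n1 : x₁ ≠ 1) (h0 : y₀ ∈ X)
    (e : kap u c x₁ y₀ = x₁) : ∀ x ∈ X, kap u c x y₀ = x := by
  have zi : z⁻¹ = z := inv_eq_of_mul_eq_one_right H.hy.z2
  have key : ∀ a ∈ X, ff u c y₀ * z * (u * a * u⁻¹) * (ff u c y₀ * z)⁻¹ * (u * a * u⁻¹)⁻¹ =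
      a * (kap u c a y₀)⁻¹ := fun a ha => by
    have m := mem H ha
    have t := H.toQS.tau0 m.1.1 m.1.2.1 m.2.1 m.2.2
    have f := xf H ha h0
    rw [kap]
    generalize u * a * u⁻¹ = b at t
    generalize ff u c y₀ = g at f
    calc g * z * b * (g * z)⁻¹ * b⁻¹ = g * z * (b * z⁻¹ * b⁻¹) * b * g⁻¹ * b⁻¹ := by group
      _ = g * (z * z) * a * b * g⁻¹ * b⁻¹ := by rw [zi, t]; group
      _ = g * a * b * g⁻¹ * b⁻¹ := by rw [H.hy.z2, mul_one]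
      _ = _ := by rw [f]; group
  intro x hx
  have k := kl' H (t := ff u c y₀ * z) (fun a ha => by
      rw [mul_assoc, ← (mem H ha).2.1, ← mul_assoc, xf H ha h0, mul_assoc])
    (fun a ha => key a ha ▸ mul_mem ha (inv_mem (kX H ha h0))) h1 n1
    (eq_of_comm_one (by rw [key _ h1, e, mul_inv_cancel])) x hx
  have k2 := key x hx
  rw [k, show u * x * u⁻¹ * (ff u c y₀ * z) * (ff u c y₀ * z)⁻¹ * (u * x * u⁻¹)⁻¹ = 1 by group] at k2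
  exact (mul_inv_eq_one.1 k2.symm).symm

theorem one2 (H : AB u s c z Q X) {y₀ : G} (h0 : y₀ ∈ X) (e : ∀ x ∈ X, kap u c x y₀ = x) :
    ∀ x ∈ X, kap u c (c * y₀ * c⁻¹) x = x := fun x hx => by
  have h' := conj_mem_of_norm H.cX h0
  have k := e _ (conj_mem_of_norm' H.cX hx)
  have e1 : c * (u * (c⁻¹ * x * c) * u⁻¹) * c⁻¹ = ff u c x := by rw [ff]; group
  have e2 : c * ff u c y₀ * c⁻¹ = (u * (c * y₀ * c⁻¹) * u⁻¹)⁻¹ * (c * y₀ * c⁻¹)⁻¹ := by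
    calc c * ff u c y₀ * c⁻¹ = c * (c * u * c⁻¹) * c⁻¹ * (c * y₀ * c⁻¹) * (c * (c * u * c⁻¹) * c⁻¹)⁻¹ := by
          rw [ff]; group
      _ = (u * (c * y₀ * c⁻¹) * u⁻¹)⁻¹ * (c * y₀ * c⁻¹)⁻¹ * nrm u (c * y₀ * c⁻¹) := by
          rw [H.hy.cv, nrm]; group
      _ = _ := by rw [(mem H h').2.2, mul_one]
  have e3 : x = ff u c x * (c * ff u c y₀ * c⁻¹) * (ff u c x)⁻¹ * (c * ff u c y₀ * c⁻¹)⁻¹ := by
    calc x = c * kap u c (c⁻¹ * x * c) y₀ * c⁻¹ := by rw [k]; group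
      _ = _ := by rw [← e1, kap]; group
  rw [e2, inv_eq_of_mul_eq_one_right (bQ H h').2.1] at e3
  have f := xf H h' hx
  have x2 := inv_eq_of_mul_eq_one_right (mem H hx).1.2.1
  rw [kap]
  generalize u * (c * y₀ * c⁻¹) * u⁻¹ = b at e3
  generalize c * y₀ * c⁻¹ = y at e3 f
  generalize ff u c x = g at e3 f
  calc b * g * b⁻¹ * g⁻¹ = (g * b * y⁻¹ * (y * g⁻¹) * b⁻¹)⁻¹ := by group
    _ = (g * (b * y⁻¹) * g⁻¹ * (b * y⁻¹)⁻¹)⁻¹ := by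
        rw [← (Commute.inv_left (a := g) f).eq]; group
    _ = x := by rw [← e3, x2]

end ABkH

open ABkH in
theorem AB.basic (H : AB u s c z Q X) {x : G} (hx : x ∈ X) :
    ff u c x * ff u c x = 1 ∧ ff u c x * s * (ff u c x)⁻¹ = s * x ∧
      ff u c x * z * (ff u c x)⁻¹ = z * x ∧ ff u c x ∈ om (Trans.cj c Q) ∧
      u * x * u⁻¹ ∈ Nm (Trans.cj c Q) ∧ ∀ y ∈ X, kap u c y x ∈ X := by
  have m := mem H.cc hx
  have t : ff u c x * z * (ff u c x)⁻¹ = z * x := H.cc.toQS.tau0 m.1.1 m.1.2.1 m.2.1 m.2.2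
  refine ⟨(fQ H hx).2.1, ?_, t, fQ H hx, bN H hx, fun y hy => kX H hy hx⟩
  have k := conj_eq_of_comm ((fQ H hx).2.2 _ H.cc.sQ).symm
  calc ff u c x * s * (ff u c x)⁻¹ = ff u c x * (z * z) * s * (ff u c x)⁻¹ := by rw [H.hy.z2, mul_one]
    _ = ff u c x * z * (ff u c x)⁻¹ * (ff u c x * (z * s) * (ff u c x)⁻¹) := by group
    _ = x * (z * z) * s := by rw [t, k, ← m.2.1]; group
    _ = s * x := by rw [H.hy.z2, mul_one, (mem H hx).1.2.2 s H.sQ]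

open ABkH in
theorem AB.dich (H : AB u s c z Q X) : (∀ x ∈ X, ∀ y ∈ X, kap u c x y = 1) ∨
    ∃ x₀ ∈ X, x₀ ≠ 1 ∧ c * x₀ * c⁻¹ = x₀ ∧ (∀ x ∈ X, kap u c x x₀ = x) ∧
      ∀ y ∈ X, kap u c x₀ y = y := by
  obtain ⟨⟨x₁, h1⟩, n⟩ := ne_bot_iff_exists_ne_one.1 H.ne
  have n1 : x₁ ≠ 1 := fun e => n (Subtype.ext e)
  let φ : X → X := fun y => ⟨kap u c x₁ y, kX H h1 y.2⟩
  by_cases hi : Function.Injective φ
  · obtain ⟨⟨y₀, h0⟩, e⟩ := Finite.injective_iff_surjective.1 hi ⟨x₁, h1⟩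
    have e0 : kap u c x₁ y₀ = x₁ := congrArg Subtype.val e
    have k1 := one1 H h1 n1 h0 e0
    have k2 := one2 H h0 k1
    have e1 : c * y₀ * c⁻¹ = y₀ := (k1 _ (conj_mem_of_norm H.cX h0)).symm.trans (k2 _ h0)
    refine .inr ⟨y₀, h0, fun e2 => n1 ?_, e1, k1, e1 ▸ k2⟩
    rw [← e0, e2, kap, ff]
    group
  · simp only [Function.Injective, not_forall] at hi
    obtain ⟨⟨y, hy⟩, ⟨y', hy'⟩, e, ne⟩ := hi
    have e0 : kap u c x₁ y = kap u c x₁ y' := congrArg Subtype.val e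
    refine .inl (zero H h1 n1 (mul_mem hy hy') (fun e2 => ne (Subtype.ext ?_)) ?_)
    · exact (eq_inv_of_mul_eq_one_left e2).trans (inv_eq_of_mul_eq_one_right (mem H hy').1.2.1)
    · rw [add H h1 hy hy', e0]
      exact (mem H (kX H h1 hy')).1.2.1

end Cfsg.Lib.N9M
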