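import Cfsg.Agent.N9M.Kit
import Cfsg.Agent.N9M.Cj
import Cfsg.Agent.N9M.Fpq
import Cfsg.Agent.N9M.Kl
import Cfsg.Agent.N9M.ABk
import Cfsg.Agent.N9M.AB0a

/-! The element `b ^ v * f ^ u` lies in `Q ⊓ Q ^ c`. -/

set_option autoImplicit false

namespace Cfsg.Lib.N9M

open Subgroup Cfsg.Lib.Trans Cfsg.Lib.SC6
open Cfsg.Lib.Odd3 (conj_mem_of_norm conj_mem_of_norm' mem_norm_of_conj)
open Cfsg.Lib.L3 (sq_cases cube_cases SZ)

variable {G : Type*} [Group G] [Finite G] {u s c z y w h : G} {Q T X : Subgroup G}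

namespace AB0b

omit [Finite G] in
theorem cm_inv2 {a b : G} (a2 : a * a = 1) (b2 : b * b = 1) (e : a * b * (a * b) = 1) :
    a * b = b * a := by
  calc a * b = (a * b)⁻¹ := eq_inv_of_mul_eq_one_left e
    _ = b * a := by rw [mul_inv_rev, inv_eq_of_mul_eq_one_left a2, inv_eq_of_mul_eq_one_left b2]

omit [Finite G] in
theorem back {x : G} (e : nrm u x = 1) : u⁻¹ * x * u = (x * (u * x * u⁻¹))⁻¹ :=
  eq_inv_of_mul_eq_one_right e

/-- The centraliser of `X` and `X ^ u` in the normaliser of `Q`. -/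
def CC (u : G) (Q X : Subgroup G) : Subgroup G where
  carrier := {a | a ∈ Nm Q ∧ ∀ x ∈ X, Commute a x ∧ Commute a (u * x * u⁻¹)}
  one_mem' := ⟨one_mem _, fun _ _ => ⟨Commute.one_left _, Commute.one_left _⟩⟩
  mul_mem' ha hb := ⟨mul_mem ha.1 hb.1, fun x hx =>
    ⟨(ha.2 x hx).1.mul_left (hb.2 x hx).1, (ha.2 x hx).2.mul_left (hb.2 x hx).2⟩⟩
  inv_mem' ha := ⟨inv_mem ha.1, fun x hx => ⟨(ha.2 x hx).1.inv_left, (ha.2 x hx).2.inv_left⟩⟩

variable (H : AB u s c z Q X)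
include H

omit [Finite G] in
theorem xo {x : G} (hx : x ∈ X) : x ∈ om Q := ((H.isX x).1 hx).1

theorem uQ : u ∈ Nm Q := H.nQ (mem_C1.2 H.hy.w6.yt)

theorem bo {x : G} (hx : x ∈ X) : u * x * u⁻¹ ∈ om Q := conj_mem_om (uQ H) (xo H hx)

theorem exR (hy : y ∈ X) (y1 : y ≠ 1) : ∃ R, FP u R (om Q) ∧ R ≤ CC u Q X ∧
    ∀ g ∈ CC u Q X, ∀ n : ℕ, g ^ 2 ^ n = 1 → g ∈ R := by
  refine fp2 H.hy (H.hy.not3 (xo H hy).2.1 (bo H hy).2.1 y1 (conj_ne_one y1) (fun e => y1 ?_)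
    ((bo H hy).2.2 y (xo H hy).1) (fun a ha => mem_C1.2 (ha.2 y hy).1)
    (fun a ha => mem_C1.2 (ha.2 y hy).2)) (mem_norm_of_conj fun a ha => ⟨?_, fun x hx => ⟨?_, ?_⟩⟩)
    (fun a ha => ⟨nm_self ha.1, fun x hx => ⟨(ha.2.2 _ (xo H hx).1).symm,
      (ha.2.2 _ (bo H hx).1).symm⟩⟩) (fun a ha => nm_om Q ha.1) (nm_om Q (uQ H))
    ⟨H.sQ, H.hy.w6.t2, fun a ha => mem_C1.1 (H.le ha)⟩ (H.pg.to_le (om_le Q))
  · rw [← mem_bot, ← (IsX.inf H.toQS H.isX).1]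
    refine ⟨hy, mem_cj.2 ?_⟩
    rw [e]; simpa [mul_assoc] using hy
  · exact mul_mem (mul_mem (uQ H) ha.1) (inv_mem (uQ H))
  · have e : Commute a (u⁻¹ * x * u) := by
      rw [back ((H.isX x).1 hx).2.2]
      exact ((ha.2 x hx).1.mul_right (ha.2 x hx).2).inv_right
    have := conj_comm (g := u) e.eq
    rw [show u * (u⁻¹ * x * u) * u⁻¹ = x by group] at this
    exact this
  · exact conj_comm (ha.2 x hx).1.eq

variable (k0 : ∀ x ∈ X, ∀ y ∈ X, kap u c x y = 1)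
include k0

omit [Finite G] H in
theorem bf {x : G} (hx : x ∈ X) (hy : y ∈ X) : Commute (u * x * u⁻¹) (ff u c y) :=
  (eq_of_comm_one (k0 x hx y hy) :)

theorem fC {x : G} (hx : x ∈ X) : ff u c x ∈ CC u Q X :=
  ⟨H.vQ x hx, fun a ha => ⟨((H.basic hx).2.2.2.1.2.2 a (xo H.cc ha).1).symm,
    (bf k0 ha hx).symm⟩⟩

/-- `b_y ^ v` centralises `X`. -/
theorem gX (hy : y ∈ X) {x : G} (hx : x ∈ X) : Commute (ff u c (u * y * u⁻¹)) x := by
  have e : Commute (u * y * u⁻¹) ((c * u * c⁻¹)⁻¹ * x * (c * u * c⁻¹)) := by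
    rw [back ((H.cc.isX x).1 hx).2.2]
    exact (Commute.mul_right ((bo H hy).2.2 x (xo H hx).1).symm (bf k0 hy hx)).inv_right
  have := conj_comm (g := c * u * c⁻¹) e.eq
  rw [show c * u * c⁻¹ * ((c * u * c⁻¹)⁻¹ * x * (c * u * c⁻¹)) * (c * u * c⁻¹)⁻¹ = x by group]
    at this
  exact this

omit k0 in
theorem gf (hy : y ∈ X) {x : G} (hx : x ∈ X) : Commute (ff u c (u * y * u⁻¹)) (ff u c x) :=
  (conj_comm ((bo H hy).2.2 x (xo H hx).1).symm :)

theorem part (hy : y ∈ X) {x : G} (hx : x ∈ X) :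
    Commute (u * ff u c y * u⁻¹) (ff u c x) := by
  by_cases y1 : y = 1
  · simp [y1, ff]
  obtain ⟨R, hf, RC, hR⟩ := exR H hy y1
  obtain ⟨n1, -, n2, n3⟩ := H.zeroA k0 hy
  have K := H.cc
  have fR : ∀ {x}, x ∈ X → ff u c x ∈ R := fun {x} hx =>
    hR _ (fC H k0 hx) 1 (by rw [pow_one, sq, (H.basic hx).1])
  have gC := RC (hf.conj (fR hy))
  obtain ⟨f2, fs, -, fo, -⟩ := H.basic hy
  have zs := H.hy.zs
  have z2 := H.hy.z2
  have s2 := H.hy.w6.t2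
  have g2 : ff u c (u * y * u⁻¹) * ff u c (u * y * u⁻¹) = 1 := conj_sq (bo H hy).2.1
  have gs : ff u c (u * y * u⁻¹) * (z * s) * (ff u c (u * y * u⁻¹))⁻¹ = z * s * ff u c y := by
    have e1 := H.toQS.tau0 (xo H hy).1 (xo H hy).2.1 ((H.isX y).1 hy).2.1 ((H.isX y).1 hy).2.2
    have e2 := conj_eq_of_comm (mem_C1.1 (H.le (bo H hy).1))
    have e3 := mem_C1.1 (H.le (xo H hy).1)
    have e4 := K.hy.w6.yt
    unfold ff
    generalize c * u * c⁻¹ = v at e4 ⊢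
    generalize u * y * u⁻¹ = b at e1 e2 ⊢
    calc _ = v * b * v⁻¹ * (v * (z * s) * v⁻¹) * (v * b * v⁻¹)⁻¹ := by rw [conj_eq_of_comm e4]
      _ = v * (b * z * b⁻¹ * (b * s * b⁻¹)) * v⁻¹ := by group
      _ = v * (z * s) * y * v⁻¹ := by rw [e1, e2, mul_assoc z, e3]; group
      _ = _ := by rw [e4]; group
  have nX : ∀ x ∈ X, Commute (ff u c (u * y * u⁻¹) * (u * ff u c y * u⁻¹)) x := fun x hx =>
    (gX H k0 hy hx).mul_left (gC.2 x hx).1
  have ns : Commute (ff u c (u * y * u⁻¹) * (u * ff u c y * u⁻¹)) (z * s) :=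
    Commute.mul_right (mem_C1.1 n3) (mem_C1.1 n2)
  have gg : Commute (u * ff u c y * u⁻¹) (ff u c y) := by
    refine (cm_inv2 f2 (conj_sq f2) ?_).symm
    have e := conj_sq (g := u⁻¹) f2
    rw [inv_inv, back n1, ← mul_inv_rev] at e
    exact inv_eq_one.1 e
  have key := kl K.hy (fun x hx => (xo H hx).2.1) (fun x hx => K.le (xo K hx).1)
    (fun x hx => ((K.isX x).1 hx).2.2)
    (fun x hx y hy => (H.basic hy).2.2.2.1.2.2 x (xo K hx).1) (IsX.inf K.toQS K.isX).1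
    (t := ff u c (u * y * u⁻¹) * (u * ff u c y * u⁻¹)) (fun x hx => nX x hx) (fun x hx => ?_) hy y1
    ((gf H hy hy).mul_left gg)
  · have := (gf H hy hx).inv_left.mul_left (key x hx : Commute _ (ff u c x))
    rwa [inv_mul_cancel_left] at this
  obtain ⟨-, -, xz, xo', -⟩ := H.basic hx
  have p := hf.cc (fR hx) (fR hy) (comm_mem_of_eq (xo'.2.2 _ fo.1))
  have c1 := (gf H hy hx).eq
  have c2 := (nX x hx).eq
  have c3 := mem_C1.1 n3
  have c4 := fun a ha => gX H k0 hy (x := a) ha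
  have q : _ * ff u c x * _ * (ff u c x)⁻¹ ∈ om (cj c Q) :=
    mul_mem (conj_mem_om (K.nQ (mem_C1.2 ns.eq)) xo') (inv_mem xo')
  change _ * ff u c x * _ * (ff u c x)⁻¹ ∈ X
  generalize ff u c x = f' at *
  generalize ff u c (u * y * u⁻¹) = g' at *
  generalize ff u c y = f at *
  generalize u * f * u⁻¹ = g at *
  have q1 := q.2.2 x (xo K hx).1
  have e0 : g' * g * f' * (g' * g)⁻¹ * f'⁻¹ = g' * (g * f' * g⁻¹ * f'⁻¹) * g'⁻¹ := by
    calc _ = g' * (g * f' * g⁻¹ * f'⁻¹) * g'⁻¹ * (g' * f' * g'⁻¹) * f'⁻¹ := by group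
      _ = _ := by rw [conj_eq_of_comm c1]; group
  refine (IsX.mem_or K.toQS K.isX q ?_).resolve_right fun e => y1 ?_
  · generalize g' * g = n at *
    have zf : f' * z = z * x * f' := by rw [← xz]; group
    have zf' : f'⁻¹ * z = z * f'⁻¹ * x⁻¹ := by
      have : z * f'⁻¹ * x⁻¹ = z * (z * x * f')⁻¹ * z := by group
      rw [this, ← zf, mul_inv_rev, mul_inv_cancel_left]
    have c5 : n⁻¹ * z = z * n⁻¹ := (Commute.inv_left c3 :)
    have x2 := (xo H hx).2.1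
    calc n * f' * n⁻¹ * f'⁻¹ * z = n * f' * (n⁻¹ * z) * f'⁻¹ * x⁻¹ := by
          rw [mul_assoc _ f'⁻¹, zf']; group
      _ = n * z * x * f' * n⁻¹ * f'⁻¹ * x⁻¹ := by
          rw [c5, ← mul_assoc, mul_assoc n f' z, zf]; group
      _ = z * (n * x) * f' * n⁻¹ * f'⁻¹ * x⁻¹ := by rw [c3]; group
      _ = z * (x * (n * f' * n⁻¹ * f'⁻¹)) * x⁻¹ := by rw [c2]; group
      _ = _ := by rw [q1]; group
  · rw [e0] at e
    generalize g * f' * g⁻¹ * f'⁻¹ = φ at *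
    have e1 := conj_eq_of_comm (c4 _ e).inv_left.eq
    have gi : g'⁻¹ = g' := inv_eq_of_mul_eq_one_left g2
    have e2 : g' * φ * g'⁻¹ * (z * s) = φ * (z * s * f) := by
      rw [← e1, ← gs, gi]
      rw [gi]
      calc _ = g' * g' * φ * (g' * (z * s) * g') := by group
        _ = _ := by rw [g2, one_mul]
    rw [e2] at e
    have a1 : Commute φ s := (p.2.2 s H.sQ).symm
    have a2 : Commute (φ * (z * s * f)) s := mem_C1.1 (H.le (xo H e).1)
    have a3 : Commute (z * s) s := Commute.mul_left zs rfl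
    have a4 := a3.inv_left.mul_left (a1.inv_left.mul_left a2)
    rw [inv_mul_cancel_left, inv_mul_cancel_left] at a4
    rw [conj_eq_of_comm a4.eq] at fs
    exact (left_eq_mul.1 fs)

theorem kcc : ∀ x ∈ X, ∀ y ∈ X, kap (c * u * c⁻¹) c x y = 1 := fun x hx y hy => by
  have e : Commute (ff u c x) (ff (c * u * c⁻¹) c y) := by
    unfold ff
    rw [H.hy.cv, inv_inv, back ((H.isX y).1 hy).2.2]
    exact (((fC H k0 hx).2 y hy).1.mul_right ((fC H k0 hx).2 y hy).2).inv_right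
  unfold kap
  change ff u c x * _ * (ff u c x)⁻¹ * _ = 1
  rw [e.eq]; group

/-- `b_y ^ v` centralises `X ^ u`. -/
theorem gb (hy : y ∈ X) {x : G} (hx : x ∈ X) : Commute (ff u c (u * y * u⁻¹)) (u * x * u⁻¹) := by
  have e := part H.cc (kcc H k0) hy hx
  unfold ff at e
  rw [H.hy.cv, inv_inv, back ((H.isX y).1 hy).2.2, back ((H.isX x).1 hx).2.2] at e
  have e1 : c * u * c⁻¹ * (y * (u * y * u⁻¹))⁻¹ * (c * u * c⁻¹)⁻¹ =
      (ff u c y * ff u c (u * y * u⁻¹))⁻¹ := by unfold ff; group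
  rw [e1, Commute.inv_inv_iff] at e
  have a := (((fC H k0 hy).2 x hx).1.mul_right ((fC H k0 hy).2 x hx).2).inv_left.mul_left e
  rw [inv_mul_cancel_left] at a
  have := (gX H k0 hy hx).inv_right.mul_right a
  rwa [inv_mul_cancel_left] at this

end AB0b

open AB0b in
theorem AB.zeroB (H : AB u s c z Q X) (k0 : ∀ x ∈ X, ∀ y ∈ X, kap u c x y = 1) {y : G}
    (hy : y ∈ X) : ff u c (u * y * u⁻¹) * (u * ff u c y * u⁻¹) ∈ Q ⊓ Trans.cj c Q ∧
      ∀ x ∈ X, u * ff u c y * u⁻¹ * ff u c x = ff u c x * (u * ff u c y * u⁻¹) := by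
  refine ⟨?_, fun x hx => part H k0 hy hx⟩
  by_cases y1 : y = 1
  · simp [y1, ff, one_mem]
  obtain ⟨R, hf, RC, hR⟩ := exR H hy y1
  obtain ⟨-, -, n2, n3⟩ := H.zeroA k0 hy
  have K := H.cc
  have f2 := (H.basic hy).1
  have gR := hf.conj (hR _ (fC H k0 hy) 1 (by rw [pow_one, sq, f2]))
  have gC := RC gR
  have g2 := conj_sq (g := u) f2
  have g2' : ff u c (u * y * u⁻¹) * ff u c (u * y * u⁻¹) = 1 := conj_sq (bo H hy).2.1
  have nC : ff u c (u * y * u⁻¹) * (u * ff u c y * u⁻¹) ∈ CC u Q X := ⟨H.nQ n2, fun x hx =>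
    ⟨(gX H k0 hy hx).mul_left (gC.2 x hx).1, (gb H k0 hy hx).mul_left (gC.2 x hx).2⟩⟩
  have nf : ∀ x ∈ X, Commute (ff u c (u * y * u⁻¹) * (u * ff u c y * u⁻¹)) (ff u c x) :=
    fun x hx => (gf H hy hx).mul_left (part H k0 hy hx)
  generalize ff u c (u * y * u⁻¹) = g' at *
  generalize u * ff u c y * u⁻¹ = g at *
  have ns : Commute (g' * g) s := mem_C1.1 n2
  have ns' : Commute (g' * g) (z * s) := Commute.mul_right (mem_C1.1 n3) ns
  obtain ⟨k, hk⟩ := hf.pg ⟨_, mul_mem (hR _ (mul_mem (mul_mem nC gC) (inv_mem nC)) 1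
    (by rw [pow_one, sq, conj_sq g2])) gR⟩
  have hk' : (g' * g) ^ 2 ^ (k + 1) = 1 := by
    have e : g' * g * g * (g' * g)⁻¹ * g = (g' * g) ^ 2 := by
      rw [mul_inv_rev, inv_eq_of_mul_eq_one_left g2, inv_eq_of_mul_eq_one_left g2', mul_assoc g', g2,
        sq]
      group
    rw [pow_succ', pow_mul, ← e]
    exact congrArg Subtype.val hk
  refine ⟨H.hK _ n2 _ hk' fun f hf => ?_, K.hK _ (mem_C1.2 ns'.eq) _ hk' fun f hf => ?_⟩
  · obtain ⟨-, a, ha, b, hb, rfl | rfl⟩ := IsX.dec H.toQS H.isX hf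
    · exact (nC.2 a ha).1.mul_right (nC.2 b hb).2
    · exact (ns.mul_right (nC.2 a ha).1).mul_right (nC.2 b hb).2
  · obtain ⟨-, a, ha, b, hb, rfl | rfl⟩ := IsX.dec K.toQS K.isX hf
    · exact (nC.2 a ha).1.mul_right (nf b hb)
    · exact (ns'.mul_right (nC.2 a ha).1).mul_right (nf b hb)

end Cfsg.Lib.N9M
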