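import Cfsg.Agent.N9M.Defs
import Cfsg.Agent.Solv.Factor
import Mathlib.GroupTheory.FixedPointFree

/-! Involutions modulo `s` in a coset `C z`, and generation of `Q`. -/

set_option autoImplicit false

namespace Cfsg.Lib.N9M

open Subgroup Cfsg.Lib.Trans Cfsg.Lib.SC6
open Cfsg.Lib.Odd3 (conj_mem_of_norm conj_mem_of_norm' mem_norm_of_conj)
open Cfsg.Lib.L3 (sq_cases cube_cases SZ)

variable {G : Type*} [Group G] [Finite G] {u s c z : G} {Q : Subgroup G}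

namespace Gen

theorem surj {y a : G} {R D : Subgroup G} (h : FP y R D) (ha : a ∈ R) :
    ∃ b ∈ R, b * y * b⁻¹ * y⁻¹ * a⁻¹ ∈ D := by
  obtain ⟨_, f, h1, h2⟩ := h.quot
  obtain ⟨x, hx⟩ := MonoidHom.FixedPointFree.commutatorMap_surjective (φ := f) h1.fpf
    ((⟨a, ha⟩ : R) : R ⧸ D.subgroupOf R)
  obtain ⟨b, rfl⟩ := QuotientGroup.mk_surjective x
  rw [MonoidHom.commutatorMap_apply, h2, ← mul_inv_eq_one, div_eq_mul_inv, ← QuotientGroup.mk_inv,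
    ← QuotientGroup.mk_inv, ← QuotientGroup.mk_mul, ← QuotientGroup.mk_mul,
    QuotientGroup.eq_one_iff] at hx
  refine ⟨b, b.2, ?_⟩
  have : (b : G) * (y * b * y⁻¹)⁻¹ * a⁻¹ ∈ D := hx
  convert this using 1; group

omit [Finite G] in
theorem zs (H : Hy u s c z) : z * s = s * z := by
  have h1 : z * s * (z * s) = 1 := H.sc ▸ conj_sq H.w6.t2
  calc z * s = (z * s)⁻¹ := eq_inv_of_mul_eq_one_left h1
    _ = s * z := by
      rw [mul_inv_rev, inv_eq_of_mul_eq_one_right H.w6.t2, inv_eq_of_mul_eq_one_right H.z2]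

theorem loc (H : QS u s c z Q) : Loc s u Q :=
  H.hy.w6.loc H.pg H.sQ H.le (H.nQ (mem_C1.2 H.hy.w6.yt))

end Gen

theorem kb0 (H : Hy u s c z) {C : Subgroup G} (hl : Loc s u C) (zC : z ∈ Nm C) {g : G}
    (e : g * z⁻¹ ∈ C) (g2 : g * g ∈ zpowers s) :
    ∃ b ∈ C, b * g * b⁻¹ = z ∨ b * g * b⁻¹ = z * s := by
  have hf := hl.fp
  have cs : ∀ {x a : G}, x * s = s * x → a ∈ zpowers s → x * a = a * x := fun hx ha =>
    (mem_C1.1 ((zpowers_le.2 (mem_C1.2 hx.symm) : _ ≤ C1 _) ha)).symm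
  have gs : g * s = s * g := by
    have := mul_mem (mem_C1.2 (hl.cen _ e)) (mem_C1.2 (Gen.zs H))
    rw [inv_mul_cancel_right] at this
    exact mem_C1.1 this
  have e1 : g * u * g⁻¹ * u⁻¹ * u⁻¹ ∈ C := by
    have := mul_mem e (hf.conj' (inv_mem e))
    convert this using 1
    calc _ = g * z⁻¹ * (z * u * z⁻¹) * (g * z⁻¹)⁻¹ * u * (u ^ 3)⁻¹ := by rw [pow_three']; group
      _ = _ := by rw [H.zu, hf.y3]; group
  obtain ⟨a, ha, e2⟩ := Gen.surj hf e1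
  obtain ⟨σ, hσ⟩ : ∃ σ, σ = a * u * a⁻¹ * u⁻¹ * (g * u * g⁻¹ * u⁻¹ * u⁻¹)⁻¹ := ⟨_, rfl⟩
  rw [← hσ] at e2
  have e3 : a * u * a⁻¹ = σ * (g * u * g⁻¹ * u⁻¹) := by rw [hσ]; group
  have σ2 : σ * σ = 1 := (hl.zp_om e2).2.1
  have e4 : g * (a * u * a⁻¹) * g⁻¹ = (a * u * a⁻¹)⁻¹ := by
    rw [e3]
    have c1 := cs gs e2
    have c2 := cs hl.yt e2
    have c3 := cs hl.yt g2
    calc _ = g * σ * g * u * g⁻¹ * u⁻¹ * g⁻¹ := by group
      _ = σ * (g * g * u) * g⁻¹ * u⁻¹ * g⁻¹ := by rw [c1]; group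
      _ = σ * u * g * u⁻¹ * g⁻¹ := by rw [← c3]; group
      _ = u * (g * σ * g⁻¹) * g * u⁻¹ * g⁻¹ := by rw [← c2, c1]; group
      _ = u * g * (u⁻¹ * (u * σ) * u⁻¹) * g⁻¹ := by group
      _ = u * g * u⁻¹ * g⁻¹ * (g * σ * g⁻¹) := by rw [c2]; group
      _ = _ := by rw [c1, mul_inv_cancel_right, mul_inv_rev, inv_eq_of_mul_eq_one_right σ2]; group
  have e5 : a⁻¹ * g * a * z⁻¹ ∈ C := by
    have := mul_mem (mul_mem (inv_mem ha) e) (conj_mem_of_norm zC ha)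
    convert this using 1; group
  have e6 := hf.fpf _ e5 (comm_mem_of_eq (by
    calc _ = a⁻¹ * (a * u * a⁻¹ * g) * a * z⁻¹ := by group
      _ = a⁻¹ * (g * (a * u * a⁻¹)⁻¹) * a * z⁻¹ := by
        rw [show g * (a * u * a⁻¹)⁻¹ = (g * (a * u * a⁻¹) * g⁻¹)⁻¹ * g by group, e4, inv_inv]
      _ = a⁻¹ * g * a * z⁻¹ * (z * u * z⁻¹)⁻¹ := by group
      _ = _ := by rw [H.zu, inv_inv]))
  refine ⟨a⁻¹, inv_mem ha, (sq_cases hl.t2 e6).imp (fun h => ?_) fun h => ?_⟩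
  · rw [inv_inv, ← mul_inv_eq_one, h]
  · rw [inv_inv, Gen.zs H, ← h, inv_mul_cancel_right]

theorem QS.gen (H : QS u s c z Q) {C : Subgroup G} (hC : C ≤ Q) (hu : u ∈ Nm C)
    (e : ∀ a ∈ Q, a * z * a⁻¹ * z⁻¹ ∈ zpowers s → a ∈ C) : Q ≤ C := by
  have := Fact.mk Nat.prime_two
  have zs := Gen.zs H.hy
  have zi : z⁻¹ = z := inv_eq_of_mul_eq_one_right H.hy.z2
  have zQ : z ∈ Nm Q := H.nQ (mem_C1.2 zs)
  have sC : s ∈ C := e s H.sQ (comm_mem_of_eq zs.symm)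
  have e0 : ∀ a ∈ Q, a * z * a⁻¹ * z⁻¹ ∈ zpowers s → a ∈ C ⊓ cj z C := fun a ha h =>
    ⟨e a ha h, mem_cj.2 (by
      have := mul_mem (inv_mem (zpowers_le.2 sC h)) (e a ha h)
      rw [show (a * z * a⁻¹ * z⁻¹)⁻¹ * a = z * a * z⁻¹ by group, zi] at this
      rwa [zi])⟩
  have z0 : z ∈ Nm (C ⊓ cj z C) := mem_norm_of_conj fun a ha =>
    ⟨by simpa [zi] using mem_cj.1 ha.2, conj_mem_cj.2 ha.1⟩
  have u0 : u ∈ Nm (C ⊓ cj z C) := mem_norm_of_conj fun a ha =>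
    ⟨conj_mem_of_norm hu ha.1, mem_cj.2 (by
      have := conj_mem_of_norm' hu (mem_cj.1 ha.2)
      convert this using 1
      calc _ = z * u * z⁻¹ * (z⁻¹ * a * z) * (z * u * z⁻¹)⁻¹ := by
            rw [zi]
            calc _ = z * u * 1 * a * 1 * u⁻¹ * z := by group
              _ = _ := by rw [← H.hy.z2, mul_inv_rev, mul_inv_rev, zi]; group
        _ = _ := by rw [H.hy.zu, inv_inv])⟩
  by_contra hn
  obtain ⟨x, x1, x2, -, -, x3⟩ := Solv.PG.exists_step_elt (p := 2) (pg_zp H.hy.z2) H.pg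
    (zpowers_le.2 z0) (zpowers_le.2 zQ)
    (lt_of_le_not_ge (inf_le_left.trans hC) fun h => hn (h.trans inf_le_left))
  obtain ⟨b, hb, h⟩ := kb0 H.hy ((Gen.loc H).sub (e0 s H.sQ (comm_mem_of_eq zs.symm))
    (inf_le_left.trans hC) u0) z0 (g := x * z * x⁻¹) (x3 z (mem_sup_left (mem_zpowers z)))
    (by rw [conj_sq H.hy.z2]; exact one_mem _)
  refine x2 ((mul_mem_cancel_left hb).1 (e0 _ (mul_mem (hC hb.1) x1) ?_))
  rw [show b * x * z * (b * x)⁻¹ = b * (x * z * x⁻¹) * b⁻¹ by group]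
  rcases h with h | h
  · rw [h, mul_inv_cancel]; exact one_mem _
  · rw [h, zs, mul_inv_cancel_right]; exact mem_zpowers s

theorem QS.cardY1 (H : QS u s c z Q) :
    Nat.card ↥(Q ⊓ cm (zpowers s) z) * Nat.card ↥(Q ⊓ cm (zpowers s) z) ≤ 2 * Nat.card Q := by
  have hl := Gen.loc H
  have hf := hl.fp
  have zN : z ∈ Nm (zpowers s) := nm_zp (Gen.zs H.hy)
  have h1 : Q ⊓ cm (zpowers s) z ⊓ cj u (Q ⊓ cm (zpowers s) z) ≤ zpowers s := fun a ha => by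
    have a1 : z ∈ cm (zpowers s) a := ⟨zN, comm_symm ha.1.2.2⟩
    have a2 : u * z * u⁻¹ ∈ cm (zpowers s) a := ⟨mul_mem (mul_mem hf.yD zN) (inv_mem hf.yD), by
      have := conj_mem_of_norm hf.yD (comm_symm (mem_cj.1 ha.2).2.2)
      convert this using 1; group⟩
    have a3 := mul_mem a1 (inv_mem a2)
    rw [show z * (u * z * u⁻¹)⁻¹ = u by
      calc _ = z * u * z⁻¹ * u⁻¹ * 1 := by group
        _ = u := by rw [H.hy.zu, ← hf.y3, pow_three']; group] at a3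
    exact hf.fpf a ha.1.1 a3.2
  have h2 := Solv.card_mul_card_le_of_le (inf_le_left : Q ⊓ cm (zpowers s) z ≤ Q)
    (cj_le_iff.2 fun a ha => hf.conj ha.1 : cj u (Q ⊓ cm (zpowers s) z) ≤ Q)
  have h3 := Subgroup.card_le_of_le h1
  rw [card_zp hl.t2 hl.t1] at h3
  rw [card_cj] at h2
  nlinarith

end Cfsg.Lib.N9M
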