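import Cfsg.Agent.N9M.AB0b
import Cfsg.Agent.N9M.Gen

/-! The configuration `AB` with trivial commutators: `Q ⊓ Q ^ c` centralises two conjugates. -/

set_option autoImplicit false

namespace Cfsg.Lib.N9M

open Subgroup Cfsg.Lib.Trans Cfsg.Lib.SC6
open Cfsg.Lib.Odd3 (conj_mem_of_norm conj_mem_of_norm' mem_norm_of_conj)
open Cfsg.Lib.L3 (sq_cases cube_cases SZ)

variable {G : Type*} [Group G] [Finite G] {u s c z : G} {Q X : Subgroup G}

namespace AB0c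

omit [Finite G] in
theorem nrm_cj (u x : G) : nrm u (u * x * u⁻¹) = u * nrm u x * u⁻¹ := by unfold nrm; group

omit [Finite G] in
theorem nrm_cj' (u x : G) : nrm u (u⁻¹ * x * u) = u⁻¹ * nrm u x * u := by unfold nrm; group

theorem nrm_mul (hu : u ∈ Nm Q) {a b : G} (ha : a ∈ om Q) (hb : b ∈ Q) :
    nrm u (a * b) = nrm u a * nrm u b := by
  have a1 := (conj_mem_om hu ha).2.2 b hb
  have a2 := (conj_mem_of_norm' (nm_om Q hu) ha).2.2 _ (mul_mem hb (conj_mem_of_norm hu hb))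
  calc nrm u (a * b) = a * (b * (u * a * u⁻¹)) * (u * b * u⁻¹) * (u⁻¹ * a * u) * (u⁻¹ * b * u) := by
        unfold nrm; group
    _ = a * (u * a * u⁻¹) * (b * (u * b * u⁻¹) * (u⁻¹ * a * u)) * (u⁻¹ * b * u) := by
        rw [a1]; group
    _ = _ := by rw [a2]; unfold nrm; group

variable (H : AB u s c z Q X)
include H

omit [Finite G] in
theorem uQ : u ∈ Nm Q := H.nQ (mem_C1.2 H.hy.w6.yt)

omit [Finite G] in
theorem xo {x : G} (hx : x ∈ X) : x ∈ om Q := ((H.isX x).1 hx).1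

omit [Finite G] in
theorem xn {x : G} (hx : x ∈ X) : nrm u x = 1 := ((H.isX x).1 hx).2.2

omit [Finite G] in
theorem xc {x : G} (hx : x ∈ X) : x ∈ cj c Q := mem_cj.2 (xo H (conj_mem_of_norm' H.cX hx)).1

/-- The third conjugate of an element of norm one. -/
theorem third {m : G} (h1 : m ∈ om Q) (h2 : nrm u m = 1) :
    m * (u⁻¹ * m * u) = u * m * u⁻¹ := by
  have a1 := conj_mem_om (uQ H) h1
  have e : u * m * u⁻¹ * (m * (u⁻¹ * m * u)) = 1 := by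
    rw [← mul_assoc, h1.2.2 _ a1.1]; exact h2
  rw [← inv_eq_of_mul_eq_one_right e, inv_eq_of_mul_eq_one_right a1.2.1]

variable (k0 : ∀ x ∈ X, ∀ y ∈ X, kap u c x y = 1)
include k0

theorem fcen {y m : G} (hy : y ∈ X) (h1 : m ∈ om Q) (h2 : nrm u m = 1) :
    ff u c y * m = m * ff u c y := by
  obtain ⟨-, a, ha, b, hb, e⟩ := IsX.dec H.toQS H.isX h1
  have b1 := conj_mem_om (uQ H) (xo H hb)
  have ab : a * (u * b * u⁻¹) ∈ Q := mul_mem (xo H ha).1 b1.1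
  rcases e with rfl | e
  · have e1 := (H.basic hy).2.2.2.1.2.2 a (xc H ha)
    have e2 : u * b * u⁻¹ * ff u c y = ff u c y * (u * b * u⁻¹) := eq_of_comm_one (k0 b hb y hy)
    rw [← mul_assoc, ← e1, mul_assoc, ← e2, mul_assoc a]
  · refine absurd ?_ H.hy.w6.t1
    rw [e, mul_assoc, ← mem_C1.1 (H.le ab), H.toQS.nrm_s ab, nrm_mul (uQ H) (xo H ha) b1.1,
      xn H ha, nrm_cj, xn H hb] at h2
    simpa using h2

theorem step1 {y q : G} (hy : y ∈ X) (hq : q ∈ Q) :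
    q * ff u c y * q⁻¹ * (ff u c y)⁻¹ ∈ om Q ∧ nrm u (q * ff u c y * q⁻¹ * (ff u c y)⁻¹) = 1 := by
  obtain ⟨f2, fs, -, fo, -, -⟩ := H.basic hy
  set f := ff u c y with hf
  have so : s ∈ om Q := ⟨H.sQ, H.hy.w6.t2, fun a ha => mem_C1.1 (H.le ha)⟩
  have key : ∀ q ∈ Q, q * f * q⁻¹ * f⁻¹ ∈ om Q := by
    let C : Subgroup G := Nm Q ⊓ centralizer {m | m ∈ om Q ∧ nrm u m = 1}
    have QC : Q ≤ C := fun a ha => ⟨nm_self ha, mem_centralizer_iff.2 fun m hm =>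
      (hm.1.2.2 a ha).symm⟩
    obtain ⟨x, hx, x1⟩ := (Subgroup.bot_or_exists_ne_one X).resolve_left H.ne
    have b1 := conj_mem_om (uQ H) (xo H hx)
    have h3 : ¬ 3 ∣ Nat.card C := H.hy.not3 (xo H hx).2.1 b1.2.1 x1 (conj_ne_one x1)
      (fun e => x1 (by
        rw [← mem_bot, ← (IsX.inf H.toQS H.isX).1]
        exact ⟨hx, e ▸ conj_mem_cj.2 hx⟩))
      (b1.2.2 _ (xo H hx).1)
      (fun g hg => mem_C1.2 (mem_centralizer_iff.1 hg.2 x ⟨xo H hx, xn H hx⟩).symm)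
      (fun g hg => mem_C1.2 (mem_centralizer_iff.1 hg.2 _
        ⟨b1, by rw [nrm_cj, xn H hx]; group⟩).symm)
    have uC : u ∈ Nm C := mem_norm_of_conj fun g hg =>
      ⟨(Nm Q).mul_mem ((Nm Q).mul_mem (uQ H) hg.1) ((Nm Q).inv_mem (uQ H)),
        mem_centralizer_iff.2 fun m hm => by
        have := mem_centralizer_iff.1 hg.2 (u⁻¹ * m * u)
          ⟨conj_mem_of_norm' (nm_om Q (uQ H)) hm.1, by rw [nrm_cj', hm.2]; group⟩
        simpa [mul_assoc] using conj_comm (g := u) this⟩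
    obtain ⟨R, fp, -, hR⟩ := fp2 H.hy h3 uC ((om_le Q).trans QC) (fun g hg => nm_om Q hg.1)
      (nm_om Q (uQ H)) so (H.pg.to_le (om_le Q))
    have fR : f ∈ R := hR f ⟨H.vQ y hy, mem_centralizer_iff.2 fun m hm =>
      (fcen H k0 hy hm.1 hm.2).symm⟩ 1 (by rw [pow_one, sq, f2])
    have QR : Q ≤ R := fun a ha => by
      obtain ⟨n, hn⟩ := H.pg ⟨a, ha⟩
      exact hR a (QC ha) n (congrArg Subtype.val hn)
    have hs : s ∈ cm (om Q) f := ⟨nm_self so, by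
      have : s * f * s⁻¹ * f⁻¹ = s * (f * s * f⁻¹)⁻¹ := by group
      rw [this, fs]
      exact mul_mem so (inv_mem (mul_mem so (xo H hy)))⟩
    have hc : ∀ a ∈ Q, a ∈ cj c Q → a ∈ cm (om Q) f := fun a ha hb =>
      ⟨nm_om Q (nm_self ha), comm_mem_of_eq (fo.2.2 a hb)⟩
    refine fun q hq => (H.toQS.gen (C := Q ⊓ cm (om Q) f) inf_le_left
      (mem_norm_of_conj fun g hg => ⟨conj_mem_of_norm (uQ H) hg.1,
        nm_om Q (nm_self (conj_mem_of_norm (uQ H) hg.1)), fp.cc fR (QR hg.1) hg.2.2⟩)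
      (fun a ha e => ⟨ha, ?_⟩) hq).2.2
    rcases sq_cases H.hy.w6.t2 e with e | e
    · rcases H.hY a ha (eq_of_comm_one e) with h | h
      · exact hc a ha h
      · exact (mul_mem_cancel_right hs).1 (hc _ (mul_mem ha H.sQ) h)
    · refine absurd ⟨a⁻¹ * c, ?_⟩ H.zD
      calc _ = a⁻¹ * (c * s * c⁻¹) * a := by group
        _ = a⁻¹ * (a * z * a⁻¹ * z⁻¹ * z) * a := by rw [H.hy.sc, H.hy.zs, e]
        _ = z := by group
  refine ⟨key q hq, (H.toQS.nrm_cases (key q hq).1).resolve_right fun e => ?_⟩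
  have mo := key q hq
  set m := q * f * q⁻¹ * f⁻¹ with hm
  have fi : f⁻¹ = f := inv_eq_of_mul_eq_one_right f2
  have e1 : f * m * f⁻¹ = m := by
    calc f * m * f⁻¹ = f * q * f * q⁻¹ * (f * f)⁻¹ := by rw [hm]; group
      _ = f * q * f⁻¹ * q⁻¹ := by rw [f2, fi]; group
      _ = m⁻¹ := by rw [hm]; group
      _ = _ := inv_eq_of_mul_eq_one_right mo.2.1
  have e2 : f * (m * s) * f⁻¹ = m * s := conj_eq_of_comm (fcen H k0 hy (mul_mem mo so)
    (by rw [H.toQS.nrm_s mo.1, e, H.hy.w6.t2]))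
  have y1 : y = 1 := by
    have : m * (s * y) = m * s := by
      rw [← fs, ← e2]
      conv_lhs => rw [← e1]
      group
    simpa using this
  have f1 : f = 1 := by rw [hf, y1, ff]; group
  rw [hm, f1] at e
  exact H.hy.w6.t1 (by rw [← e]; unfold nrm; group)

theorem mu {y r : G} (hy : y ∈ X) (hr : r ∈ Q ⊓ cj c Q) : ∃ m ∈ X,
    u * ff u c y * u⁻¹ * r * (u * ff u c y * u⁻¹)⁻¹ = r * m ∧
    ff u c y * (u * r * u⁻¹) * (ff u c y)⁻¹ = u * r * u⁻¹ * (u * m * u⁻¹) ∧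
    u * ff u c y * u⁻¹ * nrm u r * (u * ff u c y * u⁻¹)⁻¹ = nrm u r * (u * m * u⁻¹) := by
  obtain ⟨f2, -, -, fo, bn, -⟩ := H.basic hy
  obtain ⟨s1, s2⟩ := step1 H k0 hy (conj_mem_of_norm' (uQ H) (inv_mem hr.1))
  have nf := (H.zeroA k0 hy).1
  have ρ := (H.zeroB k0 hy).1
  have vn : c * u * c⁻¹ ∈ Nm (cj c Q) := uQ H.cc
  have g' : ff u c (u * y * u⁻¹) ∈ Nm (cj c Q) := mul_mem (mul_mem vn bn) (inv_mem vn)
  have u3 := H.hy.w6.y3
  have fm := fun m => fcen H k0 (m := m) hy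
  set f := ff u c y
  have gn : u * f * u⁻¹ ∈ Nm (cj c Q) := (mul_mem_cancel_left g').1 (nm_self ρ.2)
  set g := u * f * u⁻¹ with hg
  set m := r⁻¹ * (g * r * g⁻¹) with hm
  have em : m = u * (u⁻¹ * r⁻¹ * u * f * (u⁻¹ * r⁻¹ * u)⁻¹ * f⁻¹) * u⁻¹ := by rw [hm, hg]; group
  have mo : m ∈ om Q := em ▸ conj_mem_om (uQ H) s1
  have mn : nrm u m = 1 := by rw [em, nrm_cj, s2]; group
  have mX : m ∈ X := (H.isX m).2 ⟨mo, H.toQS.r2 mo.1
    (mul_mem (inv_mem hr.2) (conj_mem_of_norm gn hr.2)), mn⟩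
  have e1 : g * r * g⁻¹ = r * m := by rw [hm]; group
  have fr : f * r * f⁻¹ = r := conj_eq_of_comm (fo.2.2 r hr.2).symm
  have e2 : u⁻¹ * f * u = f * g := by
    have : u⁻¹ * f * u * (u⁻¹ * f * u) = 1 := by simpa using conj_sq (g := u⁻¹) f2
    rw [← inv_eq_of_mul_eq_one_right this]
    exact inv_eq_of_mul_eq_one_left nf
  have e3 : u⁻¹ * f * u * r * (u⁻¹ * f * u)⁻¹ = r * m := by
    calc _ = f * (g * r * g⁻¹) * f⁻¹ := by rw [e2]; group
      _ = f * r * f⁻¹ * (f * m * f⁻¹) := by rw [e1]; group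
      _ = _ := by rw [fr, conj_eq_of_comm (fm m mo mn)]
  have e4 : g * (u * r * u⁻¹) * g⁻¹ = u * r * u⁻¹ := by
    calc _ = u * (f * r * f⁻¹) * u⁻¹ := by rw [hg]; group
      _ = _ := by rw [fr]
  have e5 : g * (u⁻¹ * r * u) * g⁻¹ = u⁻¹ * r * u * (u⁻¹ * m * u) := by
    calc _ = u⁻¹ * (u * g * u⁻¹ * r * (u * g * u⁻¹)⁻¹) * u := by group
      _ = _ := by rw [hg, yy u3, e3]; group
  refine ⟨m, mX, e1, ?_, ?_⟩
  · calc _ = u * (u⁻¹ * f * u * r * (u⁻¹ * f * u)⁻¹) * u⁻¹ := by group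
      _ = _ := by rw [e3]; group
  · have := mo.2.2 _ (mul_mem (conj_mem_of_norm (uQ H) hr.1) (conj_mem_of_norm' (uQ H) hr.1))
    calc _ = g * r * g⁻¹ * (g * (u * r * u⁻¹) * g⁻¹) * (g * (u⁻¹ * r * u) * g⁻¹) := by
          unfold nrm; group
      _ = r * (m * (u * r * u⁻¹ * (u⁻¹ * r * u))) * (u⁻¹ * m * u) := by rw [e1, e4, e5]; group
      _ = nrm u r * (m * (u⁻¹ * m * u)) := by rw [← this]; unfold nrm; group
      _ = _ := by rw [third H mo mn]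

theorem first {y r : G} (hy : y ∈ X) (hr : r ∈ Q ⊓ cj c Q) :
    u * ff u c y * u⁻¹ * r = r * (u * ff u c y * u⁻¹) := by
  rcases H.toQS.nrm_cases hr.1 with t | t
  · obtain ⟨m, -, e1, -, e3⟩ := mu H k0 hy hr
    rw [t] at e3
    have m1 : m = 1 := by_contra fun h => conj_ne_one (g := u) h (by
      rw [← one_mul (u * m * u⁻¹), ← e3]; group)
    rw [m1, mul_one] at e1
    exact mul_inv_eq_iff_eq_mul.1 e1
  exfalso
  have qQ : u * r * u⁻¹ ∈ Q := conj_mem_of_norm (uQ H) hr.1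
  set q := u * r * u⁻¹ with hq
  have key : ∀ x ∈ X, q * ff u c x * q⁻¹ = u * x * u⁻¹ * ff u c x := fun x hx => by
    obtain ⟨m, -, -, e2, e3⟩ := mu H k0 hx hr
    have b1 := conj_mem_om (uQ H) (xo H hx)
    have e4 : u * m * u⁻¹ = u * x * u⁻¹ := by
      rw [t] at e3
      refine mul_left_cancel (a := s) ?_
      rw [← e3]
      calc _ = u * (ff u c x * (u⁻¹ * s * u⁻¹⁻¹) * (ff u c x)⁻¹) * u⁻¹ := by group
        _ = u * s * u⁻¹ * (u * x * u⁻¹) := by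
          rw [conj_eq_of_comm H.hy.w6.inv.yt, (H.basic hx).2.1]; group
        _ = _ := by rw [conj_eq_of_comm H.hy.w6.yt]
    rw [e4, ← hq] at e2
    set b := u * x * u⁻¹
    calc _ = q * (ff u c x * q * (ff u c x)⁻¹)⁻¹ * ff u c x := by group
      _ = q * b⁻¹ * q⁻¹ * ff u c x := by rw [e2]; group
      _ = _ := by rw [inv_eq_of_mul_eq_one_right b1.2.1, conj_eq_of_comm (b1.2.2 q qQ)]
  obtain ⟨x, hx, x1⟩ := (Subgroup.bot_or_exists_ne_one X).resolve_left H.ne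
  obtain ⟨f2, fs, -, fo, -, -⟩ := H.basic hx
  have b1 := conj_mem_om (uQ H) (xo H hx)
  have q'Q : c * q * c⁻¹ ∈ cj c Q := conj_mem_cj.2 qQ
  have hx' := conj_mem_of_norm' H.cX hx
  have q'x : c * q * c⁻¹ * x = x * (c * q * c⁻¹) := by
    simpa [mul_assoc] using conj_comm (g := c) ((xo H hx').2.2 q qQ)
  have e0 : u⁻¹ * x * u = x * (u * x * u⁻¹) := by
    rw [← third H (xo H hx) (xn H hx), ← mul_assoc, (xo H hx).2.1, one_mul]
  have bf : u * x * u⁻¹ * ff u c x = ff u c x * (u * x * u⁻¹) := eq_of_comm_one (k0 x hx x hx)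
  have fx := fo.2.2 x (xc H hx)
  have e1 : c * q * c⁻¹ * (u⁻¹ * x * u) * (c * q * c⁻¹)⁻¹ = ff u c x * (u⁻¹ * x * u) := by
    have a1 : c * ff u c (c⁻¹ * x * c) * c⁻¹ = u⁻¹ * x * u := by
      calc _ = c * (c * u * c⁻¹) * c⁻¹ * x * (c * (c * u * c⁻¹) * c⁻¹)⁻¹ := by
            simp only [ff, mul_assoc, mul_inv_rev, inv_inv, mul_inv_cancel_left]
        _ = _ := by rw [H.hy.cv, inv_inv]
    calc _ = c * (q * ff u c (c⁻¹ * x * c) * q⁻¹) * c⁻¹ := by rw [← a1]; group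
      _ = _ := by rw [key _ hx', ← a1]; unfold ff; group
  have kq := key x hx
  have qb := conj_eq_of_comm (b1.2.2 q qQ)
  have q'f := conj_eq_of_comm (fo.2.2 _ q'Q)
  have bs := mem_C1.1 (H.le b1.1)
  set q' := c * q * c⁻¹
  rw [e0] at e1
  set b := u * x * u⁻¹
  set f := ff u c x
  have e2 : q' * b * q'⁻¹ = b * f := by
    refine mul_left_cancel (a := x) ?_
    calc _ = q' * (x * b) * q'⁻¹ := by rw [← mul_assoc q' x b, q'x]; group
      _ = _ := by rw [e1, ← mul_assoc, ← fx, mul_assoc, bf]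
  have nb : ∀ g : G, g ∈ Nm (⊥ : Subgroup G) := fun g => mem_normalizer_iff.2 fun x => by simp
  have h3 : 3 ∣ orderOf (q * q') := tri3 (N := ⊥) (a := b) (b := f) (d := b * f) (nb _) (nb _)
    (by rw [qb]; simp)
    (by
      have : q * (b * f) * q⁻¹ = q * b * q⁻¹ * (q * f * q⁻¹) := by group
      rw [this, qb, kq, ← mul_assoc, b1.2.1]; simp)
    (by rw [kq]; simp) (by rw [q'f]; simp) (by rw [e2]; simp)
    (by
      have : q' * (b * f) * q'⁻¹ = q' * b * q'⁻¹ * (q' * f * q'⁻¹) := by group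
      rw [this, e2, q'f, mul_assoc b, f2]; simp)
    (fun e => x1 (by
      rw [mul_inv_eq_one.1 (mem_bot.1 e), conj_eq_of_comm bs] at fs
      simpa using fs))
  exact H.nX x hx (H.hy.st3 (xo H hx).2.1 x1 h3 (by
    rw [mul_assoc, q'x, ← mul_assoc, (xo H hx).2.2 q qQ, mul_assoc]))

end AB0c

theorem AB.zeroC (H : AB u s c z Q X) (k0 : ∀ x ∈ X, ∀ y ∈ X, kap u c x y = 1) {y r : G}
    (hy : y ∈ X) (hr : r ∈ Q ⊓ Trans.cj c Q) :
    u * ff u c y * u⁻¹ * r = r * (u * ff u c y * u⁻¹) ∧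
      ff u c (u * y * u⁻¹) * r = r * ff u c (u * y * u⁻¹) := by
  refine ⟨AB0c.first H k0 hy hr, ?_⟩
  have a1 : ∀ x, ff (c * u * c⁻¹) c x = u⁻¹ * x * u := fun x => by rw [ff, H.hy.cv, inv_inv]
  have k1 : ∀ x ∈ X, ∀ y ∈ X, kap (c * u * c⁻¹) c x y = 1 := fun x hx y hy => by
    have := AB0c.fcen H k0 hx (conj_mem_of_norm' (nm_om Q (AB0c.uQ H)) (AB0c.xo H hy))
      (by rw [AB0c.nrm_cj', AB0c.xn H hy]; group)
    rw [kap, a1]
    change ff u c x * _ * (ff u c x)⁻¹ * _ = 1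
    rw [this]; group
  have e := AB0c.first H.cc k1 hy (r := r) ⟨hr.2, H.toQS.cjcc.symm ▸ hr.1⟩
  have e0 : u⁻¹ * y * u = y * (u * y * u⁻¹) := by
    rw [← AB0c.third H (AB0c.xo H hy) (AB0c.xn H hy), ← mul_assoc, (AB0c.xo H hy).2.1, one_mul]
  have e1 : c * u * c⁻¹ * ff (c * u * c⁻¹) c y * (c * u * c⁻¹)⁻¹ =
      ff u c y * ff u c (u * y * u⁻¹) := by rw [a1, e0]; unfold ff; group
  rw [e1] at e
  set g := ff u c (u * y * u⁻¹)
  rw [← mul_assoc, (H.basic hy).2.2.2.1.2.2 r hr.2, mul_assoc, mul_assoc] at e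
  exact mul_left_cancel e

end Cfsg.Lib.N9M
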