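import Cfsg.Agent.N9M.AB0c
import Cfsg.Agent.N9M.AB0b
import Cfsg.Agent.N9M.AB0a
import Cfsg.Agent.N9M.ABk
import Cfsg.Agent.N9M.Gen
import Cfsg.Agent.N9M.Cj

/-! The case of vanishing commutators: the final contradiction. -/

set_option autoImplicit false

namespace Cfsg.Lib.N9M

open Subgroup Cfsg.Lib.Trans Cfsg.Lib.SC6
open Cfsg.Lib.Odd3 (conj_mem_of_norm conj_mem_of_norm' mem_norm_of_conj)
open Cfsg.Lib.L3 (sq_cases cube_cases SZ)

variable {G : Type*} [Group G] [Finite G] {u s c z y w h : G} {Q T X : Subgroup G}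

namespace AB0d

omit [Finite G] in
theorem pg_closure {S : Set G} (h2 : ∀ a ∈ S, a * a = 1) (hc : ∀ a ∈ S, ∀ b ∈ S, a * b = b * a) :
    IsPGroup 2 (closure S) := by
  have c1 : closure S ≤ centralizer S := (closure_le _).2 fun a ha b hb => hc b hb a ha
  have c2 : ∀ a ∈ closure S, ∀ b ∈ closure S, a * b = b * a := fun a ha b hb =>
    mem_C1.1 ((closure_le (C1 b)).2 (fun d hd => mem_C1.2 (c1 hb d hd)) ha)
  have c3 : closure S ≤ om (closure S) := (closure_le _).2 fun a ha =>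
    ⟨subset_closure ha, h2 a ha, fun b hb => c2 b hb a (subset_closure ha)⟩
  exact fun a => ⟨1, Subtype.ext (by simpa [sq] using (c3 a.2).2.1)⟩

theorem nm_closure {S : Set G} {g : G} (e : ∀ a ∈ S, g * a * g⁻¹ ∈ closure S) :
    g ∈ Nm (closure S) :=
  mem_norm_of_conj fun _ ha => mem_cj_inv.1 ((closure_le (Trans.cj g⁻¹ _)).2
    (fun a ha => mem_cj_inv.2 (e a ha)) ha)

omit [Finite G] in
theorem third {a : G} (u3 : u ^ 3 = 1) (n : nrm u a = 1) :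
    u * (u * a * u⁻¹) * u⁻¹ = (a * (u * a * u⁻¹))⁻¹ := by
  rw [yy u3]
  exact eq_inv_of_mul_eq_one_right n

omit [Finite G] in
theorem xc (H : AB u s c z Q X) : X ≤ Trans.cj c Q := fun _ hx =>
  mem_cj.2 ((H.isX _).1 (conj_mem_of_norm' H.cX hx)).1.1

theorem y1 (H : AB u s c z Q X) {a : G} (ha : a ∈ Q) (e : a * z * a⁻¹ * z⁻¹ ∈ zpowers s) :
    a ∈ Q ⊓ Trans.cj c Q ∨ a * s ∈ Q ⊓ Trans.cj c Q := by
  rcases sq_cases H.hy.w6.t2 e with e | e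
  · exact (H.hY a ha (eq_of_comm_one e)).imp (⟨ha, ·⟩) (⟨mul_mem ha H.sQ, ·⟩)
  · refine absurd ⟨a⁻¹ * c, ?_⟩ H.zD
    rw [mul_inv_eq_iff_eq_mul, ← H.hy.zs, ← H.hy.sc] at e
    calc _ = a⁻¹ * (c * s * c⁻¹) * a := by group
      _ = _ := by rw [← e]; group

theorem comm_ne (H : AB u s c z Q X) (k0 : ∀ x ∈ X, ∀ y ∈ X, kap u c x y = 1) {a b : G}
    (ha : a ∈ Q) (hb : b ∈ Q) : a * b * a⁻¹ * b⁻¹ ≠ s := by
  have L := H.loc
  let Q0 := Q ⊓ centralizer {g | ∃ y ∈ X, g = ff u c y ∨ g = u * ff u c y * u⁻¹}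
  have r2 : Q ⊓ Trans.cj c Q ≤ Q0 := fun r hr => ⟨hr.1, by
    rintro _ ⟨y, hy, rfl | rfl⟩
    · exact ((H.basic hy).2.2.2.1.2.2 r hr.2).symm
    · exact (H.zeroC k0 hy hr).1⟩
  have u0 : u ∈ Nm Q0 := mem_norm_of_conj fun r hr => ⟨L.fp.conj hr.1, by
    rintro _ ⟨y, hy, rfl | rfl⟩
    · have e1 : r ∈ C1 (ff u c y * (u * ff u c y * u⁻¹))⁻¹ := by
        have : (ff u c y * (u * ff u c y * u⁻¹))⁻¹ ∈ C1 r :=
          inv_mem (mul_mem (mem_C1.2 (hr.2 _ ⟨y, hy, .inl rfl⟩))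
            (mem_C1.2 (hr.2 _ ⟨y, hy, .inr rfl⟩)))
        exact mem_C1.2 (mem_C1.1 this).symm
      rw [← third L.fp.y3 (H.zeroA k0 hy).1, yy L.fp.y3] at e1
      simpa [mul_assoc] using conj_comm (g := u) (mem_C1.1 e1).symm
    · exact conj_comm (hr.2 _ ⟨y, hy, .inl rfl⟩)⟩
  have s0 : s ∈ Nm Q0 := mem_norm_of_conj fun r hr => by
    rwa [conj_eq_of_comm (L.cen r hr.1).symm]
  have s2 : s * s ∈ Q0 := L.t2 ▸ one_mem _
  have key : Q ≤ Q0 ⊔ zpowers s :=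
    H.gen (sup_le inf_le_left (zpowers_le.2 H.sQ)) (nm_sup u0 L.fp.yD) fun a ha e =>
      (mem_sup_zp s0 s2).2 ((y1 H ha e).imp (r2 ·) (r2 ·))
  have i2 := i2_sup_zp s0 s2
  have ha := key ha
  have hb := key hb
  have k : a * b * a⁻¹ * b⁻¹ ∈ Q0 := by
    rw [i2.mul_iff (mul_mem (mul_mem ha hb) (inv_mem ha)) (inv_mem hb),
      i2.mul_iff (mul_mem ha hb) (inv_mem ha), i2.mul_iff ha hb, inv_mem_iff, inv_mem_iff]
    tauto
  intro e
  obtain ⟨⟨x, hx⟩, x1⟩ := ne_bot_iff_exists_ne_one.1 H.ne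
  have e1 := (H.basic hx).2.1
  rw [conj_eq_of_comm ((e ▸ k).2 _ ⟨x, hx, .inl rfl⟩)] at e1
  exact x1 (Subtype.ext (left_eq_mul.1 e1))

theorem rho (H : AB u s c z Q X) (k0 : ∀ x ∈ X, ∀ y ∈ X, kap u c x y = 1) {y : G} (hy : y ∈ X) :
    ff u c (u * y * u⁻¹) * (u * ff u c y * u⁻¹) ∈ X := by
  have L := H.loc
  have hr := (H.zeroB k0 hy).1
  have g2 := conj_sq (g := u) (H.basic hy).1
  have h2 : ff u c (u * y * u⁻¹) * ff u c (u * y * u⁻¹) = 1 :=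
    conj_sq (conj_sq ((H.isX y).1 hy).1.2.1)
  have cr : ∀ r ∈ Q ⊓ Trans.cj c Q, _ := fun r hr => H.zeroC k0 hy hr
  generalize u * ff u c y * u⁻¹ = g at *
  generalize ff u c (u * y * u⁻¹) = k at *
  have r2 : k * g * (k * g) = 1 := by
    calc _ = k * (g * (k * g)) := by group
      _ = k * k * (g * g) := by rw [(cr _ hr).1]; group
      _ = 1 := by rw [g2, h2, one_mul]
  have c2 : ∀ r ∈ Q ⊓ Trans.cj c Q, r * (k * g) = k * g * r := fun r hr => by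
    rw [mul_assoc, (cr r hr).1, ← mul_assoc, ← mul_assoc, (cr r hr).2]
  generalize k * g = p at *
  have key : Q ≤ Q ⊓ cm (zpowers s) p := H.gen inf_le_left
    (mem_norm_of_conj fun a ha => ⟨L.fp.conj ha.1, L.fp.nD (L.fp.conj ha.1),
      L.fp.cc hr.1 ha.1 ha.2.2⟩) fun a ha e => ⟨ha, L.fp.nD ha, comm_mem_of_eq (by
        rcases y1 H ha e with f | f
        · exact c2 a f
        · have := c2 _ f
          rwa [mul_assoc, ← L.cen p hr.1, ← mul_assoc, ← mul_assoc, mul_left_inj] at this)⟩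
  have po : p ∈ om Q := ⟨hr.1, r2, fun a ha => eq_of_comm_one
    ((sq_cases L.t2 (key ha).2.2).resolve_right (comm_ne H k0 ha hr.1))⟩
  exact (H.isX.mem_or H.toQS po (H.r2 hr.1 hr.2)).resolve_right fun e =>
    H.sQc (((Trans.cj c Q).mul_mem_cancel_left hr.2).1 (xc H e))

end AB0d

open AB0d in
theorem AB.zeroD (H : AB u s c z Q X) (k0 : ∀ x ∈ X, ∀ y ∈ X, kap u c x y = 1) : False := by
  have L := H.loc
  have xo : ∀ {x}, x ∈ X → x ∈ om Q := fun hx => ((H.isX _).1 hx).1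
  have bo : ∀ {x}, x ∈ X → u * x * u⁻¹ ∈ om Q := fun hx => conj_mem_om L.fp.yR (xo hx)
  have fo : ∀ {x}, x ∈ X → ff u c x ∈ om (Trans.cj c Q) := fun hx => (H.basic hx).2.2.2.1
  have xf : ∀ {x y}, x ∈ X → y ∈ X → x * ff u c y = ff u c y * x := fun hx hy =>
    (fo hy).2.2 _ (xc H hx)
  have bf : ∀ {x y}, x ∈ X → y ∈ X → u * x * u⁻¹ * ff u c y = ff u c y * (u * x * u⁻¹) :=
    fun hx hy => eq_of_comm_one (k0 _ hx _ hy)
  have gx : ∀ {x y}, x ∈ X → y ∈ X → u * ff u c y * u⁻¹ * x = x * (u * ff u c y * u⁻¹) :=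
    fun hx hy => (H.zeroC k0 hy ⟨(xo hx).1, xc H hx⟩).1
  have v3 := H.hy.cc.w6.y3
  let S := {a | ∃ x ∈ X, a = x ∨ a = u * x * u⁻¹ ∨ a = ff u c x ∨ a = u * ff u c x * u⁻¹}
  have m1 : ∀ {x}, x ∈ X → x ∈ closure S := fun hx => subset_closure ⟨_, hx, .inl rfl⟩
  have m2 : ∀ {x}, x ∈ X → u * x * u⁻¹ ∈ closure S := fun hx =>
    subset_closure ⟨_, hx, .inr (.inl rfl)⟩
  have m3 : ∀ {x}, x ∈ X → ff u c x ∈ closure S := fun hx =>
    subset_closure ⟨_, hx, .inr (.inr (.inl rfl))⟩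
  have m4 : ∀ {x}, x ∈ X → u * ff u c x * u⁻¹ ∈ closure S := fun hx =>
    subset_closure ⟨_, hx, .inr (.inr (.inr rfl))⟩
  have m5 : ∀ {x}, x ∈ X → ff u c (u * x * u⁻¹) ∈ closure S := fun hx =>
    (mul_mem_cancel_right (m4 hx)).1 (m1 (rho H k0 hx))
  have := H.hy.noM (closure S) (pg_closure ?_ ?_) (nm_closure ?_) (nm_closure ?_)
  · exact H.ne (eq_bot_iff.2 fun x hx => this ▸ m1 hx)
  · rintro _ ⟨x, hx, rfl | rfl | rfl | rfl⟩
    exacts [(xo hx).2.1, (bo hx).2.1, (fo hx).2.1, conj_sq (fo hx).2.1]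
  · rintro _ ⟨x, hx, rfl | rfl | rfl | rfl⟩ _ ⟨y, hy, rfl | rfl | rfl | rfl⟩
    exacts [(xo hy).2.2 _ (xo hx).1, (bo hy).2.2 _ (xo hx).1, xf hx hy, (gx hx hy).symm,
      (xo hy).2.2 _ (bo hx).1, (bo hy).2.2 _ (bo hx).1, bf hx hy, conj_comm (xf hx hy),
      (xf hy hx).symm, (bf hy hx).symm, (fo hy).2.2 _ (fo hx).1, ((H.zeroB k0 hy).2 _ hx).symm,
      gx hy hx, conj_comm (xf hy hx).symm, (H.zeroB k0 hx).2 _ hy,
      conj_comm ((fo hy).2.2 _ (fo hx).1)]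
  · rintro _ ⟨x, hx, rfl | rfl | rfl | rfl⟩
    · exact m2 hx
    · rw [third L.fp.y3 ((H.isX _).1 hx).2.2]
      exact inv_mem (mul_mem (m1 hx) (m2 hx))
    · exact m4 hx
    · rw [third L.fp.y3 (H.zeroA k0 hx).1]
      exact inv_mem (mul_mem (m3 hx) (m4 hx))
  · rintro _ ⟨x, hx, rfl | rfl | rfl | rfl⟩
    · exact m3 hx
    · exact m5 hx
    · have n := nrm_conj c u (c⁻¹ * x * c)
      rw [((H.isX _).1 (conj_mem_of_norm' H.cX hx)).2.2, mul_one, mul_inv_cancel,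
        show c * (c⁻¹ * x * c) * c⁻¹ = x by group] at n
      rw [ff, third v3 n]
      exact inv_mem (mul_mem (m1 hx) (m3 hx))
    · have e1 := m3 (rho H k0 hx)
      have e2 := inv_mem (mul_mem (m2 hx) (m5 hx))
      rw [ff, ← third v3 (H.zeroA k0 hx).2.1] at e2
      have := mul_mem (inv_mem e2) e1
      convert this using 1
      simp only [ff]
      group

end Cfsg.Lib.N9M
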