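import Cfsg.Agent.N9M.Kit
import Cfsg.Agent.N9M.Cj
import Cfsg.Agent.N9M.Fpq
import Cfsg.Agent.N9M.ABk

/-! The configuration `AB`: the case of a nontrivial commutator map. -/

set_option autoImplicit false

namespace Cfsg.Lib.N9M

open Subgroup Cfsg.Lib.Trans Cfsg.Lib.SC6
open Cfsg.Lib.Odd3 (conj_mem_of_norm conj_mem_of_norm' mem_norm_of_conj)
open Cfsg.Lib.L3 (sq_cases cube_cases SZ)

variable {G : Type*} [Group G] [Finite G] {u s c z y w h : G} {Q T X : Subgroup G}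

theorem AB.one (H : AB u s c z Q X) {x₀ : G} (h0 : x₀ ∈ X) (h1 : x₀ ≠ 1) (hc : c * x₀ * c⁻¹ = x₀)
    (k1 : ∀ x ∈ X, kap u c x x₀ = x) (_k2 : ∀ y ∈ X, kap u c x₀ y = y) : False := by
  have hy := H.hy
  have us := hy.w6.yt
  have zs := hy.zs
  have uQ : u ∈ Nm Q := H.nQ (mem_C1.2 us)
  have zQ : z ∈ Nm Q := H.nQ (mem_C1.2 zs)
  have zi : z⁻¹ = z := inv_eq_of_mul_eq_one_right hy.z2
  have sF : s ∈ om Q := H.toQS.loc.zp_om (mem_zpowers s)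
  have xF : ∀ x ∈ X, x ∈ om Q := fun x hx => ((H.isX x).1 hx).1
  have xz : ∀ x ∈ X, x * z = z * x := fun x hx => ((H.isX x).1 hx).2.1
  have bF : ∀ x ∈ X, u * x * u⁻¹ ∈ om Q := fun x hx => conj_mem_om uQ (xF x hx)
  have cmF : ∀ {a b}, a ∈ om Q → b ∈ om Q → a * b = b * a := fun ha hb => hb.2.2 _ ha.1
  have ivF : ∀ {a}, a ∈ om Q → a⁻¹ = a := fun ha => inv_eq_of_mul_eq_one_right ha.2.1
  have ui : ∀ x ∈ X, u⁻¹ * x * u = x * (u * x * u⁻¹) := fun x hx => by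
    rw [eq_inv_of_mul_eq_one_right ((H.isX x).1 hx).2.2, ivF (mul_mem (xF x hx) (bF x hx))]
  have zb : ∀ x ∈ X, z * (u * x * u⁻¹) * z⁻¹ = x * (u * x * u⁻¹) := fun x hx => by
    calc _ = z * u * z⁻¹ * (z * x * z⁻¹) * (z * u * z⁻¹)⁻¹ := by group
      _ = _ := by rw [hy.zu, conj_eq_of_comm (xz x hx).symm, inv_inv, ui x hx]
  have bz : ∀ x ∈ X, u * x * u⁻¹ * z * (u * x * u⁻¹)⁻¹ = z * x := fun x hx =>
    H.toQS.tau0 (xF x hx).1 (xF x hx).2.1 (xz x hx) ((H.isX x).1 hx).2.2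
  obtain ⟨f2, fs, fz, fO, -, -⟩ := H.basic h0
  have fQ := H.vQ _ h0
  have cf : c * ff u c x₀ * c⁻¹ = x₀ * (u * x₀ * u⁻¹) := by
    calc _ = c * (c * u * c⁻¹) * c⁻¹ * (c * x₀ * c⁻¹) * (c * (c * u * c⁻¹) * c⁻¹)⁻¹ := by
          rw [ff]; group
      _ = _ := by rw [hy.cv, hc, inv_inv, ui _ h0]
  have cb : c * (u * x₀ * u⁻¹) * c⁻¹ = ff u c x₀ := by
    calc _ = c * u * c⁻¹ * (c * x₀ * c⁻¹) * (c * u * c⁻¹)⁻¹ := by group
      _ = _ := by rw [hc, ff]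
  have nf : ¬ St s (ff u c x₀) := fun ⟨g, e⟩ => H.nX _ h0 ⟨(c * u * c⁻¹)⁻¹ * g, by
    calc _ = (c * u * c⁻¹)⁻¹ * (g * s * g⁻¹) * (c * u * c⁻¹) := by group
      _ = _ := by rw [e, ff]; group⟩
  simp only [kap] at k1
  generalize ff u c x₀ = f at *
  have fi : f⁻¹ = f := inv_eq_of_mul_eq_one_right f2
  have fx : ∀ x ∈ X, f * x * f⁻¹ = x := fun x hx =>
    conj_eq_of_comm (fO.2.2 x (mem_cj.2 (xF _ (conj_mem_of_norm' H.cX hx)).1)).symm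
  have fb : ∀ x ∈ X, f * (u * x * u⁻¹) * f⁻¹ = x * (u * x * u⁻¹) := fun x hx => by
    calc _ = (u * x * u⁻¹ * f * (u * x * u⁻¹)⁻¹ * f⁻¹)⁻¹ * (u * x * u⁻¹) := by group
      _ = _ := by rw [k1 x hx, ivF (xF x hx)]
  set C := Nm Q ⊓ centralizer ((X : Set G) ∪ (Trans.cj u X : Set G)) with hC
  have mC : ∀ g, g ∈ C ↔ g ∈ Nm Q ∧ ∀ x ∈ X, g * x * g⁻¹ = x ∧
      g * (u * x * u⁻¹) * g⁻¹ = u * x * u⁻¹ := fun g => by
    refine and_congr_right fun _ => ⟨fun e x hx => ⟨conj_eq_of_comm (e x (Or.inl hx)).symm,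
      conj_eq_of_comm (e _ (Or.inr (conj_mem_cj.2 hx))).symm⟩, fun e => ?_⟩
    rintro _ (hx | ⟨x, hx, rfl⟩)
    · exact (mul_inv_eq_iff_eq_mul.1 (e _ hx).1).symm
    · exact (mul_inv_eq_iff_eq_mul.1 (e _ hx).2).symm
  have uC : ∀ g ∈ C, u * g * u⁻¹ ∈ C := fun g hg => by
    obtain ⟨g1, g2⟩ := (mC g).1 hg
    refine (mC _).2 ⟨mul_mem (mul_mem uQ g1) (inv_mem uQ), fun x hx => ⟨?_, ?_⟩⟩
    · calc _ = u * (g * (u⁻¹ * x * u) * g⁻¹) * u⁻¹ := by group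
        _ = u * (g * x * g⁻¹ * (g * (u * x * u⁻¹) * g⁻¹)) * u⁻¹ := by rw [ui x hx]; group
        _ = _ := by rw [(g2 x hx).1, (g2 x hx).2, ← ui x hx]; group
    · calc _ = u * (g * x * g⁻¹) * u⁻¹ := by group
        _ = _ := by rw [(g2 x hx).1]
  have eC : f * z ∈ C := (mC _).2 ⟨mul_mem fQ zQ, fun x hx => ⟨by
    calc _ = f * (z * x * z⁻¹) * f⁻¹ := by group
      _ = _ := by rw [conj_eq_of_comm (xz x hx).symm, fx x hx], by
    calc _ = f * (z * (u * x * u⁻¹) * z⁻¹) * f⁻¹ := by group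
      _ = f * x * f⁻¹ * (f * (u * x * u⁻¹) * f⁻¹) := by rw [zb x hx]; group
      _ = _ := by rw [fx x hx, fb x hx, ← mul_assoc x x, (xF x hx).2.1, one_mul]⟩⟩
  have n3 : ¬ 3 ∣ Nat.card C := hy.not3 (xF _ h0).2.1 (bF _ h0).2.1 h1 (conj_ne_one h1)
    (fun e => h1 (by
      rw [← mem_bot, ← (IsX.inf H.toQS H.isX).1]
      exact ⟨h0, e ▸ conj_mem_cj.2 h0⟩)) (cmF (xF _ h0) (bF _ h0))
    (fun g hg => mem_C1.2 (mul_inv_eq_iff_eq_mul.1 (((mC g).1 hg).2 _ h0).1))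
    (fun g hg => mem_C1.2 (mul_inv_eq_iff_eq_mul.1 (((mC g).1 hg).2 _ h0).2))
  have p0 : nrm u (f * z) ∈ om Q := fpq (D := om Q) hy n3 (mem_norm_of_conj uC)
    (fun a ha => (mC a).2 ⟨nm_self ha.1, fun x hx => ⟨conj_eq_of_comm (cmF ha (xF x hx)),
      conj_eq_of_comm (cmF ha (bF x hx))⟩⟩) (fun a ha => nm_om Q ((mC a).1 ha).1) (nm_om Q uQ) sF eC
  have qC := ((mC _).1 (uC _ eC)).2
  have q2 : u * (f * z) * u⁻¹ * (u * (f * z) * u⁻¹) = u * x₀ * u⁻¹ := by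
    calc _ = u * (f * z * f⁻¹ * (f * f) * z) * u⁻¹ := by group
      _ = u * (x₀ * (z * z)) * u⁻¹ := by rw [fz, f2, ← xz _ h0]; group
      _ = _ := by rw [hy.z2, mul_one]
  have qs : u * (f * z) * u⁻¹ * s * (u * (f * z) * u⁻¹)⁻¹ = s * (u * x₀ * u⁻¹) := by
    have e1 : u⁻¹ * s * u = s := by rw [mul_assoc, ← us]; group
    calc _ = u * (f * (z * (u⁻¹ * s * u) * z⁻¹) * f⁻¹) * u⁻¹ := by group
      _ = _ := by rw [e1, conj_eq_of_comm zs, fs, ← mul_assoc, us]; group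
  have qz : u * (f * z) * u⁻¹ * z * (u * (f * z) * u⁻¹)⁻¹ =
      f * (x₀ * (z * nrm u (f * z) * z⁻¹)) := by
    have e1 : z * u⁻¹ * z⁻¹ = u := by rw [← conj_inv, hy.zu, inv_inv]
    have e2 : z⁻¹ * f⁻¹ * z = f * x₀ := by
      calc _ = (z * z)⁻¹ * z * f⁻¹ * z * (f * f) := by rw [f2]; group
        _ = z * (f * z * f⁻¹) * f := by rw [hy.z2, fi]; group
        _ = _ := by rw [fz, ← mul_assoc, hy.z2, one_mul, mul_inv_eq_iff_eq_mul.1 (fx _ h0)]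
    calc _ = u * (f * z) * u⁻¹ * ((z * u * z⁻¹) * (f⁻¹ * z⁻¹) * (z * u⁻¹ * z⁻¹)) * z := by group
      _ = z⁻¹ * f⁻¹ * z * (z⁻¹ * nrm u (f * z) * z) := by
        rw [hy.zu, e1, show f⁻¹ * z⁻¹ = f * z by rw [fi, zi], nrm]; group
      _ = _ := by rw [e2, zi, mul_assoc]
  have p1 : x₀ * (z * nrm u (f * z) * z⁻¹) ∈ om Q := mul_mem (xF _ h0) (conj_mem_om zQ p0)
  generalize x₀ * (z * nrm u (f * z) * z⁻¹) = φ at qz p1
  generalize u * (f * z) * u⁻¹ = q at qz qs q2 qC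
  have pf : f * φ * f⁻¹ = φ := by
    have := conj_sq (g := q) hy.z2
    rw [qz, ← mul_assoc, mul_eq_one_iff_eq_inv, ivF p1] at this
    rwa [fi]
  have qq : ∀ {t a}, a ∈ X → q * t * q⁻¹ = f * a →
      q * f * q⁻¹ = u * x₀ * u⁻¹ * t * (u * x₀ * u⁻¹)⁻¹ * a⁻¹ := fun {t a} ha e => by
    calc _ = q * (f * a) * q⁻¹ * (q * a * q⁻¹)⁻¹ := by group
      _ = _ := by rw [← e, (qC a ha).1, ← q2]; group
  obtain ⟨-, a, ha, b, hb, e | e⟩ := IsX.dec H.toQS H.isX p1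
  · have b1 : b = 1 := by
      have : a * (b * (u * b * u⁻¹)) = a * (u * b * u⁻¹) := by
        rw [← e, ← pf, e, ← fb b hb]; nth_rewrite 1 [← fx a ha]; group
      exact mul_eq_right.1 (mul_left_cancel this)
    rw [e, b1, mul_one, mul_inv_cancel, mul_one] at qz
    have qf := qq ha qz
    rw [bz _ h0] at qf
    have ha' := conj_mem_of_norm H.cX ha
    have rX : ∀ x ∈ X, c * q * c⁻¹ * x * (c * q * c⁻¹)⁻¹ = x := fun x hx => by
      calc _ = c * (q * (c⁻¹ * x * c) * q⁻¹) * c⁻¹ := by group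
        _ = _ := by rw [(qC _ (conj_mem_of_norm' H.cX hx)).1]; group
    have rr : ∀ t, c * q * c⁻¹ * (c * t * c⁻¹) * (c * q * c⁻¹)⁻¹ = c * (q * t * q⁻¹) * c⁻¹ :=
      fun t => by group
    have r1 := rr (u * x₀ * u⁻¹)
    have r2 := rr f
    have r3 := rr z
    rw [(qC _ h0).2, cb] at r1
    rw [cf, qf] at r2
    rw [hy.cz, qz] at r3
    generalize c * q * c⁻¹ = r at rX r1 r2 r3
    refine H.nX _ h0 (hy.st3 (xF _ h0).2.1 h1 (tri3 (N := X) (q := q) (r := r)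
      (a := u * x₀ * u⁻¹) (b := f) (d := z)
      (mem_norm_of_conj fun x hx => (qC x hx).1.symm ▸ hx)
      (mem_norm_of_conj fun x hx => (rX x hx).symm ▸ hx) ?_ ?_ ?_ ?_ ?_ ?_ fun e => h1 ?_) ?_)
    · rw [(qC _ h0).2, mul_inv_cancel]; exact one_mem _
    · rw [qz, fx a ha]; exact ha
    · rw [qf, mul_assoc z, conj_eq_of_comm (xz _ (mul_mem h0 (inv_mem ha))).symm]
      exact mul_mem h0 (inv_mem ha)
    · rw [r1, mul_inv_cancel]; exact one_mem _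
    · have : r * (u * x₀ * u⁻¹) * r⁻¹ * z⁻¹ =
          x₀⁻¹ * (z * (x₀ * (c * a * c⁻¹)⁻¹) * z⁻¹) := by
        calc _ = (r * x₀ * r⁻¹)⁻¹ * (r * (x₀ * (u * x₀ * u⁻¹)) * r⁻¹) * z⁻¹ := by group
          _ = x₀⁻¹ * (c * z * c⁻¹ * (c * x₀ * c⁻¹ * (c * a * c⁻¹)⁻¹) * z⁻¹) := by
            rw [r2, rX _ h0]; group
          _ = _ := by rw [hy.cz, hc]
      rw [this, conj_eq_of_comm (xz _ (mul_mem h0 (inv_mem ha'))).symm]
      exact mul_mem (inv_mem h0) (mul_mem h0 (inv_mem ha'))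
    · have : r * z * r⁻¹ * (u * x₀ * u⁻¹)⁻¹ =
          x₀ * (u * x₀ * u⁻¹ * (c * a * c⁻¹) * (u * x₀ * u⁻¹)⁻¹) := by
        calc _ = c * f * c⁻¹ * (c * a * c⁻¹) * (u * x₀ * u⁻¹)⁻¹ := by rw [r3]; group
          _ = _ := by rw [cf]; group
      rw [this, conj_eq_of_comm (cmF (bF _ h0) (xF _ ha'))]
      exact mul_mem h0 ha'
    · have e1 := conj_eq_of_comm (cmF (mul_mem (xF _ e) (bF _ h0)) sF)
      rw [inv_mul_cancel_right, fs] at e1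
      exact mul_eq_left.1 e1
    · rw [mul_assoc, mul_inv_eq_iff_eq_mul.1 (rX _ h0), ← mul_assoc,
        mul_inv_eq_iff_eq_mul.1 (qC _ h0).1, mul_assoc]
  · have b1 : b = x₀ := by
      have : s * x₀ * a * (b * (u * b * u⁻¹)) = s * a * (u * b * u⁻¹) := by
        rw [← e, ← pf, e, ← fb b hb, ← fs]; nth_rewrite 1 [← fx a ha]; group
      rw [mul_assoc s x₀, cmF (xF _ h0) (xF _ ha), ← mul_assoc _ b, mul_left_inj, ← mul_assoc,
        mul_assoc _ x₀, mul_eq_left, mul_eq_one_iff_inv_eq, ivF (xF _ h0)] at this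
      exact this.symm
    have e1 : q * (z * s) * q⁻¹ = f * a := by
      calc _ = q * z * q⁻¹ * (q * s * q⁻¹) := by group
        _ = f * (s * a * (u * x₀ * u⁻¹ * s) * (u * x₀ * u⁻¹)) := by rw [qz, qs, e, b1]; group
        _ = f * (s * a * s * (u * x₀ * u⁻¹ * (u * x₀ * u⁻¹))) := by
          rw [cmF (bF _ h0) sF]; group
        _ = _ := by
          rw [(bF _ h0).2.1, mul_one, cmF sF (xF _ ha), mul_assoc a, sF.2.1, mul_one]
    have bs : ∀ x ∈ X, u * x * u⁻¹ * (z * s) * (u * x * u⁻¹)⁻¹ = z * s * x := fun x hx => by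
      calc _ = u * x * u⁻¹ * z * (u * x * u⁻¹)⁻¹ * (u * x * u⁻¹ * s * (u * x * u⁻¹)⁻¹) := by group
        _ = _ := by
          rw [bz x hx, conj_eq_of_comm (cmF (bF x hx) sF), mul_assoc, cmF (xF x hx) sF, mul_assoc]
    have e2 := qq ha e1
    rw [bs _ h0, mul_assoc (z * s), ← bs _ (mul_mem h0 (inv_mem ha)), ← hy.sc] at e2
    generalize u * (x₀ * a⁻¹) * u⁻¹ = k at e2
    exact nf ⟨q⁻¹ * k * c, by
      calc _ = q⁻¹ * (k * (c * s * c⁻¹) * k⁻¹) * q := by group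
        _ = _ := by rw [← e2]; group⟩

end Cfsg.Lib.N9M
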