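import Cfsg.Agent.N9M.Kit

/-! The fusion of `z` and `z s` in the centraliser of `s`. -/

set_option autoImplicit false

namespace Cfsg.Lib.N9M

open Subgroup Cfsg.Lib.Trans Cfsg.Lib.SC6
open Cfsg.Lib.Odd3 (conj_mem_of_norm conj_mem_of_norm' mem_norm_of_conj)
open Cfsg.Lib.L3 (sq_cases cube_cases SZ)

variable {G : Type*} [Group G] [Finite G] {u s c z y w h : G} {Q T X : Subgroup G}

namespace F2

/-- An element permuting the three involutions of the four-group and moving `z`. -/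
theorem key (H : Hy u s c z) {n : G}
    (e : n * s * n⁻¹ = z ∧ n * z * n⁻¹ = s ∨ n * s * n⁻¹ = z ∧ n * z * n⁻¹ = z * s ∨
      n * s * n⁻¹ = z * s ∧ n * z * n⁻¹ = s) : ∃ k ∈ C1 s, k * z * k⁻¹ = z * s := by
  have hc : ∀ {k : G}, k * s * k⁻¹ = s → k ∈ C1 s := fun e => mem_C1.2 (mul_inv_eq_iff_eq_mul.1 e)
  have c1 : c⁻¹ * s * c = z * s := by
    calc _ = c⁻¹ * (c * (z * s) * c⁻¹) * c := by rw [H.czs]
      _ = _ := by group
  have c2 : c⁻¹ * z * c = z := by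
    conv_lhs => rw [← H.cz]
    group
  rcases e with ⟨e1, e2⟩ | ⟨e1, e2⟩ | ⟨e1, e2⟩
  · refine ⟨c * n * c⁻¹, hc ?_, ?_⟩
    · calc _ = c * (n * (c⁻¹ * s * c) * n⁻¹) * c⁻¹ := by group
        _ = c * (n * z * n⁻¹ * (n * s * n⁻¹)) * c⁻¹ := by rw [c1]; group
        _ = s := by rw [e1, e2, ← H.zs, H.czs]
    · calc _ = c * (n * (c⁻¹ * z * c) * n⁻¹) * c⁻¹ := by group
        _ = z * s := by rw [c2, e2, H.sc]
  · refine ⟨n * c, hc ?_, ?_⟩
    · calc _ = n * (c * s * c⁻¹) * n⁻¹ := by group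
        _ = n * z * n⁻¹ * (n * s * n⁻¹) := by rw [H.sc]; group
        _ = s := by rw [e1, e2, H.zs, mul_assoc, H.z2, mul_one]
    · calc _ = n * (c * z * c⁻¹) * n⁻¹ := by group
        _ = z * s := by rw [H.cz, e2]
  · refine ⟨c * n, hc ?_, ?_⟩
    · calc _ = c * (n * s * n⁻¹) * c⁻¹ := by group
        _ = s := by rw [e1, H.czs]
    · calc _ = c * (n * z * n⁻¹) * c⁻¹ := by group
        _ = z * s := by rw [e2, H.sc]

theorem aux2 (H : QS u s c z Q) {m r : G} (m1 : m * s * m⁻¹ = r) (m2 : m * z * m⁻¹ = z)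
    (m3 : m * r * m⁻¹ = s * r) (e1 : s * r = r * s) (e2 : c * r = r * c) :
    ∃ k ∈ C1 s, k * z * k⁻¹ = z * s := by
  have K := H.cj m
  rw [m1, m2] at K
  have s2 := H.hy.w6.t2
  by_cases a : s ∈ cj m Q
  · refine absurd ?_ K.zQ
    have := conj_mem_of_norm (K.nQ (mem_C1.2 e2)) a
    rw [H.hy.sc] at this
    exact (mul_mem_cancel_right a).1 this
  obtain ⟨b, b1, b2⟩ := K.b0 s (mem_C1.2 e1) a (s2 ▸ one_mem _)
  have b3 : b * r * b⁻¹ = r := conj_eq_of_comm (mem_C1.1 b1)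
  have p1 : m⁻¹ * r * m = s := by rw [← m1]; group
  have p2 : m⁻¹ * z * m = z := by
    conv_lhs => rw [← m2]
    group
  have q1 : m⁻¹ * b * r * (m⁻¹ * b)⁻¹ = s := by
    calc _ = m⁻¹ * (b * r * b⁻¹) * m := by group
      _ = s := by rw [b3, p1]
  have q2 : m⁻¹ * b * s * (m⁻¹ * b)⁻¹ = z ∨ m⁻¹ * b * s * (m⁻¹ * b)⁻¹ = z * s := by
    refine b2.imp (fun e => ?_) fun e => ?_
    · calc _ = m⁻¹ * (b * s * b⁻¹) * m := by group
        _ = z := by rw [e, p2]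
    · calc _ = m⁻¹ * (b * s * b⁻¹) * m := by group
        _ = m⁻¹ * z * m * (m⁻¹ * r * m) := by rw [e]; group
        _ = z * s := by rw [p1, p2]
  generalize m⁻¹ * b = g at q1 q2
  have n1 : g * m * g⁻¹ * (g * s * g⁻¹) * (g * m * g⁻¹)⁻¹ = s := by
    calc _ = g * (m * s * m⁻¹) * g⁻¹ := by group
      _ = s := by rw [m1, q1]
  have n2 : g * m * g⁻¹ * s * (g * m * g⁻¹)⁻¹ = g * s * g⁻¹ * s := by
    calc _ = g * m * g⁻¹ * (g * r * g⁻¹) * (g * m * g⁻¹)⁻¹ := by rw [q1]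
      _ = g * (m * r * m⁻¹) * g⁻¹ := by group
      _ = g * s * g⁻¹ * (g * r * g⁻¹) := by rw [m3]; group
      _ = _ := by rw [q1]
  generalize g * m * g⁻¹ = n at n1 n2
  rcases q2 with e | e <;> rw [e] at n1 n2
  · exact key H.hy (Or.inr (Or.inr ⟨n2, n1⟩))
  · rw [mul_assoc z, s2, mul_one] at n2
    refine key H.hy (Or.inr (Or.inl ⟨n2, ?_⟩))
    calc _ = n * (z * s) * n⁻¹ * (n * s * n⁻¹) * (n * (s * s) * n⁻¹)⁻¹ := by group
      _ = z * s := by rw [n1, n2, s2, H.hy.zs]; group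

theorem aux1 (H : QS u s c z Q) {g : G} (e : g * s * g⁻¹ = z) (hs : s ∈ cj g Q)
    (n : nrm (g * u * g⁻¹) s = 1) : ∃ k ∈ C1 s, k * z * k⁻¹ = z * s := by
  have K := H.cj g
  rw [e] at K
  have L := K.loc
  have s2 := H.hy.w6.t2
  have z2 := H.hy.z2
  have zs := H.hy.zs
  have hc : c ∈ cj g Q := by
    by_contra a
    obtain ⟨b, -, b2⟩ := K.b0 c (mem_C1.2 (by rw [← H.hy.zc, mul_assoc])) a
      (H.hy.zc ▸ mem_zpowers _)
    have c2 : b * c * b⁻¹ * (b * c * b⁻¹) = 1 := by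
      rcases b2 with a | a <;> rw [a]
      · exact K.hy.z2
      · have := K.hy.zs
        calc _ = g * z * g⁻¹ * (z * (g * z * g⁻¹)) * z := by group
          _ = g * z * g⁻¹ * (g * z * g⁻¹) * (z * z) := by rw [← this]; group
          _ = 1 := by rw [K.hy.z2, z2, one_mul]
    refine H.hy.z1 ?_
    calc z = b⁻¹ * (b * c * b⁻¹ * (b * c * b⁻¹)) * b := by rw [← H.hy.zc]; group
      _ = 1 := by rw [c2]; group
  have hy3 := L.fp.y3
  have hyz := L.yt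
  have i1 := L.invol hs s2
  have cc := L.fp.cc hc hs (by
    have : s * c * s⁻¹ * c⁻¹ = z := by
      calc _ = s * (c * s * c⁻¹)⁻¹ := by group
        _ = z⁻¹ := by rw [H.hy.sc]; group
        _ = z := inv_eq_of_mul_eq_one_right z2
    rw [this]; exact mem_zpowers z)
  have y2 := yy hy3 s
  unfold nrm at n
  generalize g * u * g⁻¹ = y at *
  have w2 : y * s * y⁻¹ * (y * s * y⁻¹) = 1 := conj_sq s2
  have yz : y * z * y⁻¹ = z := conj_eq_of_comm hyz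
  have y3 : y⁻¹ * s * y = s * (y * s * y⁻¹) := by
    rw [eq_inv_of_mul_eq_one_right n, mul_inv_rev, inv_eq_of_mul_eq_one_right s2,
      inv_eq_of_mul_eq_one_right w2, i1]
  rcases L.conj_cases (comm_symm cc) with a | a
  · exact aux2 H rfl yz (y2.trans y3) i1 a
  · refine aux2 H (m := y⁻¹) (r := s * (y * s * y⁻¹)) (by rw [inv_inv, y3]) ?_ ?_ ?_ ?_
    · conv_lhs => rw [← yz]
      group
    · calc _ = y⁻¹ * s * y * s := by group
        _ = _ := by rw [y3, mul_assoc, ← i1]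
    · rw [mul_assoc s (y * s * y⁻¹) s, ← i1]
    · refine mul_inv_eq_iff_eq_mul.1 ?_
      calc _ = c * s * c⁻¹ * (c * (y * s * y⁻¹) * c⁻¹) := by group
        _ = z * (s * z) * (y * s * y⁻¹) := by rw [a, H.hy.sc]; group
        _ = _ := by rw [← zs, ← mul_assoc z z s, z2, one_mul]

end F2

theorem QS.f2 (H : QS u s c z Q) (e : St s z) : ∃ k ∈ C1 s, k * z * k⁻¹ = z * s := by
  obtain ⟨g, e⟩ := e
  have K := H.cj g
  rw [e] at K
  have s2 := H.hy.w6.t2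
  have z2 := H.hy.z2
  have zs := H.hy.zs
  by_cases hs : s ∈ Trans.cj g Q
  swap
  · obtain ⟨b, b1, b2⟩ := K.b0 s (mem_C1.2 zs.symm) hs (s2 ▸ one_mem _)
    have b3 : b⁻¹ * z * b = z := by rw [mul_assoc, ← mem_C1.1 b1]; group
    have n1 : b⁻¹ * g * s * (b⁻¹ * g)⁻¹ = z := by
      calc _ = b⁻¹ * (g * s * g⁻¹) * b := by group
        _ = z := by rw [e, b3]
    refine F2.key H.hy (n := b⁻¹ * g) (b2.imp (fun a => ⟨n1, ?_⟩) fun a => Or.inl ⟨n1, ?_⟩)
    · calc _ = b⁻¹ * (g * z * g⁻¹) * b := by group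
        _ = s := by rw [← a]; group
    · calc _ = b⁻¹ * (g * z * g⁻¹ * z) * b * (b⁻¹ * z * b) * (b⁻¹ * (z * z) * b)⁻¹ := by group
        _ = z * s := by rw [← a, b3, z2, zs]; group
  rcases K.nrm_cases hs with n | n
  · exact F2.aux1 H e hs n
  have n2 := K.nrm_s hs
  rw [n, z2, ← zs] at n2
  obtain ⟨k, k1, k2⟩ := F2.aux1 H.cc (g := g * c⁻¹) (by rw [← H.hy.sc, ← e]; group)
    (by
      have := mul_mem K.sQ hs
      rw [mem_cj] at this
      rw [mem_cj, mem_cj]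
      convert this using 1; group)
    (by rw [show g * c⁻¹ * (c * u * c⁻¹) * (g * c⁻¹)⁻¹ = g * u * g⁻¹ by group]; exact n2)
  rw [← mul_assoc, z2, one_mul] at k2
  refine ⟨c * k * c⁻¹, mem_C1.2 ?_, ?_⟩
  · have := conj_comm (g := c) (mem_C1.1 k1)
    rwa [H.hy.czs] at this
  · calc _ = c * k * c⁻¹ * (c * z * c⁻¹) * (c * k * c⁻¹)⁻¹ := by rw [H.hy.cz]
      _ = c * (k * z * k⁻¹) * c⁻¹ := by group
      _ = z * s := by rw [k2, H.hy.sc]

theorem CS.f1q (H : CS u s c z Q T) {k : G} (k1 : k ∈ C1 s) (k2 : k * z * k⁻¹ = z * s) :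
    ∃ q ∈ Q, q * z * q⁻¹ = z * s := by
  have := Fact.mk Nat.prime_two
  have s2 := H.hy.w6.t2
  have z2 := H.hy.z2
  have zs := H.hy.zs
  obtain ⟨m, n, e⟩ := odd_pow k
  have k3 : k * (z * s) * k⁻¹ = z := by
    calc _ = k * z * k⁻¹ * (k * s * k⁻¹) := by group
      _ = z := by rw [k2, conj_eq_of_comm (mem_C1.1 k1), mul_assoc, s2, mul_one]
  have k4 := conj_odd_pow k2 k3 m
  have k5 := pow_mem k1 (2 * m + 1)
  generalize k ^ (2 * m + 1) = a at e k4 k5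
  have a1 := conj_eq_of_comm (mem_C1.1 k5)
  have hV : IsPGroup 2 (VV s z) :=
    (pg_zp s2).to_sup_of_normal_left' (pg_zp z2) (zpowers_le.2 (nm_zp zs))
  have hn : a ∈ Nm (VV s z) := mem_norm_of_conj fun x hx => by
    rcases V_cases zs s2 z2 hx with rfl | rfl | rfl | rfl
    · simp
    · rw [a1]; exact tV _ _
    · rw [k4]; exact mul_mem (dV _ _) (tV _ _)
    · rw [show a * (s * z) * a⁻¹ = a * s * a⁻¹ * (a * z * a⁻¹) by group, a1, k4]
      exact mul_mem (tV _ _) (mul_mem (dV _ _) (tV _ _))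
  have hB := H.i2' (B := VV s z ⊔ zpowers a)
    (hV.to_sup_of_normal_left' (L3.pgroup_zpowers e) (zpowers_le.2 hn))
    (sup_le (V_le (mem_C1.2 rfl) (mem_C1.2 zs)) (zpowers_le.2 k5))
  by_cases q : a ∈ Q
  · exact ⟨a, q, k4⟩
  · refine ⟨a * z, (hB.mul a (mem_sup_right (mem_zpowers a)) z (mem_sup_left (dV s z))
      (fun b => q b.2) fun b => H.zQ b.2).2, ?_⟩
    rw [← k4]; group

end Cfsg.Lib.N9M
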