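import Cfsg.Agent.N9M.Kit
import Cfsg.Agent.N9M.F2

/-! A strongly `3`-embedded subgroup `3 ^ 2 : SD₁₆`: the case `A₅`, first step. -/

set_option autoImplicit false

namespace Cfsg.Lib.N9M

open Subgroup Cfsg.Lib.Trans Cfsg.Lib.SC6
open Cfsg.Lib.Odd3 (conj_mem_of_norm conj_mem_of_norm' mem_norm_of_conj)

variable {G : Type*} [Group G] [Finite G] {u s c z y : G} {Q T : Subgroup G}

namespace CAa

theorem cls {R D : Subgroup G} (h : FP y R D) {a b d : G} (ha : a ∈ R) (hb : b ∈ R) (hd : d ∈ R) :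
    a * b * a⁻¹ * b⁻¹ * d * (a * b * a⁻¹ * b⁻¹)⁻¹ * d⁻¹ ∈ D := by
  obtain ⟨_, f, h1, -⟩ := h.quot
  have := mem_center_iff.1 (h1.cls ((⟨a, ha⟩ : R) : R ⧸ D.subgroupOf R) (⟨b, hb⟩ : R))
    ((⟨d, hd⟩ : R) : R ⧸ D.subgroupOf R)
  rw [eq_comm, ← mul_inv_eq_one, mul_inv_rev, ← mul_assoc, ← commutatorElement_inv,
    commutatorElement_def] at this
  have k : ((⟨a, ha⟩ * ⟨b, hb⟩ * ⟨a, ha⟩⁻¹ * ⟨b, hb⟩⁻¹ * ⟨d, hd⟩ *
      (⟨a, ha⟩ * ⟨b, hb⟩ * ⟨a, ha⟩⁻¹ * ⟨b, hb⟩⁻¹)⁻¹ * ⟨d, hd⟩⁻¹ : R) : R ⧸ D.subgroupOf R) = 1 := by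
    simp only [QuotientGroup.mk_mul, QuotientGroup.mk_inv]
    rw [← this]; group
  have k2 := (QuotientGroup.eq_one_iff _).1 k
  exact k2

end CAa

theorem CA.el (H : CA u s c z y Q T) : (∀ a ∈ T, a * z * a⁻¹ * z⁻¹ ∈ zpowers s →
    a * a = 1 ∧ a * z = z * a) ∧ T ≤ Nm (C1 s ⊓ C1 z) ∧ y ∈ Nm (C1 s ⊓ C1 z) ∧ ¬ St s z := by
  have w := H.hy.w6
  have L : Loc s y T := (w.of_comm (n := 1) w.t2 w.t1 H.y1 (by rw [pow_one, H.y3]) H.ys).loc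
    H.syl.isPGroup (H.QT H.sQ) H.syl.le H.yT
  have hf := L.fp
  have yQ : y ∈ Nm Q := H.nQ (mem_C1.2 H.ys)
  have nQ : T ≤ Nm Q := H.syl.le.trans H.nQ
  have hq := hf.mono (zpowers_le.2 H.sQ) H.QT nQ yQ
  have z2 := H.hy.z2
  have zi : z⁻¹ = z := inv_eq_of_mul_eq_one_right z2
  have mA : ∀ {a w : G}, a ∈ T → a * w * a⁻¹ * w⁻¹ ∈ zpowers s → a ∈ T ⊓ cm (zpowers s) w :=
    fun ha e => ⟨ha, hf.nD ha, e⟩
  have zA : z ∈ T ⊓ cm (zpowers s) z := mA H.zT (comm_mem_of_eq rfl)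
  have yA : ∀ a ∈ T ⊓ cm (zpowers s) z, y * a * y⁻¹ ∈ T ⊓ cm (zpowers s) z := fun a ha =>
    mA (hf.conj ha.1) (hf.cc H.zT ha.1 ha.2.2)
  have z1A := yA z zA
  have sqA : ∀ a ∈ T ⊓ cm (zpowers s) z, a ∉ Q → a * a = 1 := fun a ha aQ => by
    have c0 : z * a * z⁻¹ * a⁻¹ ∈ zpowers s := comm_symm ha.2.2
    have c1 := hf.cc ha.1 H.zT c0
    have c2 := hf.cc ha.1 (hf.conj H.zT) c1
    rw [yy H.y3] at c2
    have key : ∀ v ∈ T, v * v = 1 → v * a * v⁻¹ * a⁻¹ ∈ zpowers s → a * v ∈ Q →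
        a * a ∈ zpowers s := fun v hv v2 c e => by
      have h1 := mul_mem (inv_mem (conj_mem_of_norm (hf.nD ha.1) c)) (H.sq _ e)
      have h2 : (a * (v * a * v⁻¹ * a⁻¹) * a⁻¹)⁻¹ * (a * v * (a * v)) = a * a * (v * v) := by
        simp [mul_assoc]
      rwa [h2, v2, mul_one] at h1
    have : a * a ∈ zpowers s := by
      rcases H.dec a ha.1 with e | e | e | e
      · exact absurd e aQ
      · exact key z H.zT z2 c0 e
      · exact key _ (hf.conj H.zT) (conj_sq z2) c1 e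
      · exact key _ (hf.conj' H.zT) (by simpa using conj_sq (g := y⁻¹) z2) c2 e
    obtain ⟨k, -, e⟩ := H.b0 a (H.syl.le ha.1) aQ this
    have : k * a * k⁻¹ * (k * a * k⁻¹) = 1 := by
      rcases e with e | e <;> rw [e]
      · exact z2
      · rw [mul_assoc, ← mul_assoc s, ← H.hy.zs, mul_assoc, w.t2, mul_one, z2]
    have := conj_sq (g := k⁻¹) this
    simpa [mul_assoc] using this
  have z1Q : y * z * y⁻¹ ∉ Q := fun e => H.zQ (by simpa [mul_assoc] using conj_mem_of_norm' yQ e)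
  have zzQ : z * (y * z * y⁻¹) ∉ Q := fun e => H.zQ (hq.fpf z H.zT (by
    have := conj_mem_of_norm' (nQ H.zT) e
    rw [zi]; simpa [mul_assoc] using this))
  have sq : ∀ a ∈ T ⊓ cm (zpowers s) z, a * a = 1 := fun a ha => by
    by_cases aQ : a ∈ Q
    swap
    · exact sqA a ha aQ
    have key : ∀ v ∈ T ⊓ cm (zpowers s) z, v ∉ Q → v * a * v⁻¹ = a⁻¹ := fun v hv vQ => by
      have h1 := sqA _ (mul_mem ha hv) fun e => vQ ((mul_mem_cancel_left aQ).1 e)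
      rw [inv_eq_of_mul_eq_one_right (sqA v hv vQ), eq_inv_iff_mul_eq_one]
      calc v * a * v * a = a⁻¹ * (a * v * (a * v)) * a := by group
        _ = 1 := by rw [h1]; group
    have h1 := key z zA H.zQ
    have h2 := key _ z1A z1Q
    have h3 := key _ (mul_mem zA z1A) zzQ
    generalize y * z * y⁻¹ = v at h2 h3
    have : a⁻¹ = a := by
      calc a⁻¹ = z * (v * a * v⁻¹) * z⁻¹ := by rw [← h3]; group
        _ = (z * a * z⁻¹)⁻¹ := by rw [h2]; group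
        _ = a := by rw [h1, inv_inv]
    rw [← this, this, mul_eq_one_iff_eq_inv, this]
  have cz : ∀ a ∈ T ⊓ cm (zpowers s) z, a * z = z * a := fun a ha => by
    have h1 := sq _ (mul_mem ha zA)
    calc a * z = (a * z)⁻¹ := (inv_eq_of_mul_eq_one_right h1).symm
      _ = z * a := by rw [mul_inv_rev, zi, inv_eq_of_mul_eq_one_right (sq a ha)]
  have EA : ∀ a ∈ C1 s ⊓ C1 z, a ∈ T ⊓ cm (zpowers s) z := fun a ha =>
    mA (H.cz a ha.1 (comm_mem_of_eq (mem_C1.1 ha.2))) (comm_mem_of_eq (mem_C1.1 ha.2))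
  have AE : ∀ a ∈ T ⊓ cm (zpowers s) z, a ∈ C1 s ⊓ C1 z := fun a ha =>
    ⟨H.syl.le ha.1, mem_C1.2 (cz a ha)⟩
  refine ⟨fun a ha e => ⟨sq a (mA ha e), cz a (mA ha e)⟩, fun t ht => mem_norm_of_conj fun a ha => ?_,
    mem_norm_of_conj fun a ha => AE _ (yA a (EA a ha)), fun e => ?_⟩
  · have a1 := EA a ha
    have := mul_mem (mA (mul_mem (mul_mem (mul_mem ht a1.1) (inv_mem ht)) (inv_mem a1.1))
      (CAa.cls hf ht a1.1 H.zT)) a1
    exact AE _ (by simpa using this)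
  · obtain ⟨k, k1, k2⟩ := H.toQS.f2 e
    have k3 : k * z * k⁻¹ * z⁻¹ = s := by rw [k2, H.hy.zs]; group
    have := cz k (mA (H.cz k k1 (k3 ▸ H.sQ)) (k3 ▸ mem_zpowers s))
    rw [this] at k3
    exact w.t1 (by rw [← k3]; group)

end Cfsg.Lib.N9M
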