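import Cfsg.Agent.N9M.Defs

/-! A strongly `3`-embedded subgroup `3 ^ 2 : SD₁₆`: basic lemmas. -/

set_option autoImplicit false
set_option linter.unusedSectionVars false

namespace Cfsg.Lib.N9M

open Subgroup Cfsg.Lib.Trans Cfsg.Lib.SC6
open Cfsg.Lib.Odd3 (conj_mem_of_norm conj_mem_of_norm' mem_norm_of_conj)
open Cfsg.Lib.L3 (sq_cases cube_cases SZ)

variable {G : Type*} [Group G] [Finite G] {u s c z y w h : G} {Q T X : Subgroup G}

theorem cj_C1 (g a : G) : Trans.cj g (C1 a) = C1 (g * a * g⁻¹) := by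
  ext x
  rw [mem_cj, mem_C1, mem_C1]
  constructor
  · intro e
    calc x * (g * a * g⁻¹) = g * (g⁻¹ * x * g * a) * g⁻¹ := by group
      _ = _ := by rw [e]; group
  · intro e
    calc g⁻¹ * x * g * a = g⁻¹ * (x * (g * a * g⁻¹)) * g := by group
      _ = _ := by rw [e]; group

theorem mem_C1_conj {g a x : G} : x ∈ C1 (g * a * g⁻¹) ↔ g⁻¹ * x * g ∈ C1 a := by
  rw [← cj_C1, mem_cj]

theorem mem_nm_cj {g x : G} {A : Subgroup G} : x ∈ Nm (Trans.cj g A) ↔ g⁻¹ * x * g ∈ Nm A := by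
  constructor
  · intro e
    refine mem_norm_of_conj fun a ha => ?_
    have := mem_cj.1 (conj_mem_of_norm e (mem_cj.2 (show g⁻¹ * (g * a * g⁻¹) * g ∈ A by simpa [mul_assoc] using ha)))
    convert this using 1; group
  · intro e
    refine mem_norm_of_conj fun a ha => mem_cj.2 ?_
    have := conj_mem_of_norm e (mem_cj.1 ha)
    convert this using 1; group

theorem mem_om_cj {g x : G} {A : Subgroup G} : x ∈ om (Trans.cj g A) ↔ g⁻¹ * x * g ∈ om A := by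
  constructor
  · rintro ⟨h1, h2, h3⟩
    refine ⟨mem_cj.1 h1, by simpa using conj_sq (g := g⁻¹) h2, fun a ha => ?_⟩
    have := conj_comm (g := g⁻¹) (h3 (g * a * g⁻¹) (mem_cj.2 (by simpa [mul_assoc] using ha)))
    simpa [mul_assoc] using this
  · rintro ⟨h1, h2, h3⟩
    refine ⟨mem_cj.2 h1, by simpa [mul_assoc] using conj_sq (g := g) h2, fun a ha => ?_⟩
    have := conj_comm (g := g) (h3 _ (mem_cj.1 ha))
    simpa [mul_assoc] using this

theorem nrm_conj (g u x : G) : nrm (g * u * g⁻¹) (g * x * g⁻¹) = g * nrm u x * g⁻¹ := by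
  unfold nrm; group

theorem St.conj {s x : G} (e : St s x) (g : G) : St s (g * x * g⁻¹) := by
  obtain ⟨k, rfl⟩ := e
  exact ⟨g * k, by group⟩

theorem st_conj_iff {s x g : G} : St s (g * x * g⁻¹) ↔ St s x :=
  ⟨fun e => by simpa [mul_assoc] using e.conj g⁻¹, fun e => e.conj g⟩

theorem st_conj_left {s x g : G} : St (g * s * g⁻¹) x ↔ St s x :=
  ⟨fun ⟨k, e⟩ => ⟨k * g, by rw [← e]; group⟩, fun ⟨k, e⟩ => ⟨k * g⁻¹, by rw [← e]; group⟩⟩

theorem st_self (s : G) : St s s := ⟨1, by simp⟩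

theorem Hy.cj (H : Hy u s c z) (g : G) :
    Hy (g * u * g⁻¹) (g * s * g⁻¹) (g * c * g⁻¹) (g * z * g⁻¹) where
  w6 := H.w6.cj g
  zc := by rw [← H.zc]; group
  z2 := conj_sq H.z2
  zu := by
    calc _ = g * (z * u * z⁻¹) * g⁻¹ := by group
      _ = _ := by rw [H.zu]; group
  sc := by
    calc _ = g * (c * s * c⁻¹) * g⁻¹ := by group
      _ = _ := by rw [H.sc]; group
  conj3 := fun y h1 h2 => by
    obtain ⟨k, rfl⟩ := H.conj3 y h1 h2
    exact ⟨k * g⁻¹, by group⟩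
  cu2 := fun a b ha hb => by
    have := H.cu2 (g⁻¹ * a * g) (g⁻¹ * b * g) (mem_C1.1 (mem_C1_conj.1 (mem_C1.2 ha)))
      (mem_C1.1 (mem_C1_conj.1 (mem_C1.2 hb)))
    have key : ∀ x : G, (g⁻¹ * x * g) ^ 3 = 1 → x ^ 3 = 1 := fun x hx => by
      calc x ^ 3 = g * (g⁻¹ * x * g) ^ 3 * g⁻¹ := by rw [pow_three', pow_three']; group
        _ = 1 := by rw [hx]; group
    refine this.imp (key a) (Or.imp (key b) fun e => key _ ?_)
    rw [← e]; congr 1; group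
  exp3 := H.exp3
  noM := fun P h1 h2 h3 => by
    have := H.noM (Trans.cj g⁻¹ P) (h1.map _) (mem_nm_cj.2 (by simpa using h2))
      (mem_nm_cj.2 (by convert h3 using 1; group))
    refine eq_bot_iff.2 fun a ha => ?_
    have h4 : g⁻¹ * a * g ∈ Trans.cj g⁻¹ P := mem_cj_inv.2 (by simpa [mul_assoc] using ha)
    rw [this, mem_bot] at h4
    rw [mem_bot]
    calc a = g * (g⁻¹ * a * g) * g⁻¹ := by group
      _ = 1 := by rw [h4]; group
  c9 := H.c9
  n27 := H.n27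
  c16 := H.c16

theorem QS.cj (H : QS u s c z Q) (g : G) :
    QS (g * u * g⁻¹) (g * s * g⁻¹) (g * c * g⁻¹) (g * z * g⁻¹) (cj g Q) where
  hy := H.hy.cj g
  pg := H.pg.map _
  sQ := mem_cj.2 (by simpa [mul_assoc] using H.sQ)
  le := fun a ha => mem_C1_conj.2 (H.le (mem_cj.1 ha))
  nQ := fun a ha => mem_nm_cj.2 (H.nQ (mem_C1_conj.1 ha))
  zQ := fun e => H.zQ (by simpa [mul_assoc] using mem_cj.1 e)
  b0 := fun a h1 h2 h3 => by
    obtain ⟨k, k1, k2⟩ := H.b0 (g⁻¹ * a * g) (mem_C1_conj.1 h1) (fun e => h2 (mem_cj.2 e)) (by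
      rw [← cj_zpowers] at h3
      have := mem_cj.1 h3
      convert this using 1; group)
    refine ⟨g * k * g⁻¹, mem_C1_conj.2 (by simpa [mul_assoc] using k1), k2.imp (fun e => ?_) fun e => ?_⟩
    · rw [← e]; group
    · calc _ = g * (k * (g⁻¹ * a * g) * k⁻¹) * g⁻¹ := by group
        _ = _ := by rw [e]; group

theorem CS.cj (H : CS u s c z Q T) (g : G) :
    CS (g * u * g⁻¹) (g * s * g⁻¹) (g * c * g⁻¹) (g * z * g⁻¹) (cj g Q) (cj g T) where
  toQS := H.toQS.cj g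
  syl := by rw [← cj_C1]; exact H.syl.cj g
  i2 := H.i2.cj g
  zT := mem_cj.2 (by simpa [mul_assoc] using H.zT)
  dec := fun a ha => by
    obtain ⟨q, q1, o, o1, i, e⟩ := H.dec _ (mem_C1_conj.1 ha)
    refine ⟨g * q * g⁻¹, mem_cj.2 (by simpa [mul_assoc] using q1), g * o * g⁻¹, fun b hb => ?_, i,
      e.imp (fun e => ?_) fun e => ?_⟩
    · simpa [mul_assoc] using conj_comm (g := g) (o1 _ (mem_cj.1 hb))
    · calc a = g * (g⁻¹ * a * g) * g⁻¹ := by group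
        _ = _ := by rw [e, conj_pow]; group
    · calc a = g * (g⁻¹ * a * g) * g⁻¹ := by group
        _ = _ := by rw [e, conj_pow]; group

theorem IsX.cj (H : IsX u z Q X) (g : G) :
    IsX (g * u * g⁻¹) (g * z * g⁻¹) (cj g Q) (cj g X) := fun x => by
  rw [mem_cj, H, mem_om_cj, ← mem_C1, ← mem_C1, mem_C1_conj]
  have : nrm (g * u * g⁻¹) x = g * nrm u (g⁻¹ * x * g) * g⁻¹ := by rw [← nrm_conj]; congr 1; group
  rw [this, conj_eq_one_iff]

theorem Hy.zs (H : Hy u s c z) : z * s = s * z := by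
  have h1 : z * s * (z * s) = 1 := by rw [← H.sc]; exact conj_sq H.w6.t2
  calc z * s = z * s * (z * s) * (s * z) * (z * s * (s * z))⁻¹ := by group
    _ = s * z := by rw [h1, mul_assoc z s, ← mul_assoc s s, H.w6.t2, one_mul z, H.z2]; group

theorem Hy.zns (H : Hy u s c z) : z ∉ zpowers s := fun e => by
  have h1 : z * u = u * z := by
    rcases sq_cases H.w6.t2 e with e | e
    · simp [e]
    · rw [e, H.w6.yt]
  have h2 := H.zu
  rw [conj_eq_of_comm h1] at h2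
  refine H.w6.y1 ?_
  calc u = u ^ 3 * (u * u)⁻¹ := by rw [pow_three']; group
    _ = 1 := by rw [H.w6.y3, mul_eq_one_iff_eq_inv.2 h2]; group

theorem Hy.z1 (H : Hy u s c z) : z ≠ 1 := fun e => H.zns (e ▸ one_mem _)

theorem Hy.cz (H : Hy u s c z) : c * z * c⁻¹ = z := by rw [← H.zc]; group

theorem Hy.czs (H : Hy u s c z) : c * (z * s) * c⁻¹ = s := by
  calc c * (z * s) * c⁻¹ = c * z * c⁻¹ * (c * s * c⁻¹) := by group
    _ = s := by rw [H.cz, H.sc, ← mul_assoc, H.z2, one_mul]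

theorem Hy.cv (H : Hy u s c z) : c * (c * u * c⁻¹) * c⁻¹ = u⁻¹ := by
  rw [← H.zu, ← H.zc]; group

theorem Hy.cc (H : Hy u s c z) : Hy (c * u * c⁻¹) (z * s) c z := by
  have := H.cj c
  rwa [H.sc, H.cz, mul_inv_cancel_right] at this

theorem QS.cc (H : QS u s c z Q) : QS (c * u * c⁻¹) (z * s) c z (Trans.cj c Q) := by
  have := H.cj c
  rwa [H.hy.sc, H.hy.cz, mul_inv_cancel_right] at this

theorem CS.cc (H : CS u s c z Q T) :
    CS (c * u * c⁻¹) (z * s) c z (Trans.cj c Q) (Trans.cj c T) := by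
  have := H.cj c
  rwa [H.hy.sc, H.hy.cz, mul_inv_cancel_right] at this

theorem QS.cjcc (H : QS u s c z Q) : Trans.cj c (Trans.cj c Q) = Q := by
  rw [← cj_mul, H.hy.zc]
  exact cj_eq_of_mem_normalizer (H.nQ (mem_C1.2 H.hy.zs))

theorem Hy.st3 (H : Hy u s c z) {t g : G} (t2 : t * t = 1) (t1 : t ≠ 1) (h3 : 3 ∣ orderOf g)
    (e : g * t = t * g) : St s t := by
  obtain ⟨m, n, -, g1, g3⟩ := three_part h3
  exact H.w6.conj t _ n t2 t1 g1 g3 (Commute.pow_left e m)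

theorem Hy.pair (H : Hy u s c z) {t g : G} (t2 : t * t = 1) (t1 : t ≠ 1) (g3 : g ^ 3 = 1)
    (g1 : g ≠ 1) (e : g * t = t * g) : ∃ k, k * s * k⁻¹ = t ∧ k * u * k⁻¹ = g := by
  have := Fact.mk Nat.prime_three
  obtain ⟨k, rfl⟩ := H.w6.conj t g 1 t2 t1 g1 (by rw [pow_one, g3]) e
  obtain ⟨a, a1, a2⟩ := L3.exists_conj_mem (k := 1) (H.w6.cj k).syl3 (mem_C1.2 e) (by rw [pow_one, g3])
  have a3 : a⁻¹ * (k * s * k⁻¹) * a⁻¹⁻¹ = k * s * k⁻¹ := conj_eq_of_comm (mem_C1.1 (inv_mem a1))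
  rcases cube_cases (H.w6.cj k).y3 a2 with b | b | b
  · exact absurd b (conj_ne_one g1)
  · refine ⟨a⁻¹ * k, by rw [← a3]; group, ?_⟩
    calc _ = a⁻¹ * (k * u * k⁻¹) * a := by group
      _ = g := by rw [← b]; group
  · refine ⟨a⁻¹ * k * z, ?_, ?_⟩
    · calc _ = a⁻¹ * (k * (z * s * z⁻¹) * k⁻¹) * a⁻¹⁻¹ := by group
        _ = _ := by rw [conj_eq_of_comm H.zs, a3]
    · calc _ = a⁻¹ * (k * (z * u * z⁻¹) * k⁻¹) * a := by group
        _ = a⁻¹ * (k * u * k⁻¹)⁻¹ * a := by rw [H.zu]; group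
        _ = g := by rw [← b]; group

theorem Hy.not3 (H : Hy u s c z) {C : Subgroup G} {a b : G} (a2 : a * a = 1) (b2 : b * b = 1)
    (a1 : a ≠ 1) (b1 : b ≠ 1) (ab : a ≠ b) (e : a * b = b * a) (ha : C ≤ C1 a) (hb : C ≤ C1 b) :
    ¬ 3 ∣ Nat.card C := fun h3 => by
  have := Fact.mk Nat.prime_three
  have := Fact.mk Nat.prime_two
  obtain ⟨g, hg⟩ := exists_prime_orderOf_dvd_card' 3 h3
  have g3 : (g : G) ^ 3 ^ 1 = 1 := by
    rw [pow_one, ← hg]; exact congrArg Subtype.val (pow_orderOf_eq_one g)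
  have g1 : (g : G) ≠ 1 := fun c => by
    rw [(Subtype.ext c : g = 1), orderOf_one] at hg; omega
  have hR : IsPGroup 2 (VV a b) := (pg_zp a2).to_sup_of_normal_left' (pg_zp b2)
    (zpowers_le.2 (nm_zp e.symm))
  exact ab (H.w6.two hR g1 g3 (tV a b) (dV a b) (mem_C1.1 (ha g.2)) (mem_C1.1 (hb g.2)) a1 b1)

theorem QS.loc (H : QS u s c z Q) : Loc s u Q :=
  H.hy.w6.loc H.pg H.sQ H.le (H.nQ (mem_C1.2 H.hy.w6.yt))

theorem QS.uniq (H : QS u s c z Q) {g k : G} (e : g * s * g⁻¹ = k * s * k⁻¹) :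
    Trans.cj g Q = Trans.cj k Q := by
  have : k⁻¹ * g ∈ Nm Q := H.nQ (mem_C1.2 (by
    calc k⁻¹ * g * s = k⁻¹ * (g * s * g⁻¹) * g := by group
      _ = _ := by rw [e]; group))
  conv_rhs => rw [← cj_eq_of_mem_normalizer this, ← cj_mul]
  congr 1; group

theorem QS.zsQ (H : QS u s c z Q) : z * s ∉ Q := fun e =>
  H.zQ ((Q.mul_mem_cancel_right H.sQ).1 e)

theorem QS.sQc (H : QS u s c z Q) : s ∉ Trans.cj c Q := fun e => by
  have := H.cc.zsQ
  rw [← mul_assoc, H.hy.z2, one_mul] at this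
  exact this e

theorem QS.zQc (H : QS u s c z Q) : z ∉ Trans.cj c Q := H.cc.zQ

theorem QS.r2 (H : QS u s c z Q) {a : G} (h1 : a ∈ Q) (h2 : a ∈ Trans.cj c Q) : a * z = z * a := by
  have e1 := mem_C1.1 (H.le h1)
  have e2 := mem_C1.1 (H.cc.le h2)
  calc a * z = a * (z * s) * s⁻¹ := by group
    _ = z * (s * a) * s⁻¹ := by rw [e2]; group
    _ = z * a := by rw [← e1]; group

theorem QS.nrm_cases (H : QS u s c z Q) {x : G} (hx : x ∈ Q) : nrm u x = 1 ∨ nrm u x = s :=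
  sq_cases H.hy.w6.t2 (H.loc.fp.norm hx)

theorem QS.nrm_s (H : QS u s c z Q) {x : G} (hx : x ∈ Q) : nrm u (x * s) = nrm u x * s := by
  have e1 := H.hy.w6.yt
  have e2 := H.hy.w6.inv.yt
  have e3 := H.loc.cen _ (H.loc.fp.conj hx)
  have e4 := H.loc.cen _ (H.loc.fp.conj' hx)
  have a1 : u * (x * s) * u⁻¹ = u * x * u⁻¹ * s := by rw [mul_assoc _ u⁻¹, e2]; group
  have a2 : u⁻¹ * (x * s) * u = u⁻¹ * x * u * s := by rw [mul_assoc _ u, e1]; group
  unfold nrm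
  rw [a1, a2]
  generalize u * x * u⁻¹ = p at e3
  generalize u⁻¹ * x * u = q at e4
  calc x * s * (p * s) * (q * s) = x * (s * p) * s * q * s := by group
    _ = x * p * (s * s) * q * s := by rw [← e3]; group
    _ = _ := by rw [H.hy.w6.t2]; group

theorem QS.tau0 (H : QS u s c z Q) {x : G} (hx : x ∈ Q) (x2 : x * x = 1) (e : x * z = z * x)
    (n : nrm u x = 1) : u * x * u⁻¹ * z * (u * x * u⁻¹)⁻¹ = z * x := by
  have y1 : z * u⁻¹ * z⁻¹ = u := by rw [← conj_inv, H.hy.zu, inv_inv]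
  have a1 : z * (u * x * u⁻¹) * z⁻¹ = u⁻¹ * x * u := by
    calc _ = z * u * z⁻¹ * (z * x * z⁻¹) * (z * u⁻¹ * z⁻¹) := by group
      _ = _ := by rw [H.hy.zu, y1, conj_eq_of_comm e.symm]
  have p2 : u * x * u⁻¹ * (u * x * u⁻¹) = 1 := conj_sq x2
  unfold nrm at n
  rw [← a1] at n
  generalize u * x * u⁻¹ = p at n p2
  calc p * z * p⁻¹ = x⁻¹ * (x * p * (z * p * z⁻¹)) * z * (p * p)⁻¹ := by group
    _ = z * x := by rw [n, p2, inv_eq_of_mul_eq_one_right x2, ← e]; group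

theorem CS.i2' (H : CS u s c z Q T) {B : Subgroup G} (hB : IsPGroup 2 B) (e : B ≤ C1 s) :
    I2 (B ⊓ Q) B := by
  have := Fact.mk Nat.prime_two
  obtain ⟨S, s1, s2⟩ := exists_isSylowIn_ge (H := C1 s) hB e
  obtain ⟨k, k1, k2⟩ := s1.exists_cj_eq H.syl
  have i1 := H.i2.cj k
  rw [k2, cj_eq_of_mem_normalizer (H.nQ k1)] at i1
  exact i1.inf s2

theorem CS.hY (H : CS u s c z Q T) {a : G} (ha : a ∈ Q) (e : a * z = z * a) :
    a ∈ Trans.cj c Q ∨ a * s ∈ Trans.cj c Q := by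
  have i := H.cc.i2' (B := Q ⊓ C1 z) H.pg.to_inf_left fun b hb => mem_C1.2 (by
    rw [← mul_assoc, mem_C1.1 hb.2, mul_assoc, mem_C1.1 (H.le hb.1), mul_assoc])
  by_cases h1 : a ∈ Trans.cj c Q
  · exact Or.inl h1
  · exact Or.inr (i.mul a ⟨ha, mem_C1.2 e⟩ s ⟨H.sQ, mem_C1.2 H.hy.zs.symm⟩ (fun h => h1 h.2)
      fun h => H.sQc h.2).2

theorem tri3 {N : Subgroup G} {q r a b d : G} (hq : q ∈ Nm N) (hr : r ∈ Nm N)
    (q1 : q * a * q⁻¹ * a⁻¹ ∈ N) (q2 : q * d * q⁻¹ * b⁻¹ ∈ N) (q3 : q * b * q⁻¹ * d⁻¹ ∈ N)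
    (r1 : r * b * r⁻¹ * b⁻¹ ∈ N) (r2 : r * a * r⁻¹ * d⁻¹ ∈ N) (r3 : r * d * r⁻¹ * a⁻¹ ∈ N)
    (e : b * a⁻¹ ∉ N) : 3 ∣ orderOf (q * r) := by
  have hg := mul_mem hq hr
  have step : ∀ {k x y v : G}, k ∈ Nm N → x * y⁻¹ ∈ N → k * y * k⁻¹ * v⁻¹ ∈ N →
      k * x * k⁻¹ * v⁻¹ ∈ N := fun {k x y v} hk h1 h2 => by
    have := mul_mem (conj_mem_of_norm hk h1) h2
    convert this using 1; group
  have g1 : q * r * a * (q * r)⁻¹ * b⁻¹ ∈ N := by
    have := step hq r2 q2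
    convert this using 1; group
  have g2 : q * r * b * (q * r)⁻¹ * d⁻¹ ∈ N := by
    have := step hq r1 q3
    convert this using 1; group
  have g3 : q * r * d * (q * r)⁻¹ * a⁻¹ ∈ N := by
    have := step hq r3 q1
    convert this using 1; group
  generalize q * r = g at hg g1 g2 g3
  refine three_dvd (H := cm N a) ⟨pow_mem hg 3, ?_⟩ fun c => e ?_
  · have := step hg (step hg g1 g2) g3
    convert this using 1
    rw [pow_three']; group
  · have := mul_mem (inv_mem g1) c.2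
    convert this using 1; group

end Cfsg.Lib.N9M
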