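import Cfsg.Agent.N9M.CAa
import Cfsg.Agent.N9M.Gen
import Cfsg.Agent.N9M.Kit

/-! The elementary abelian subgroup `C(s) ⊓ C(z)` in the case `A₅`. -/

set_option autoImplicit false

namespace Cfsg.Lib.N9M

open Subgroup Cfsg.Lib.Trans Cfsg.Lib.SC6
open Cfsg.Lib.Odd3 (conj_mem_of_norm conj_mem_of_norm' mem_norm_of_conj)
open Cfsg.Lib.L3 (sq_cases cube_cases SZ)

variable {G : Type*} [Group G] [Finite G] {u s c z y w h : G} {Q T X : Subgroup G}

namespace CAb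

omit [Finite G] in
theorem c1_zs : C1 s ⊓ C1 (z * s) = C1 s ⊓ C1 z := by
  ext a
  simp only [mem_inf, mem_C1]
  refine and_congr_right fun h1 => ⟨fun h2 => mul_right_cancel (b := s) ?_, fun h2 => ?_⟩
  · rw [mul_assoc, h2, mul_assoc, ← h1, mul_assoc]
  · rw [← mul_assoc, h2, mul_assoc, h1, mul_assoc]

/-- Two disjoint translates of the set of commutators `[q, z]`. -/
theorem two_le {Y : Subgroup G} (zs : z * s = s * z) (hs : s ∈ Y) (hQ : Q ≤ C1 s)
    (h1 : ∀ q ∈ Q, q * z * q⁻¹ * z⁻¹ ∈ Y) (h2 : ∀ g, g * z * g⁻¹ ≠ z * s) :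
    2 * Nat.card Q ≤ Nat.card Y * Nat.card ↥(Q ⊓ C1 z) := by
  have e1 := card_eq_card_quotient_mul_card_subgroup ((C1 z).subgroupOf Q)
  have e2 : Nat.card ((C1 z).subgroupOf Q) = Nat.card ↥(Q ⊓ C1 z) := by
    rw [← inf_subgroupOf_left]
    exact Nat.card_congr (subgroupOfEquivOfLe inf_le_left).toEquiv
  let f : Q ⧸ (C1 z).subgroupOf Q → G := fun x => x.out * z * (x.out : G)⁻¹ * z⁻¹
  have f1 : ∀ x, f x ∈ Y := fun x => h1 _ x.out.2
  have f2 : Function.Injective f := fun a b e => by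
    rw [← a.out_eq, ← b.out_eq]
    refine QuotientGroup.eq.2 (mem_subgroupOf.2 (mem_C1.2 ?_))
    have := mul_right_cancel e
    simp only [Subgroup.coe_mul, Subgroup.coe_inv]
    calc _ = (a.out : G)⁻¹ * (b.out * z * (b.out : G)⁻¹) * b.out := by group
      _ = _ := by rw [← this]; group
  have f3 : ∀ a b, f a ≠ f b * s := fun a b e => h2 ((b.out : G)⁻¹ * a.out) (by
    have e3 := mem_C1.1 (hQ b.out.2)
    calc _ = (b.out : G)⁻¹ * f a * z * b.out := by simp only [f]; group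
      _ = z * (b.out : G)⁻¹ * z⁻¹ * (s * z) * b.out := by rw [e]; simp only [f]; group
      _ = z * (b.out : G)⁻¹ * (s * b.out) := by rw [← zs]; group
      _ = _ := by rw [← e3]; group)
  let F : (Q ⧸ (C1 z).subgroupOf Q) ⊕ (Q ⧸ (C1 z).subgroupOf Q) → Y :=
    Sum.elim (fun x => ⟨f x, f1 x⟩) fun x => ⟨f x * s, mul_mem (f1 x) hs⟩
  have hF : Function.Injective F := by
    rintro (a | a) (b | b) e <;> have e' := congrArg Subtype.val e
    · rw [f2 e']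
    · exact absurd e' (f3 a b)
    · exact absurd e'.symm (f3 b a)
    · rw [f2 (mul_right_cancel e')]
  have := Nat.card_le_card_of_injective F hF
  rw [Nat.card_sum] at this
  rw [e1, e2, ← mul_assoc]
  exact Nat.mul_le_mul_right _ (by omega)

end CAb

theorem CA.ce (H : CA u s c z y Q T) : CE u s c z y Q T := by
  have := Fact.mk Nat.prime_two
  obtain ⟨A, B, C, D⟩ := H.el
  have zs := H.hy.zs
  have s2 := H.hy.w6.t2
  have s1 := H.hy.w6.t1
  have z2 := H.hy.z2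
  have Szs : St s (z * s) := ⟨c, H.hy.sc⟩
  have eT : C1 s ⊓ C1 z ≤ T := fun a ha => H.cz a ha.1 (comm_mem_of_eq (mem_C1.1 ha.2))
  have el : ∀ a ∈ C1 s ⊓ C1 z, a * a = 1 := fun a ha =>
    (A a (eT ha) (comm_mem_of_eq (mem_C1.1 ha.2))).1
  have zE : z ∈ C1 s ⊓ C1 z := ⟨mem_C1.2 zs, mem_C1.2 rfl⟩
  have ab : ∀ a ∈ C1 s ⊓ C1 z, ∀ b ∈ C1 s ⊓ C1 z, a * b = b * a := fun a ha b hb => by
    rw [← inv_eq_of_mul_eq_one_right (el _ (mul_mem ha hb)), mul_inv_rev,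
      inv_eq_of_mul_eq_one_right (el a ha), inv_eq_of_mul_eq_one_right (el b hb)]
  have sup : Q ⊔ (C1 s ⊓ C1 z) = T := by
    refine le_antisymm (sup_le H.QT eT) fun a ha => ?_
    have key : ∀ e ∈ C1 s ⊓ C1 z, a * e ∈ Q → a ∈ Q ⊔ (C1 s ⊓ C1 z) := fun e he h1 =>
      (mul_mem_cancel_right (mem_sup_right he)).1 (mem_sup_left h1)
    rcases H.dec a ha with e | e | e | e
    · exact mem_sup_left e
    · exact key _ zE e
    · exact key _ (conj_mem_of_norm C zE) e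
    · exact key _ (conj_mem_of_norm' C zE) e
  have QE : Q ⊓ (C1 s ⊓ C1 z) = Q ⊓ C1 z := by rw [← inf_assoc, inf_eq_left.2 H.le]
  have b0 : ∀ w ∈ C1 s ⊓ C1 z, w ∉ Q → ∃ k ∈ C1 s, k * w * k⁻¹ = z ∨ k * w * k⁻¹ = z * s :=
    fun w hw h1 => H.b0 w hw.1 h1 (el w hw ▸ one_mem _)
  have Y1 : Q ⊓ cm (zpowers s) z = Q ⊓ C1 z := by
    ext a
    exact and_congr_right fun ha => ⟨fun e => mem_C1.2 (A a (H.QT ha) e.2).2, fun e =>
      ⟨nm_zp (mem_C1.1 (H.le ha)), comm_mem_of_eq (mem_C1.1 e)⟩⟩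
  have sY : s ∈ Q ⊓ C1 z := ⟨H.sQ, mem_C1.2 zs.symm⟩
  have cQ : 2 * Nat.card Q = Nat.card ↥(Q ⊓ C1 z) * Nat.card ↥(Q ⊓ C1 z) := by
    refine le_antisymm (CAb.two_le zs sY H.le (fun q hq => ?_) fun g e => D ?_)
      (Y1 ▸ H.toQS.cardY1)
    · have r : q * z * q⁻¹ * z⁻¹ ∈ Q := by
        have := mul_mem hq (conj_mem_of_norm (H.nQ zE.1) (inv_mem hq))
        convert this using 1; group
      refine ⟨r, mem_C1.2 (A _ (H.QT r) ?_).2⟩
      have := H.sq _ r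
      convert this using 1
      calc _ = q * z * q⁻¹ * z⁻¹ * (z * z) * q * (z * z)⁻¹ * z * q⁻¹ * z⁻¹ := by group
        _ = _ := by rw [z2]; group
    · exact st_conj_iff.1 (e ▸ Szs)
  refine { H with
    zD := D, el := el, eT := eT, nE := B, yE := C, cE := ?_, sup := sup, cw := ?_, cE4 := ?_,
    cQ := cQ, y8 := ?_, half := ?_ }
  · refine mem_norm_of_conj fun a ha => ?_
    rw [← CAb.c1_zs, inf_comm, ← H.hy.sc]
    refine ⟨mem_C1.2 (conj_comm (mem_C1.1 ha.1)), mem_C1.2 ?_⟩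
    have := conj_comm (g := c) (mem_C1.1 (CAb.c1_zs.ge ha).2)
    rwa [H.hy.czs] at this
  · intro w hw h1
    obtain ⟨k, k1, k2⟩ := b0 w hw h1
    refine (eq_of_le_of_card_ge (le_inf inf_le_left fun a ha => mem_C1.2 (ab a ha w hw))
      (le_of_eq ?_)).symm
    rw [← card_cj k, cj_inf, cj_C1, cj_C1, conj_eq_of_comm (mem_C1.1 k1)]
    rcases k2 with e | e
    · rw [e]
    · rw [e, CAb.c1_zs]
  · have := Solv.PG.card_sup_mul_card_inf (K := Q) (H := C1 s ⊓ C1 z) (inf_le_left.trans H.nQ)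
    rw [sup, QE, H.card] at this
    refine Nat.eq_of_mul_eq_mul_left (Nat.card_pos (α := Q)) ?_
    rw [← this]; ring
  · have p : IsPGroup 2 ↥(Q ⊓ C1 z) := H.pg.to_inf_left
    have m := H.hy.w6.card_two (n := 1) p H.y1 (by rw [pow_one, H.y3])
      (QE ▸ nm_inf (H.nQ (mem_C1.2 H.ys)) C) sY H.ys s1
    obtain ⟨k, hk⟩ := IsPGroup.iff_card.1 p
    rw [hk] at m cQ ⊢
    by_contra! lt
    have k3 : k < 3 := (Nat.pow_lt_pow_iff_right (a := 2) (by norm_num)).1 lt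
    interval_cases k
    · omega
    · refine H.ne (eq_of_le_of_card_ge (zpowers_le.2 H.sQ) ?_).ge
      rw [card_zp s2 s1]; omega
    · omega
  · intro w hw h1
    obtain ⟨k, k1, k2⟩ := b0 w hw h1
    have e1 : k * (w * s) * k⁻¹ = k * w * k⁻¹ * s := by
      rw [← mul_assoc, mul_assoc _ s, mul_assoc _ k⁻¹, mem_C1.1 (inv_mem k1)]
    rw [← st_conj_iff (g := k), ← st_conj_iff (g := k) (x := w * s), e1]
    rcases k2 with e | e <;> rw [e]
    · exact iff_of_false D (not_not.2 Szs)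
    · rw [mul_assoc, s2, mul_one]
      exact iff_of_true Szs D

end Cfsg.Lib.N9M
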