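import Cfsg.Agent.N9M.Defs

/-! The case `|Q| = 32`. -/

set_option autoImplicit false

namespace Cfsg.Lib.N9M

open Subgroup Cfsg.Lib.Trans Cfsg.Lib.SC6
open Cfsg.Lib.Odd3 (conj_mem_of_norm conj_mem_of_norm' mem_norm_of_conj)
open Cfsg.Lib.L3 (sq_cases cube_cases SZ)

variable {G : Type*} [Group G] [Finite G] {u s c z y w h : G} {Q T X : Subgroup G}

namespace CE1

omit [Group G] [Finite G] in
theorem fixp {p : ℕ} (hp : p.Prime) (S : Set G) [Finite S] (f : G → G) (hs : ∀ x ∈ S, f x ∈ S)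
    (hf : ∀ x ∈ S, f^[p] x = x) : Nat.card S ≡ Nat.card {x | x ∈ S ∧ f x = x} [MOD p] := by
  classical
  have := Fact.mk hp
  have := Fintype.ofFinite S
  let F : Function.End S := fun d => ⟨f d, hs _ d.2⟩
  have hk : ∀ (k : ℕ) (d : S), ((F ^ k) d : G) = f^[k] d := fun k => by
    induction k with
    | zero => intro d; rfl
    | succ k ih =>
      intro d
      rw [pow_succ', Function.iterate_succ_apply', ← ih]
      rfl
  have hF : F ^ p ^ 1 = 1 := by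
    funext d
    apply Subtype.ext
    rw [pow_one, hk, hf _ d.2]; rfl
  have h1 := Equiv.Perm.card_fixedPoints_modEq hF
  rw [← Nat.card_eq_fintype_card, ← Nat.card_eq_fintype_card] at h1
  rwa [Nat.card_congr (α := F.fixedPoints) (β := {x | x ∈ S ∧ f x = x})
    ⟨fun x => ⟨x.1, x.1.2, congrArg Subtype.val x.2⟩, fun x => ⟨⟨x, x.2.1⟩, Subtype.ext x.2.2⟩,
      fun _ => rfl, fun _ => rfl⟩] at h1

omit [Finite G] in
theorem it (w x : G) (k : ℕ) : (fun a => w * a * w⁻¹)^[k] x = w ^ k * x * (w ^ k)⁻¹ := by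
  induction k with
  | zero => simp
  | succ k ih => rw [Function.iterate_succ_apply', ih, pow_succ']; group

omit [Finite G] in
theorem fixc {p : ℕ} (hp : p.Prime) (hw : w ^ p = 1) (S : Set G) [Finite S]
    (hs : ∀ x ∈ S, w * x * w⁻¹ ∈ S) : Nat.card S ≡ Nat.card {x | x ∈ S ∧ x * w = w * x} [MOD p] := by
  have := fixp hp S _ hs fun x _ => by rw [it, hw]; simp
  simpa only [mul_inv_eq_iff_eq_mul, eq_comm (a := w * _)] using this

/-- The product of `Q` and its centraliser in `C(s)`. -/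
def PC (s : G) (Q : Subgroup G) : Subgroup G where
  carrier := {g | ∃ q ∈ Q, ∃ o ∈ C1 s, (∀ a ∈ Q, o * a = a * o) ∧ g = q * o}
  one_mem' := ⟨1, one_mem _, 1, one_mem _, by simp, by simp⟩
  mul_mem' := by
    rintro _ _ ⟨q, hq, o, ho, e, rfl⟩ ⟨r, hr, p, hp, e', rfl⟩
    refine ⟨q * r, mul_mem hq hr, o * p, mul_mem ho hp, fun a ha => ?_, ?_⟩
    · rw [mul_assoc, e' a ha, ← mul_assoc, e a ha, mul_assoc]
    · rw [mul_assoc q, ← mul_assoc o, e r hr]; group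
  inv_mem' := by
    rintro _ ⟨q, hq, o, ho, e, rfl⟩
    have k : ∀ a ∈ Q, o⁻¹ * a = a * o⁻¹ := fun a ha => (Commute.inv_left (e a ha)).eq
    exact ⟨q⁻¹, inv_mem hq, o⁻¹, inv_mem ho, k, by rw [mul_inv_rev, k _ (inv_mem hq)]⟩

theorem PC_eq_1 : type_of% @PC.eq_1 := @PC.eq_1

theorem ucen (H : CA u s c z y Q T) {a : G} (ha : a ∈ Q) (e : a * u = u * a) : a ∈ zpowers s := by
  by_cases k : a = 1
  · exact k ▸ one_mem _
  · exact H.hy.w6.two (n := 1) H.pg H.hy.w6.y1 (by rw [pow_one, H.hy.w6.y3]) H.sQ ha H.hy.w6.yt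
      e.symm H.hy.w6.t1 k ▸ mem_zpowers s

theorem wcen (H : CA u s c z y Q T) (hQ : Nat.card Q = 32) (ws : w ∈ C1 s) (w5 : w ^ 5 = 1)
    (w1 : w ≠ 1) : Q ⊓ C1 w = zpowers s := by
  have h1 := fixc Nat.prime_five w5 Q fun x hx => conj_mem_of_norm (H.nQ ws) hx
  have h2 : Nat.card {x | x ∈ (Q : Set G) ∧ x * w = w * x} = Nat.card ↥(Q ⊓ C1 w) :=
    Nat.card_congr (Equiv.subtypeEquivRight fun x => ⟨fun e => ⟨e.1, mem_C1.2 e.2⟩,
      fun e => ⟨e.1, mem_C1.1 e.2⟩⟩)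
  have h3 : Nat.card ↥(Q ⊓ C1 w) ∣ 2 ^ 5 := (card_dvd_of_le inf_le_left).trans (by rw [hQ]; rfl)
  rw [h2, show Nat.card (Q : Set G) = 32 from hQ] at h1
  obtain ⟨k, hk, e⟩ := (Nat.dvd_prime_pow Nat.prime_two).1 h3
  have h4 : zpowers s ≤ Q ⊓ C1 w := zpowers_le.2 ⟨H.sQ, mem_C1.2 (mem_C1.1 ws).symm⟩
  have h5 : k = 1 ∨ k = 5 := by
    rw [e] at h1
    interval_cases k <;> simp [Nat.ModEq] at h1 ⊢
  rcases h5 with rfl | rfl
  · exact (eq_of_le_of_card_ge h4 (by rw [e, card_zp H.hy.w6.t2 H.hy.w6.t1]; rfl)).symm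
  exfalso
  have h6 : Q ⊓ C1 w = Q := eq_of_le_of_card_ge inf_le_left (by rw [e, hQ]; rfl)
  have hw : w ∈ PC s Q := ⟨1, one_mem _, w, ws, fun a ha => (mem_C1.1 (h6.ge ha).2).symm, by simp⟩
  rcases H.simp (PC s Q) (fun q hq => ⟨q, hq, 1, one_mem _, by simp, by simp⟩)
    (by rintro _ ⟨q, hq, o, ho, -, rfl⟩; exact mul_mem (H.le hq) ho)
    (fun g hg => mem_norm_of_conj (by
      rintro _ ⟨q, hq, o, ho, e, rfl⟩
      refine ⟨g * q * g⁻¹, conj_mem_of_norm (H.nQ hg) hq, g * o * g⁻¹,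
        mul_mem (mul_mem hg ho) (inv_mem hg), fun a ha => ?_, by group⟩
      have := conj_comm (g := g) (e _ (conj_mem_of_norm' (H.nQ hg) ha))
      simpa [mul_assoc] using this)) with e' | e'
  · rw [e'] at hw
    have := pow_card_eq_one' (x := (⟨w, hw⟩ : Q))
    rw [hQ] at this
    exact w1 (pow_eq_one_iff_of_coprime (by norm_num : Nat.Coprime 5 32) |>.1
      ⟨w5, congrArg Subtype.val this⟩)
  · obtain ⟨q, hq, o, -, e1, e2⟩ : u ∈ PC s Q := e'.ge (mem_C1.2 H.hy.w6.yt)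
    have q1 := pow_card_eq_one' (x := (⟨q, hq⟩ : Q))
    rw [hQ] at q1
    have q2 : q ^ 32 = 1 := congrArg Subtype.val q1
    have u1 : u = o ^ 64 := by
      calc u = (u ^ 3) ^ 21 * u := by rw [H.hy.w6.y3]; simp
        _ = u ^ 64 := by rw [← pow_mul, ← pow_succ]
        _ = (q ^ 32) ^ 2 * o ^ 64 := by rw [e2, Commute.mul_pow (e1 q hq).symm, ← pow_mul]
        _ = _ := by rw [q2]; simp
    exact H.ne fun a ha => ucen H ha (u1 ▸ (Commute.pow_right (e1 a ha).symm 64).eq)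

end CE1

open CE1

theorem CE.one (H : CE u s c z y Q T) (e : Nat.card ↥(Q ⊓ C1 z) = 8) : Q ≤ om Q := by
  have hQ : Nat.card Q = 32 := by
    have := H.cQ
    rw [e] at this
    omega
  obtain ⟨w, ws, w5, w1⟩ := H.five
  let I : Set G := {a | a ∈ Q ∧ a * a = 1}
  have s2 := H.hy.w6.t2
  have key : ∀ {p : ℕ} {g : G}, p.Prime → g ^ p = 1 → g ∈ C1 s →
      (∀ a ∈ Q, a * g = g * a → a ∈ zpowers s) → Nat.card I ≡ 2 [MOD p] := fun hp g1 g2 g3 => by
    have := fixc hp g1 I fun x hx => ⟨conj_mem_of_norm (H.nQ g2) hx.1, conj_sq hx.2⟩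
    rw [← card_zp s2 H.hy.w6.t1]
    refine this.trans (congrArg (· % _) (Nat.card_congr (Equiv.subtypeEquivRight fun x =>
      ⟨fun k => g3 x k.1.1 k.2, fun k => ?_⟩)))
    rcases sq_cases s2 k with rfl | rfl
    · exact ⟨⟨one_mem _, by simp⟩, by simp⟩
    · exact ⟨⟨H.sQ, s2⟩, (mem_C1.1 g2).symm⟩
  have h3 := key Nat.prime_three H.hy.w6.y3 (mem_C1.2 H.hy.w6.yt) fun a => ucen H.toCA
  have h5 := key Nat.prime_five w5 ws fun a ha k =>
    (wcen H.toCA hQ ws w5 w1).le ⟨ha, mem_C1.2 k⟩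
  have h2 := fixp Nat.prime_two I (· * s) (fun x hx => ⟨mul_mem hx.1 H.sQ, by
    rw [mul_assoc, ← mul_assoc s, ← mem_C1.1 (H.le hx.1), mul_assoc, s2, mul_one, hx.2]⟩)
    fun x _ => by simp [mul_assoc, s2]
  have h2' : {x | x ∈ I ∧ x * s = x} = ∅ := by
    ext x
    simp [H.hy.w6.t1]
  have h8 : 8 ≤ Nat.card I := e ▸ Nat.card_le_card_of_injective
    (fun x : ↥(Q ⊓ C1 z) => (⟨x, x.2.1, H.el x ⟨H.le x.2.1, x.2.2⟩⟩ : I))
    fun _ _ k => Subtype.ext (congrArg (fun x : I => (x : G)) k)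
  have h32 : Nat.card I ≤ Nat.card (Q : Set G) := Set.ncard_le_ncard (fun x hx => hx.1)
  have hI : I = Q := Set.eq_of_subset_of_ncard_le (fun x hx => hx.1) (by
    change Nat.card Q ≤ Nat.card I
    rw [h2', Nat.card_of_isEmpty (α := (∅ : Set G))] at h2
    rw [show Nat.card (Q : Set G) = 32 from hQ] at h32
    simp only [Nat.ModEq] at h2 h3 h5
    omega)
  have sq : ∀ a ∈ Q, a * a = 1 := fun a ha => (hI.ge ha).2
  refine fun a ha => ⟨ha, sq a ha, fun b hb => ?_⟩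
  rw [← inv_eq_of_mul_eq_one_right (sq _ (mul_mem hb ha)), mul_inv_rev,
    inv_eq_of_mul_eq_one_right (sq a ha), inv_eq_of_mul_eq_one_right (sq b hb)]

end Cfsg.Lib.N9M
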