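import Cfsg.Agent.N9M.Kit
import Cfsg.Agent.N9M.Cj
import Cfsg.Agent.N9M.Gen

/-! The case `A₅` with a large centraliser of `z` in `Q`. -/

set_option autoImplicit false

namespace Cfsg.Lib.N9M

open Subgroup Cfsg.Lib.Trans Cfsg.Lib.SC6
open Cfsg.Lib.Odd3 (conj_mem_of_norm conj_mem_of_norm' mem_norm_of_conj)
open Cfsg.Lib.L3 (sq_cases cube_cases SZ)

variable {G : Type*} [Group G] [Finite G] {u s c z y w h : G} {Q T X : Subgroup G}

namespace CE2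

theorem cmul {A B C : Subgroup G} (h1 : A ≤ C) (h2 : B ≤ C) :
    Nat.card A * Nat.card B ≤ Nat.card C * Nat.card ↥(A ⊓ B) := by
  have e1 := card_mul_relIndex (inf_le_left : A ⊓ B ≤ A)
  have e2 := card_mul_relIndex h2
  rw [inf_relIndex_left] at e1
  have e3 : B.relIndex A ≤ B.relIndex C := relIndex_le_of_le_right h1 index_ne_zero_of_finite
  rw [← e1, ← e2]
  calc _ = Nat.card B * B.relIndex A * Nat.card ↥(A ⊓ B) := by ring
    _ ≤ _ := by gcongr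

theorem exn (H : CA u s c z y Q T) {R : Subgroup G} (le : R ≤ Q) (r2 : ∀ r ∈ R, r * r = 1)
    (c8 : 8 ≤ Nat.card R) : ∃ r ∈ R, r ≠ 1 ∧ nrm u r = 1 := by
  by_contra! k
  have L := H.toQS.loc
  have u3 := L.fp.y3
  have ns : ∀ r ∈ R, r ≠ 1 → nrm u r = s := fun r hr r1 =>
    (H.toQS.nrm_cases (le hr)).resolve_left (k r hr r1)
  obtain ⟨⟨a, ha⟩, a1⟩ := (ne_bot_iff_exists_ne_one (H := R)).1 fun e => by
    rw [e, card_bot] at c8; omega
  replace a1 : a ≠ 1 := fun e => a1 (Subtype.ext e)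
  have i2 : I2 (R ⊓ C1 (u * a * u⁻¹)) R := i2_cent L.t2 (fun b hb => L.cen b (le hb))
    fun b hb => H.ab b (le hb) _ (L.fp.conj (le ha))
  obtain ⟨b, ⟨hb, c1⟩, nb⟩ := SetLike.not_le_iff_exists.1
    (show ¬ R ⊓ C1 (u * a * u⁻¹) ≤ zpowers a from fun e => by
      have := Subgroup.card_le_of_le e
      have := i2.card_le
      rw [card_zp (r2 a ha) a1] at *
      omega)
  have b1 : b ≠ 1 := fun e => nb (e ▸ one_mem _)
  have inv : ∀ r ∈ R, r⁻¹ = r := fun r hr => inv_eq_of_mul_eq_one_right (r2 r hr)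
  have ab1 : a * b ≠ 1 := fun e => nb (by
    rw [eq_inv_of_mul_eq_one_right e]; exact inv_mem (mem_zpowers a))
  have c0 : b ∈ C1 a := mem_C1.2 (by
    rw [← inv _ (mul_mem hb ha), mul_inv_rev, inv a ha, inv b hb])
  have c2 : b ∈ C1 (u⁻¹ * a * u) := by
    have h1 : C1 b ≥ zpowers s := zpowers_le.2 (mem_C1.2 (L.cen b (le hb)).symm)
    exact mem_C1.2 (mem_C1.1 ((mul_mem_cancel_left (mul_mem (mem_C1.2 (mem_C1.1 c0).symm)
      (mem_C1.2 (mem_C1.1 c1).symm))).1 (h1 (L.fp.norm (le ha))))).symm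
  have e1 : b * (u * a * u⁻¹) = u * a * u⁻¹ * b := mem_C1.1 c1
  have e2 : b * (u⁻¹ * a * u) = u⁻¹ * a * u * b := mem_C1.1 c2
  have e3 : u * b * u⁻¹ * (u⁻¹ * a * u) = u⁻¹ * a * u * (u * b * u⁻¹) := by
    have := conj_comm (g := u) e1
    rwa [yy u3] at this
  have e4 := ns _ (mul_mem ha hb) ab1
  have e5 : nrm u (a * b) = nrm u a * nrm u b := by
    unfold nrm
    calc _ = a * (b * (u * a * u⁻¹)) * (u * b * u⁻¹ * (u⁻¹ * a * u)) * (u⁻¹ * b * u) := by group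
      _ = a * (u * a * u⁻¹) * (b * (u⁻¹ * a * u)) * (u * b * u⁻¹) * (u⁻¹ * b * u) := by
        rw [e1, e3]; group
      _ = _ := by rw [e2]; group
  rw [e5, ns a ha a1, ns b hb b1, L.t2] at e4
  exact L.t1 e4.symm

end CE2

open CE2 in
theorem CE.two (H : CE u s c z y Q T) (e : 8 < Nat.card ↥(Q ⊓ C1 z)) : Q ≤ om Q := by
  have : Fact (Nat.Prime 2) := ⟨Nat.prime_two⟩
  have H' := H.cc
  have L := H.toQS.loc
  have zs := H.hy.zs
  have z2 := H.hy.z2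
  have eE : C1 (z * s) ⊓ C1 z = C1 s ⊓ C1 z := by
    ext g
    simp only [mem_inf, mem_C1]
    refine and_congr_left fun k => ?_
    rw [← mul_assoc, k, mul_assoc, mul_assoc, mul_right_inj]
  have eY : Q ⊓ C1 z = Q ⊓ (C1 s ⊓ C1 z) := by rw [← inf_assoc, inf_eq_left.2 H.le]
  have YE : Q ⊓ C1 z ≤ C1 s ⊓ C1 z := eY ▸ inf_le_right
  have yY : y ∈ Nm (Q ⊓ C1 z) := eY ▸ nm_inf (H.nQ (mem_C1.2 H.ys)) H.yE
  have sY : s ∈ Q ⊓ C1 z := ⟨H.sQ, mem_C1.2 zs.symm⟩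
  have Eab : ∀ a ∈ C1 s ⊓ C1 z, ∀ b ∈ C1 s ⊓ C1 z, a * b = b * a := fun a ha b hb => by
    rw [← inv_eq_of_mul_eq_one_right (H.el _ (mul_mem ha hb)), mul_inv_rev,
      inv_eq_of_mul_eq_one_right (H.el a ha), inv_eq_of_mul_eq_one_right (H.el b hb)]
  have c32 : 32 ≤ Nat.card ↥(Q ⊓ C1 z) := by
    have h1 := H.hy.w6.card_two (n := 1) (H.pg.to_inf_left (K := C1 z)) H.y1
      (by rw [pow_one, H.y3]) yY sY H.ys L.t1
    obtain ⟨n, hn⟩ := IsPGroup.iff_card.1 (H.pg.to_inf_left (K := C1 z))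
    rw [hn] at h1 e ⊢
    rcases le_or_gt n 4 with l | l
    · interval_cases n <;> omega
    · exact Nat.pow_le_pow_right (n := 2) (i := 5) (by norm_num) l
  have c8 : 8 ≤ Nat.card ↥(Q ⊓ C1 z ⊓ Trans.cj c Q) := by
    have h1 := cmul (YE.trans (eE ▸ H'.eT)) H'.QT
    rw [H'.card] at h1
    have h2 : 0 < Nat.card (Trans.cj c Q) := Nat.card_pos
    nlinarith
  obtain ⟨ρ, ⟨hρ, hρ'⟩, ρ1, nρ⟩ := exn H'.toCA inf_le_right (fun r hr => H.el r (YE hr.1)) c8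
  have ρ2 := H.el ρ (YE hρ)
  have kz := H'.toQS.tau0 hρ' ρ2 (mem_C1.1 hρ.2) nρ
  have kQ := H'.toQS.loc.fp.conj hρ'
  have k2 := conj_sq (g := c * u * c⁻¹) ρ2
  generalize c * u * c⁻¹ * ρ * (c * u * c⁻¹)⁻¹ = k at kz kQ k2
  have ρs : ρ * s = s * ρ := L.cen ρ hρ.1
  have ks : k * s * k⁻¹ = s * ρ := by
    have h1 := conj_eq_of_comm (mem_C1.1 (H'.le kQ))
    calc k * s * k⁻¹ = k * (z * z) * s * k⁻¹ := by rw [z2, mul_one]
      _ = k * z * k⁻¹ * (k * (z * s) * k⁻¹) := by group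
      _ = z * (ρ * z) * s := by rw [kz, h1]; group
      _ = s * ρ := by rw [mem_C1.1 hρ.2, ← mul_assoc, z2, one_mul, ρs]
  have ki : k⁻¹ = k := inv_eq_of_mul_eq_one_right k2
  have sd : s ∈ Trans.cj k Q := mem_cj.2 (by
    rw [show k⁻¹ * s * k = k * s * k⁻¹ by rw [ki], ks]; exact mul_mem H.sQ hρ.1)
  have kE : k ∈ Nm (C1 s ⊓ C1 z) := eE ▸ H'.nE (H'.QT kQ)
  have dE : Trans.cj k Q ≤ Nm (C1 s ⊓ C1 z) := fun a ha => by
    have := mul_mem (mul_mem kE (H.nE (H.QT (mem_cj.1 ha)))) (inv_mem kE)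
    rwa [show k * (k⁻¹ * a * k) * k⁻¹ = a by group] at this
  have d2 : s * ρ * (s * ρ) = 1 := ks ▸ conj_sq L.t2
  have dc : ∀ a ∈ Trans.cj k Q, a * (s * ρ) = s * ρ * a := fun a ha => by
    have := conj_comm (g := k) (L.cen _ (mem_cj.1 ha))
    rwa [ks, show k * (k⁻¹ * a * k) * k⁻¹ = a by group] at this
  have dab : ∀ a ∈ Trans.cj k Q, ∀ b ∈ Trans.cj k Q, a * b * a⁻¹ * b⁻¹ ∈ zpowers (s * ρ) :=
    fun a ha b hb => by
      rw [← ks, ← cj_zpowers, mem_cj]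
      convert H.ab _ (mem_cj.1 ha) _ (mem_cj.1 hb) using 1
      group
  have cYd : Nat.card ↥(Trans.cj k Q ⊓ (C1 s ⊓ C1 z)) = Nat.card ↥(Q ⊓ C1 z) := by
    rw [← cj_eq_self_iff.2 kE, ← cj_inf, card_cj, eY]
  have i1 : I2 (Trans.cj k Q ⊓ C1 s) (Trans.cj k Q) := i2_cent d2 dc fun b hb => dab b hb s sd
  have c1 := i1.card_le
  rw [card_cj] at c1
  have pd : IsPGroup 2 ↥(Trans.cj k Q ⊓ C1 s) := (H.pg.map _).to_inf_left
  have QT1 : Trans.cj k Q ⊓ C1 s ≤ T := by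
    have n : Trans.cj k Q ⊓ C1 s ≤ Nm T := fun a ha => H.sup ▸ nm_sup (H.nQ ha.2) (dE ha.1)
    exact le_sup_left.trans (H.syl.eq_of_le (IsPGroup.to_sup_of_normal_right' pd H.syl.isPGroup n)
      le_sup_right (sup_le inf_le_right H.syl.le)).le
  have YdQ : Trans.cj k Q ⊓ (C1 s ⊓ C1 z) ≤ Q := fun w hw => by
    by_contra nw
    have i2 : I2 (Trans.cj k Q ⊓ C1 s ⊓ C1 w) (Trans.cj k Q ⊓ C1 s) :=
      i2_cent d2 (fun b hb => dc b hb.1) fun b hb => dab b hb.1 w hw.1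
    have c2 := i2.card_le
    rw [inf_assoc, H.cw w hw.2 nw, cYd] at c2
    have := H.cQ
    nlinarith
  have eYd : Trans.cj k Q ⊓ (C1 s ⊓ C1 z) = Q ⊓ C1 z :=
    Subgroup.eq_of_le_of_card_ge (le_inf YdQ (inf_le_right.trans inf_le_right)) cYd.ge
  have cQ1 : Trans.cj k Q ⊓ C1 s ≤ centralizer (Q ⊓ C1 z : Subgroup G) := fun b hb =>
    mem_centralizer_iff.2 fun a ha => by
      have h1 := dab b hb.1 a (eYd.ge ha).1
      have h2 : T ≤ cm (zpowers s) a := H.sup ▸ sup_le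
        (fun x hx => ⟨L.fp.nD hx, H.ab x hx a ha.1⟩)
        fun x hx => ⟨nm_zp (mem_C1.1 hx.1), comm_mem_of_eq (Eab x hx a (YE ha))⟩
      refine (eq_of_comm_one ((sq_cases L.t2 (h2 (QT1 hb)).2).resolve_right fun h3 => ?_)).symm
      rw [h3] at h1
      rcases sq_cases d2 h1 with h4 | h4
      · exact L.t1 h4
      · exact ρ1 (left_eq_mul.1 h4)
  have cE : C1 s ⊓ C1 z ≤ centralizer (Q ⊓ C1 z : Subgroup G) := fun b hb =>
    mem_centralizer_iff.2 fun a ha => Eab a (YE ha) b hb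
  have i3 : I2 (T ⊓ centralizer (Q ⊓ C1 z : Subgroup G)) T := I2.of_card inf_le_left (by
    have h1 := cmul (le_inf QT1 cQ1) (le_inf H.eT cE)
    rw [inf_assoc, ← inf_assoc (C1 s), inf_idem, eYd, H.cE4] at h1
    rw [H.card]
    nlinarith)
  have LT := (H.hy.w6.of_comm (n := 1) L.t2 L.t1 H.y1 (by rw [pow_one, H.y3]) H.ys).loc
    H.syl.isPGroup (H.QT H.sQ) H.syl.le H.yT
  have cT : T ≤ centralizer (Q ⊓ C1 z : Subgroup G) := LT.fp.core le_rfl H.yT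
    (fun a _ ha => mem_centralizer_iff.2 fun b hb => by
      have := conj_comm (g := y) (mem_centralizer_iff.1 ha _ (conj_mem_of_norm' yY hb))
      rwa [show y * (y⁻¹ * b * y) * y⁻¹ = b by group] at this)
    (zpowers_le.2 (cE (YE sY))) fun a ha b hb h1 h2 =>
      (i3.mul a ha b hb (fun k => h1 k.2) fun k => h2 k.2).2
  refine H.toQS.gen (om_le Q) (nm_om Q L.fp.yR) fun a ha h1 => ?_
  rcases L.conj_cases h1 with h2 | h2
  · have h3 : a ∈ Q ⊓ C1 z := ⟨ha, mem_C1.2 h2⟩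
    exact ⟨ha, H.el a (YE h3), fun b hb => (mem_centralizer_iff.1 (cT (H.QT hb)) a h3).symm⟩
  · refine absurd ⟨a⁻¹ * c, ?_⟩ H.zD
    calc _ = a⁻¹ * (c * s * c⁻¹) * a := by group
      _ = z := by rw [H.hy.sc, zs, ← h2]; group

end Cfsg.Lib.N9M
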