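import Cfsg.Agent.N9M.Kit

/-! The case `A₅` with `Q` elementary abelian: `Q` is weakly closed and `Q ⊓ Q ^ c` has norm one. -/

set_option autoImplicit false

namespace Cfsg.Lib.N9M

open Subgroup Cfsg.Lib.Trans Cfsg.Lib.SC6
open Cfsg.Lib.Odd3 (conj_mem_of_norm conj_mem_of_norm' mem_norm_of_conj)

variable {G : Type*} [Group G] [Finite G] {u s c z y : G} {Q T : Subgroup G}

namespace CEs

omit [Finite G] in
theorem comm_of {a b : G} (a2 : a * a = 1) (b2 : b * b = 1) (e : a * b * (a * b) = 1) :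
    a * b = b * a := by
  rw [eq_inv_of_mul_eq_one_left e, mul_inv_rev, inv_eq_of_mul_eq_one_right a2,
    inv_eq_of_mul_eq_one_right b2]

theorem syl (H : CE u s c z y Q T) {g : G} (e : T ≤ C1 (g * s * g⁻¹)) :
    IsSylowIn 2 (cj g T) (C1 (g * s * g⁻¹)) ∧ IsSylowIn 2 T (C1 (g * s * g⁻¹)) := by
  have h := H.syl.cj g
  rw [cj_C1] at h
  exact ⟨h, h.of_card_ge H.syl.isPGroup e (card_cj g T).le⟩

theorem alt (H : CE u s c z y Q T) (hQ : Q ≤ om Q) {g : G} (e : T ≤ C1 (g * s * g⁻¹)) :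
    cj g Q = Q ∨ cj g Q = C1 s ⊓ C1 z := by
  have K := H.toQS.cj g
  have h1 : cj g Q ≤ T := (syl H e).2.le_of_normal K.pg K.le K.nQ
  by_cases l : cj g Q ≤ Q
  · exact .inl (eq_of_le_of_card_ge l (card_cj g Q).ge)
  obtain ⟨w, w1, w2⟩ := SetLike.not_le_iff_exists.1 l
  have w3 : ∀ a ∈ cj g Q, a * w = w * a := fun a ha => by
    simpa [mul_assoc] using conj_comm (g := g) ((hQ (mem_cj.1 w1)).2.2 _ (mem_cj.1 ha))
  have w4 : w * w = 1 := by simpa [mul_assoc] using conj_sq (g := g) (hQ (mem_cj.1 w1)).2.1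
  have wE : w ∈ C1 s ⊓ C1 z := by
    have := h1 w1
    rw [← H.sup, ← SetLike.mem_coe,
      coe_mul_of_right_le_normalizer_left _ _ (inf_le_left.trans H.nQ)] at this
    obtain ⟨q, hq, a, ha, rfl⟩ := this
    refine mul_mem ?_ ha
    rw [← H.cw a ha fun f => w2 (mul_mem hq f)]
    exact ⟨H.le hq, mem_C1.2 (comm_of (hQ hq).2.1 (H.el a ha) w4)⟩
  refine .inr (eq_of_le_of_card_ge (fun a ha => ?_) ?_)
  · rw [← H.cw w wE w2]
    exact ⟨H.syl.le (h1 ha), mem_C1.2 (w3 a ha)⟩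
  · have h2 := H.cQ
    have h3 := H.y8
    rw [card_cj, H.cE4]
    nlinarith

theorem cnt (H : CE u s c z y Q T) {w a : G} (w3 : w ^ 3 = 1) (w1 : w ≠ 1) (wT : w ∈ Nm T)
    (wQ : w ∈ Nm Q) (aT : a ∈ T) (a1 : a ≠ 1) (e : w * a = a * w) :
    ∃ F : Set G, Nat.card {x | x ∈ T ∧ ∃ k ∈ Nm Q, k * s * k⁻¹ = x} ≡ Nat.card F [MOD 3] ∧
      ∀ x, x ∈ F ↔ x = a ∧ ∃ k ∈ Nm Q, k * s * k⁻¹ = a := by
  refine ⟨{x | x = a ∧ ∃ k ∈ Nm Q, k * s * k⁻¹ = a}, ?_, fun _ => Iff.rfl⟩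
  refine (fix_set (w := w) (n := 1) (by rw [pow_one, w3]) _ ?_).trans ?_
  · rintro x ⟨h1, k, h2, rfl⟩
    exact ⟨conj_mem_of_norm wT h1, w * k, mul_mem wQ h2, by group⟩
  · have key : ∀ x : {x : {x | x ∈ T ∧ ∃ k ∈ Nm Q, k * s * k⁻¹ = x} // w * x = x * w},
        x.1.1 = a ∧ ∃ k ∈ Nm Q, k * s * k⁻¹ = a := fun ⟨⟨x, h1, k, h2, h3⟩, h4⟩ => by
      have : a = x := H.hy.w6.two (n := 1) H.syl.isPGroup w1 (by rw [pow_one, w3]) aT h1 e h4 a1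
        (h3 ▸ conj_ne_one H.hy.w6.t1)
      exact ⟨this.symm, k, h2, h3.trans this.symm⟩
    rw [Nat.card_congr (β := {x | x = a ∧ ∃ k ∈ Nm Q, k * s * k⁻¹ = a}) ⟨fun x => ⟨x.1, key x⟩,
      fun x => ⟨⟨x.1, by rw [x.2.1]; exact ⟨aT, x.2.2⟩⟩, show w * x.1 = x.1 * w by rw [x.2.1, e]⟩,
      fun _ => rfl, fun _ => rfl⟩]

omit [Finite G] in
theorem cen (H : CE u s c z y Q T) (hQ : Q ≤ om Q) {r : G} (h : r ∈ Q) (e : r * z = z * r) :
    T ≤ C1 r := by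
  have rE : r ∈ C1 s ⊓ C1 z := ⟨H.le h, mem_C1.2 e⟩
  rw [← H.sup]
  exact sup_le (fun a ha => mem_C1.2 ((hQ h).2.2 a ha)) fun a ha =>
    mem_C1.2 (comm_of (H.el a ha) (H.el r rE) (H.el _ (mul_mem ha rE)))

end CEs

open CEs

theorem CE.nq (H : CE u s c z y Q T) (hQ : Q ≤ om Q) {g : G} (e : T ≤ C1 (g * s * g⁻¹)) :
    g ∈ Nm Q := by
  refine cj_eq_self_iff.1 ((alt H hQ e).resolve_right fun f => ?_)
  obtain ⟨x, x1, x2⟩ := (syl H e).2.exists_cj_eq (syl H e).1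
  rw [cj_cj] at x2
  have k1 : cj (x * g) Q = C1 s ⊓ C1 z := f ▸ H.toQS.uniq (by
    rw [← conj_eq_of_comm (mem_C1.1 x1)]; group)
  generalize x * g = k at x2 k1
  have kT := cj_eq_self_iff.1 x2
  have sT := H.QT H.sQ
  obtain ⟨F, h1, h2⟩ := cnt H H.y3 H.y1 H.yT (H.nQ (mem_C1.2 H.ys)) sT H.hy.w6.t1 H.ys
  obtain ⟨F', h3, h4⟩ := cnt H (w := k⁻¹ * y * k⁻¹⁻¹) (a := k⁻¹ * s * k⁻¹⁻¹)
    (by rw [conj_pow, H.y3]; group) (conj_ne_one H.y1)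
    (mul_mem (mul_mem (inv_mem kT) H.yT) (inv_mem (inv_mem kT)))
    (cj_eq_self_iff.1 (by
      rw [cj_mul, cj_mul, inv_inv, k1, cj_eq_of_mem_normalizer H.yE, ← k1, cj_inv_cj]))
    (conj_mem_of_norm (inv_mem kT) sT) (conj_ne_one H.hy.w6.t1) (conj_comm H.ys)
  have e1 : F = {s} := Set.ext fun a => (h2 a).trans (and_iff_left ⟨1, one_mem _, by group⟩)
  have e2 : F' = ∅ := Set.eq_empty_of_forall_notMem fun a ha => by
    obtain ⟨-, m, m1, m2⟩ := (h4 a).1 ha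
    have := H.toQS.uniq m2
    rw [cj_eq_of_mem_normalizer m1] at this
    rw [this, cj_cj_inv] at k1
    exact H.zQ (k1.ge ⟨mem_C1.2 H.hy.zs, mem_C1.2 rfl⟩)
  have := h1.symm.trans h3
  simp [e1, e2, Nat.ModEq] at this

theorem CE.tau (H : CE u s c z y Q T) (hQ : Q ≤ om Q) {r : G} (hr : r ∈ Q ⊓ Trans.cj c Q) :
    nrm u r = 1 := by
  have K := H.toQS
  refine (K.nrm_cases hr.1).resolve_right fun n => ?_
  have s2 := H.hy.w6.t2
  have zs := H.hy.zs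
  have ab : ∀ a ∈ Q, ∀ b ∈ Q, a * b = b * a := fun a ha b hb => (hQ hb).2.2 a ha
  have ab' : ∀ a ∈ Q, ∀ b ∈ Trans.cj c Q, c * a * c⁻¹ * b = b * (c * a * c⁻¹) := fun a ha b hb => by
    simpa [mul_assoc] using conj_comm (g := c) (ab a ha _ (mem_cj.1 hb))
  have rz := K.r2 hr.1 hr.2
  have rs := ab r hr.1 s H.sQ
  have hx := mul_mem hr.1 H.sQ
  have q0 := K.tau0 hx (hQ hx).2.1 (by rw [mul_assoc, ← zs, ← mul_assoc, rz, mul_assoc])
    (by rw [K.nrm_s hr.1, n, s2])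
  have qQ : u * (r * s) * u⁻¹ ∈ Q := conj_mem_of_norm (H.nQ (mem_C1.2 H.hy.w6.yt)) hx
  generalize u * (r * s) * u⁻¹ = q at q0 qQ
  have qs := conj_eq_of_comm (ab q qQ s H.sQ)
  have q1 : q * (z * s) * q⁻¹ = z * r := by
    calc _ = q * z * q⁻¹ * (q * s * q⁻¹) := by group
      _ = z * r * (s * s) := by rw [q0, qs]; group
      _ = _ := by rw [s2, mul_one]
  have hr' : c * r * c⁻¹ ∈ Q ⊓ Trans.cj c Q :=
    ⟨K.cjcc ▸ conj_mem_cj.2 hr.2, conj_mem_cj.2 hr.1⟩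
  have h3 : 3 ∣ orderOf (q * (c * q * c⁻¹)) := by
    refine tri3 (N := Q ⊓ Trans.cj c Q) (a := s) (b := z * s) (d := z)
      (mem_norm_of_conj fun a ha => by rwa [conj_eq_of_comm (ab q qQ a ha.1)])
      (mem_norm_of_conj fun a ha => by rwa [conj_eq_of_comm (ab' q qQ a ha.2)])
      (by rw [qs, mul_inv_cancel]; exact one_mem _) ?_ ?_ ?_ ?_ ?_
      fun f => H.zQ (by simpa using f.1)
    · rw [q0, show z * (r * s) * (z * s)⁻¹ = z * r * z⁻¹ by group, ← rz]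
      simpa using hr
    · rw [q1, ← rz]
      simpa using hr
    · rw [conj_eq_of_comm (ab' q qQ _ (H.hy.sc ▸ conj_mem_cj.2 H.sQ)), mul_inv_cancel]
      exact one_mem _
    · have : c * q * c⁻¹ * s * (c * q * c⁻¹)⁻¹ = z * (c * r * c⁻¹) := by
        calc _ = c * q * c⁻¹ * (c * (z * s) * c⁻¹) * (c * q * c⁻¹)⁻¹ := by rw [H.hy.czs]
          _ = c * (q * (z * s) * q⁻¹) * c⁻¹ := by group
          _ = c * z * c⁻¹ * (c * r * c⁻¹) := by rw [q1]; group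
          _ = _ := by rw [H.hy.cz]
      rw [this, ← K.r2 hr'.1 hr'.2, mul_inv_cancel_right]
      exact hr'
    · have : c * q * c⁻¹ * z * (c * q * c⁻¹)⁻¹ = c * r * c⁻¹ * s := by
        calc _ = c * q * c⁻¹ * (c * z * c⁻¹) * (c * q * c⁻¹)⁻¹ := by rw [H.hy.cz]
          _ = c * (q * z * q⁻¹) * c⁻¹ := by group
          _ = c * r * c⁻¹ * (c * (z * s) * c⁻¹) := by rw [q0, ← mul_assoc z, ← rz]; group
          _ = _ := by rw [H.hy.czs]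
      rw [this, mul_inv_cancel_right]
      exact hr'
  obtain ⟨g, hg⟩ := H.hy.st3 (hQ hr.1).2.1 (fun e => H.hy.w6.t1 (by rw [← n, e, nrm]; group)) h3
    (by rw [mul_assoc, ab' q qQ r hr.2, ← mul_assoc, ab q qQ r hr.1, mul_assoc])
  have g1 := H.nq hQ (hg ▸ cen H hQ hr.1 rz)
  have g2 := H.nq hQ (g := c * g) (by
    rw [show c * g * s * (c * g)⁻¹ = c * r * c⁻¹ by rw [← hg]; group]
    exact cen H hQ hr'.1 (K.r2 hr'.1 hr'.2))
  exact K.sQc ((cj_eq_of_mem_normalizer ((mul_mem_cancel_right g1).1 g2)).ge H.sQ)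

end Cfsg.Lib.N9M
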