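import Cfsg.Agent.N9M.Kit
import Cfsg.Agent.N9M.Cj
import Cfsg.Agent.N9M.CEs
import Cfsg.Agent.Solv.Factor

/-! The case `A₅` with abelian `Q`: the subgroup `X` lies in `Q ^ c`. -/

set_option autoImplicit false
set_option linter.unusedSectionVars false

namespace Cfsg.Lib.N9M

open Subgroup Cfsg.Lib.Trans Cfsg.Lib.SC6
open Cfsg.Lib.Odd3 (conj_mem_of_norm conj_mem_of_norm' mem_norm_of_conj)
open Cfsg.Lib.L3 (sq_cases cube_cases SZ)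

variable {G : Type*} [Group G] [Finite G] {u s c z y w h : G} {Q T X : Subgroup G}

namespace CEx

theorem comm {E : Subgroup G} (el : ∀ a ∈ E, a * a = 1) {a b : G} (ha : a ∈ E) (hb : b ∈ E) :
    a * b = b * a := by
  rw [eq_inv_of_mul_eq_one_left (el _ (mul_mem ha hb)), mul_inv_rev,
    inv_eq_of_mul_eq_one_left (el a ha), inv_eq_of_mul_eq_one_left (el b hb)]

theorem four {E D K : Subgroup G} (el : ∀ a ∈ E, a * a = 1) (DK : D ≤ K) (KE : K ≤ E) {a b : G}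
    (ha : a ∈ K) (hb : b ∈ K) (a1 : a ∉ D) (b1 : b ∉ D) (ab : b * a ∉ D) :
    4 * Nat.card D ≤ Nat.card K ∧ (Nat.card K ≤ 4 * Nat.card D →
      ∀ k ∈ K, k ∈ D ∨ k * a ∈ D ∨ k * b ∈ D ∨ k * b * a ∈ D) := by
  have nm : ∀ {A : Subgroup G} {g : G}, A ≤ K → g ∈ K → g ∈ Nm A := fun hA hg =>
    mem_norm_of_conj fun x hx => by rwa [conj_eq_of_comm (comm el (KE hg) (KE (hA hx)))]
  have l1 : D ⊔ zpowers a ≤ K := sup_le DK (zpowers_le.2 ha)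
  have l2 : D ⊔ zpowers a ⊔ zpowers b ≤ K := sup_le l1 (zpowers_le.2 hb)
  have a2 : a * a ∈ D := el a (KE ha) ▸ one_mem _
  have b2 : b * b ∈ D ⊔ zpowers a := el b (KE hb) ▸ one_mem _
  have c1 := (i2_sup_zp (nm DK ha) a2).card (mem_sup_right (mem_zpowers a)) a1
  have c2 := (i2_sup_zp (nm l1 hb) b2).card (mem_sup_right (mem_zpowers b))
    fun e => ((mem_sup_zp (nm DK ha) a2).1 e).elim b1 ab
  refine ⟨by have := Subgroup.card_le_of_le l2; omega, fun h k hk => ?_⟩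
  rw [← eq_of_le_of_card_ge l2 (by omega), mem_sup_zp (nm l1 hb) b2, mem_sup_zp (nm DK ha) a2,
    mem_sup_zp (nm DK ha) a2] at hk
  tauto

end CEx

open CEx in
theorem CE.xc (H : CE u s c z y Q T) (hQ : Q ≤ om Q) (hX : IsX u z Q X) : X ≤ Trans.cj c Q := by
  intro x hx
  by_contra xQ
  have K := H.cc
  have hy := H.hy
  have jc := H.toQS.cjcc
  have sQ := H.toQS.sQc
  have zQ := H.toQS.zQc
  have zsQ := H.toQS.zsQ
  have zs := hy.zs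
  have hQ' : Trans.cj c Q ≤ om (Trans.cj c Q) := fun a ha => by
    have h := hQ (mem_cj.1 ha)
    refine ⟨ha, ?_, fun b hb => ?_⟩
    · have := conj_sq (g := c) h.2.1
      simpa [mul_assoc] using this
    · have := conj_comm (g := c) (h.2.2 _ (mem_cj.1 hb))
      simpa [mul_assoc] using this
  have r2 : ∀ a ∈ Q ⊓ Trans.cj c Q, a * z = z * a := fun a ha => H.toQS.r2 ha.1 ha.2
  have RX : Q ⊓ Trans.cj c Q ≤ X := fun a ha => (hX a).2 ⟨hQ ha.1, r2 a ha, H.tau hQ ha⟩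
  have tau' : ∀ a ∈ Q ⊓ Trans.cj c Q, nrm (c * u * c⁻¹) a = 1 := fun a ha =>
    K.tau hQ' ⟨ha.2, jc.symm ▸ ha.1⟩
  have sX := (hX.inf H.toQS).2
  have s2 := hy.w6.t2
  have EE : C1 (z * s) ⊓ C1 z = C1 s ⊓ C1 z := by
    ext g
    simp only [mem_inf, mem_C1]
    refine and_congr_left fun e => ⟨fun k => ?_, fun k => ?_⟩
    · rw [← mul_assoc, e, mul_assoc, mul_assoc] at k
      exact mul_left_cancel k
    · rw [← mul_assoc, e, mul_assoc, k, mul_assoc]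
  have v1 : c * u * c⁻¹ ∈ Nm (Trans.cj c Q) := K.nQ (mem_C1.2 K.hy.w6.yt)
  have cw := K.cw
  have half := K.half
  have nE := K.QT.trans K.nE
  have cE4 := K.cE4
  have cQ := K.cQ
  have y8 := K.y8
  have nQ' := (inf_le_left : _ ⊓ C1 z ≤ _).trans K.nQ
  have le' := K.le
  have sQ' := K.sQ
  have t0 := fun a (ha : a ∈ Q ⊓ Trans.cj c Q) =>
    K.toQS.tau0 ha.2 (hQ ha.1).2.1 (r2 a ha) (tau' a ha)
  rw [EE] at cw half nE cE4 nQ'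
  clear K jc tau'
  generalize c * u * c⁻¹ = v at v1 t0
  generalize Trans.cj c Q = P at *
  have el := H.el
  have cE := H.cE4
  have YE : Q ⊓ C1 z ≤ C1 s ⊓ C1 z := inf_le_inf_right _ H.le
  have sE : s ∈ C1 s ⊓ C1 z := ⟨mem_C1.2 rfl, mem_C1.2 zs.symm⟩
  have zE : z ∈ C1 s ⊓ C1 z := ⟨mem_C1.2 zs, mem_C1.2 rfl⟩
  have YE' : P ⊓ C1 z ≤ C1 s ⊓ C1 z := EE ▸ inf_le_inf_right _ le'
  have RY : Q ⊓ P ≤ Q ⊓ C1 z := fun a ha => ⟨ha.1, mem_C1.2 (r2 a ha)⟩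
  have RY' : Q ⊓ P ≤ P ⊓ C1 z := fun a ha => ⟨ha.2, mem_C1.2 (r2 a ha)⟩
  have xY : x ∈ Q ⊓ C1 z := ⟨((hX x).1 hx).1.1, mem_C1.2 ((hX x).1 hx).2.1⟩
  have sY : s ∈ Q ⊓ C1 z := ⟨H.sQ, sE.2⟩
  have xs : x * s ∉ P := fun e =>
    sX ((mul_mem_cancel_left hx).1 (RX ⟨mul_mem xY.1 H.sQ, e⟩))
  have d4 := (four el YE' le_rfl sE (YE xY) (fun e => sQ e.1) (fun e => xQ e.1)
    fun e => xs e.1).2 cE4.le
  have c1 := (four el RY YE sY xY (fun e => sQ e.2) (fun e => xQ e.2) fun e => xs e.2).1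
  have c2 : Nat.card ↥(P ⊓ C1 z) ≤ 4 * Nat.card ↥(Q ⊓ P) := by
    have := Solv.card_mul_card_le_of_le YE YE'
    rw [show Q ⊓ C1 z ⊓ (P ⊓ C1 z) = Q ⊓ P from le_antisymm (inf_le_inf inf_le_left inf_le_left)
      (le_inf RY RY'), cE, mul_comm 4, mul_assoc] at this
    exact Nat.le_of_mul_le_mul_left this Nat.card_pos
  have thP : ∀ q ∈ P, ∀ e ∈ C1 s ⊓ C1 z, q * e * q⁻¹ * e⁻¹ ∈ P ⊓ C1 z := fun q hq e he =>
    ⟨by
      rw [show q * e * q⁻¹ * e⁻¹ = q * (e * q⁻¹ * e⁻¹) by group]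
      exact mul_mem hq (conj_mem_of_norm (nQ' he) (inv_mem hq)),
    (mul_mem (conj_mem_of_norm (nE hq) he) (inv_mem he)).2⟩
  have fP : ∀ a ∈ Q ⊓ P, v * a * v⁻¹ ∈ P := fun a ha => conj_mem_of_norm v1 ha.2
  have thm : ∀ q ∈ P, ∀ a ∈ C1 s ⊓ C1 z, ∀ b ∈ C1 s ⊓ C1 z, q * (a * b) * q⁻¹ * (a * b)⁻¹ =
      q * a * q⁻¹ * a⁻¹ * (q * b * q⁻¹ * b⁻¹) := fun q hq a ha b hb => by
    rw [mul_assoc (q * a * q⁻¹), comm el (inv_mem ha) (YE' (thP q hq b hb))]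
    group
  have th1 : ∀ q ∈ P, ∀ a ∈ P, q * a * q⁻¹ * a⁻¹ = 1 := fun q hq a ha => by
    rw [(hQ' ha).2.2 q hq]; group
  have fR : ∀ a ∈ Q ⊓ P, ∀ e ∈ C1 s ⊓ C1 z,
      v * a * v⁻¹ * e * (v * a * v⁻¹)⁻¹ * e⁻¹ ∈ Q ⊓ P := fun a ha e he => by
    have f1 := fP a ha
    have f2 := t0 a ha
    generalize v * a * v⁻¹ = f at f1 f2
    have f3 : f * s * f⁻¹ = s * a := by
      calc f * s * f⁻¹ = f * (z * z) * s * f⁻¹ := by rw [hy.z2, mul_one]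
        _ = f * z * f⁻¹ * (f * (z * s) * f⁻¹) := by group
        _ = z * (a * (z * s)) := by rw [f2, conj_eq_of_comm (mem_C1.1 (le' f1)), mul_assoc]
        _ = z * z * s * a := by rw [mem_C1.1 (le' ha.2)]; simp only [mul_assoc]
        _ = s * a := by rw [hy.z2, one_mul]
    have fN : f ∈ Nm Q := H.nq hQ (by
      rw [f3, ← H.sup]
      exact sup_le (fun q hq => mem_C1.2 ((hQ (mul_mem H.sQ ha.1)).2.2 q hq))
        fun q hq => mem_C1.2 (comm el hq (mul_mem sE (YE (RY ha)))))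
    have key : ∀ b ∈ Q ⊓ C1 z, e * b ∈ P ⊓ C1 z → f * e * f⁻¹ * e⁻¹ ∈ Q := fun b hb k => by
      have := thm f f1 e he b (YE hb)
      rw [th1 f f1 _ k.1] at this
      rw [eq_inv_of_mul_eq_one_left this.symm]
      exact inv_mem (mul_mem (conj_mem_of_norm fN hb.1) (inv_mem hb.1))
    refine ⟨?_, (thP f f1 e he).1⟩
    rcases d4 e he with k | k | k | k
    · exact key 1 (one_mem _) (by rwa [mul_one])
    · exact key s sY k
    · exact key x xY k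
    · exact key (x * s) (mul_mem xY sY) (by rwa [← mul_assoc])
  have fz : ∀ a ∈ Q ⊓ P, v * a * v⁻¹ * z * (v * a * v⁻¹)⁻¹ * z⁻¹ = a := fun a ha => by
    rw [t0 a ha, ← r2 a ha, mul_inv_cancel_right]
  have key : ∀ e ∈ C1 s ⊓ C1 z, e ∉ P → ∀ q ∈ P, ∀ p ∈ P, q * e * q⁻¹ * e⁻¹ = p * e * p⁻¹ * e⁻¹ →
      q * z * q⁻¹ * z⁻¹ = p * z * p⁻¹ * z⁻¹ := fun e he eP q hq p hp k => by
    have k1 : p⁻¹ * q ∈ C1 (z * s) ⊓ C1 e := ⟨le' (mul_mem (inv_mem hp) hq), mem_C1.2 (by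
      rw [show p⁻¹ * q * e = p⁻¹ * (q * e * q⁻¹ * e⁻¹) * e * q by group, k]; group)⟩
    rw [cw e he eP] at k1
    rw [show q * z * q⁻¹ * z⁻¹ = p * (p⁻¹ * q * z) * q⁻¹ * z⁻¹ by group, mem_C1.1 k1.2]
    group
  have sur : ∀ e ∈ C1 s ⊓ C1 z, e ∉ P → ∀ a ∈ Q ⊓ P, ∃ b ∈ Q ⊓ P,
      v * b * v⁻¹ * e * (v * b * v⁻¹)⁻¹ * e⁻¹ = a := fun e he eP a ha => by
    obtain ⟨b, hb⟩ := Finite.injective_iff_surjective.1 (show Function.Injective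
      fun b : ↥(Q ⊓ P) => (⟨_, fR b b.2 e he⟩ : ↥(Q ⊓ P)) from fun b b' k => Subtype.ext (by
        rw [← fz b b.2, ← fz b' b'.2]
        exact key e he eP _ (fP _ b.2) _ (fP _ b'.2) (Subtype.mk.inj k))) ⟨a, ha⟩
    exact ⟨b, b.2, Subtype.mk.inj hb⟩
  obtain ⟨q, hq, q1⟩ : ∃ q ∈ P, q * z * q⁻¹ * z⁻¹ ∉ Q ⊓ P := by
    by_contra k
    push Not at k
    have m : ∀ q ∈ P, (v * (q * z * q⁻¹ * z⁻¹) * v⁻¹)⁻¹ * q ∈ P ⊓ C1 z := fun q hq => by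
      have f1 := fP _ (k q hq)
      have f2 := fz _ (k q hq)
      generalize v * (q * z * q⁻¹ * z⁻¹) * v⁻¹ = f at f1 f2
      refine ⟨P.mul_mem (P.inv_mem f1) hq, mem_C1.2 ?_⟩
      rw [show f⁻¹ * q * z = f⁻¹ * (q * z * q⁻¹ * z⁻¹) * z * q by group, ← f2]; group
    have := Nat.card_le_card_of_injective (fun q : P => ((⟨_, k q q.2⟩ : ↥(Q ⊓ P)),
      (⟨_, m q q.2⟩ : ↥(P ⊓ C1 z)))) fun a b e => by
        have e1 := Subtype.mk.inj (Prod.mk.inj e).1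
        have e2 := Subtype.mk.inj (Prod.mk.inj e).2
        rw [e1] at e2
        exact Subtype.ext (mul_left_cancel e2)
    rw [Nat.card_prod] at this
    nlinarith
  have q2 : ∀ e ∈ C1 s ⊓ C1 z, e ∉ P → q * e * q⁻¹ * e⁻¹ ∉ Q ⊓ P := fun e he eP k => by
    obtain ⟨b, hb, k1⟩ := sur e he eP _ k
    exact q1 (by rw [key e he eP q hq _ (fP b hb) k1.symm, fz b hb]; exact hb)
  have fin : ∀ e ∈ C1 s ⊓ C1 z, e ∉ P → z * s * (q * e * q⁻¹ * e⁻¹) ∉ Q ⊓ P := fun e he eP k => by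
    obtain ⟨b, hb, k1⟩ := sur e he eP _ k
    have f1 := fP b hb
    generalize v * b * v⁻¹ = f at f1 k1
    have k2 : q⁻¹ * f * e * (q⁻¹ * f)⁻¹ = e * (z * s) := by
      rw [show q⁻¹ * f * e * (q⁻¹ * f)⁻¹ = q⁻¹ * (f * e * f⁻¹ * e⁻¹) * e * q by group, k1,
        ← comm el (mul_mem zE sE) he, ← mul_assoc q⁻¹, mem_C1.1 (le' (inv_mem hq))]
      group
    have := half e he eP
    have k3 : St (z * s) e ↔ St (z * s) (e * (z * s)) :=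
      ⟨fun ⟨g, hg⟩ => ⟨q⁻¹ * f * g, by rw [← k2, ← hg]; group⟩,
        fun ⟨g, hg⟩ => ⟨(q⁻¹ * f)⁻¹ * g, by
          rw [show (q⁻¹ * f)⁻¹ * g * (z * s) * ((q⁻¹ * f)⁻¹ * g)⁻¹ =
            (q⁻¹ * f)⁻¹ * (g * (z * s) * g⁻¹) * (q⁻¹ * f) by group, hg, ← k2]; group⟩⟩
    tauto
  have xE := YE xY
  rcases (four el RY' YE' (thP q hq s sE) (thP q hq x xE) (q2 s sE sQ) (q2 x xE xQ)
    (by rw [← thm q hq x xE s sE]; exact q2 _ (mul_mem xE sE) xs)).2 c2 (z * s)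
    ⟨sQ', (mul_mem zE sE).2⟩ with k | k | k | k
  · exact zsQ k.1
  · exact fin s sE sQ k
  · exact fin x xE xQ k
  · exact fin _ (mul_mem xE sE) xs (by rwa [thm q hq x xE s sE, ← mul_assoc])

end Cfsg.Lib.N9M
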