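import Cfsg.Agent.N9M.Kit
import Cfsg.Agent.N9M.Cj
import Cfsg.Agent.N9M.CEs
import Cfsg.Agent.N9M.CEx

/-! The case `A₅` leads to the configuration `AB`. -/

set_option autoImplicit false

namespace Cfsg.Lib.N9M

open Subgroup Cfsg.Lib.Trans Cfsg.Lib.SC6
open Cfsg.Lib.Odd3 (conj_mem_of_norm conj_mem_of_norm' mem_norm_of_conj)
open Cfsg.Lib.L3 (sq_cases cube_cases SZ)

variable {G : Type*} [Group G] [Finite G] {u s c z y w h : G} {Q T X : Subgroup G}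

namespace CEab

omit [Finite G] in
theorem tc (H : CE u s c z y Q T) (hQ : Q ≤ om Q) {x : G} (hx : x ∈ Q) (e : x * z = z * x) :
    T ≤ C1 x := by
  rw [← H.sup]
  refine sup_le (fun a ha => mem_C1.2 ((hQ hx).2.2 a ha)) fun a ha => mem_C1.2 ?_
  have hx' : x ∈ C1 s ⊓ C1 z := ⟨H.le hx, mem_C1.2 e⟩
  have h1 := H.el a ha
  have h2 := H.el x hx'
  have h3 := H.el _ (mul_mem ha hx')
  calc a * x = (a * x)⁻¹ := (inv_eq_of_mul_eq_one_right h3).symm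
    _ = x⁻¹ * a⁻¹ := mul_inv_rev _ _
    _ = x * a := by rw [inv_eq_of_mul_eq_one_right h1, inv_eq_of_mul_eq_one_right h2]

omit [Finite G] in
theorem omc (hQ : Q ≤ om Q) (g : G) : Trans.cj g Q ≤ om (Trans.cj g Q) := by
  rintro _ ⟨a, ha, rfl⟩
  refine ⟨⟨a, ha, rfl⟩, conj_sq (hQ ha).2.1, ?_⟩
  rintro _ ⟨b, hb, rfl⟩
  exact conj_comm ((hQ ha).2.2 b hb)

theorem vQ (H : CE u s c z y Q T) (hQ : Q ≤ om Q) {x : G} (h1 : x ∈ Q) (h2 : x ∈ Trans.cj c Q) :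
    ff u c x ∈ Nm Q := by
  have xz := H.toQS.r2 h1 h2
  have x2 := (hQ h1).2.1
  have xs := mem_C1.1 (H.le h1)
  have n : nrm (c * u * c⁻¹) x = 1 :=
    H.cc.tau (omc hQ c) ⟨h2, by rw [H.toQS.cjcc]; exact h1⟩
  have e1 : ff u c x * z * (ff u c x)⁻¹ = z * x := H.toQS.cc.tau0 h2 x2 xz n
  have e2 : ff u c x ∈ C1 (z * s) := by
    have v := mem_C1.2 H.toQS.cc.hy.w6.yt
    exact mul_mem (mul_mem v (H.toQS.cc.le h2)) (inv_mem v)
  have e3 : ff u c x * s * (ff u c x)⁻¹ = s * x := by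
    calc _ = (ff u c x * z * (ff u c x)⁻¹)⁻¹ * (ff u c x * (z * s) * (ff u c x)⁻¹) := by group
      _ = x⁻¹ * s := by rw [e1, conj_eq_of_comm (mem_C1.1 e2)]; group
      _ = _ := by rw [inv_eq_of_mul_eq_one_right x2, xs]
  refine H.nq hQ fun a ha => mem_C1.2 ?_
  rw [e3, ← mul_assoc, mem_C1.1 (H.syl.le ha), mul_assoc, mem_C1.1 (tc H hQ h1 xz ha), mul_assoc]

theorem hK (H : CE u s c z y Q T) (hQ : Q ≤ om Q) {g : G} (hg : g ∈ C1 s)
    (e : ∀ f ∈ om Q, g * f = f * g) : g ∈ Q := by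
  rcases H.simp (C1 s ⊓ centralizer (Q : Set G))
    (fun a ha => ⟨H.le ha, fun b hb => (hQ ha).2.2 b hb⟩) inf_le_left
    (fun a ha => nm_inf (nm_self ha) (by
      rw [← cj_eq_self_iff, cj_centralizer, cj_eq_of_mem_normalizer (H.nQ ha)])) with k | k
  · exact k ▸ (⟨hg, fun b hb => (e b (hQ hb)).symm⟩ : g ∈ C1 s ⊓ centralizer (Q : Set G))
  · have hu : u ∈ C1 s ⊓ centralizer (Q : Set G) := k.symm ▸ mem_C1.2 H.hy.w6.yt
    exact absurd (fun a ha => H.toQS.loc.fp.fpf a ha (comm_mem_of_eq (hu.2 a ha).symm)) H.ne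

theorem nX (H : CE u s c z y Q T) (hQ : Q ≤ om Q) {x : G} (h1 : x ∈ Q) (xz : x * z = z * x)
    (n : nrm u x = 1) : ¬ St s x := by
  have := Fact.mk Nat.prime_two
  rintro ⟨g, hg⟩
  have tx := tc H hQ h1 xz
  have s1 : IsSylowIn 2 (Trans.cj g T) (C1 x) := by
    have := H.syl.cj g
    rwa [C1, cj_centralizer_set, Set.image_singleton, hg] at this
  have s2 : IsSylowIn 2 T (C1 x) := s1.of_card_ge H.syl.isPGroup tx (card_cj g T).le
  obtain ⟨k, k1, k2⟩ := s2.exists_cj_eq s1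
  rw [cj_cj, cj_eq_self_iff] at k2
  have k3 : k * g * s * (k * g)⁻¹ = x := by
    rw [← conj_eq_of_comm (mem_C1.1 k1), ← hg]; group
  have k4 : k * g ∈ Nm Q := H.nq hQ (k3.symm ▸ tx)
  generalize k * g = m at k2 k3 k4
  have yQ : y ∈ Nm Q := H.nQ (mem_C1.2 H.ys)
  have ys := conj_eq_of_comm H.ys
  have ys' : y⁻¹ * s * y = s := by rw [mul_assoc, ← H.ys, inv_mul_cancel_left]
  obtain ⟨k, k1, k2, k3⟩ : ∃ k ∈ Nm Q, k * s * k⁻¹ = x ∧ k⁻¹ * z * k * z ∈ Q := by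
    rcases H.dec _ (conj_mem_of_norm' k2 H.zT) with e | e | e | e
    · refine absurd ?_ H.zQ
      simpa [mul_assoc] using conj_mem_of_norm k4 e
    · exact ⟨m, k4, k3, e⟩
    · refine ⟨m * y, mul_mem k4 yQ, by
        rw [show m * y * s * (m * y)⁻¹ = m * (y * s * y⁻¹) * m⁻¹ by group, ys, k3], ?_⟩
      have := conj_mem_of_norm' yQ e
      convert this using 1; group
    · refine ⟨m * y⁻¹, mul_mem k4 (inv_mem yQ), by
        rw [show m * y⁻¹ * s * (m * y⁻¹)⁻¹ = m * (y⁻¹ * s * y) * m⁻¹ by group, ys', k3], ?_⟩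
      have := conj_mem_of_norm yQ e
      convert this using 1; group
  have t := H.toQS.tau0 h1 (hQ h1).2.1 xz n
  have b : u * x * u⁻¹ ∈ Q := H.toQS.loc.fp.conj h1
  generalize u * x * u⁻¹ = a at t b
  have q := conj_mem_of_norm' k1 b
  have cm := (hQ q).2.2 _ k3
  have z1 : z⁻¹ = z := inv_eq_of_mul_eq_one_right H.hy.z2
  have e : k⁻¹ * a * k * z * (k⁻¹ * a * k)⁻¹ = z * s := by
    refine mul_left_cancel (a := k⁻¹ * z * k * z) ?_
    calc _ = k⁻¹ * z * k * z * (k⁻¹ * a * k) * z * (k⁻¹ * a * k)⁻¹ := by group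
      _ = k⁻¹ * (a * z * a⁻¹) * k * (k⁻¹ * a * k) * (z * z) * (k⁻¹ * a * k)⁻¹ := by
        rw [cm]; group
      _ = k⁻¹ * z * k * (z * z) * s := by rw [t, ← k2, H.hy.z2]; group
      _ = _ := by group
  refine H.zD ⟨(k⁻¹ * a * k)⁻¹ * c, ?_⟩
  calc _ = (k⁻¹ * a * k)⁻¹ * (c * s * c⁻¹) * (k⁻¹ * a * k) := by group
    _ = z := by rw [H.hy.sc, ← e]; group

end CEab

theorem CE.toAB (H : CE u s c z y Q T) (hQ : Q ≤ om Q) (hX : IsX u z Q X) : AB u s c z Q X := by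
  have xc := H.xc hQ hX
  have xq : X ≤ Q := fun x hx => ((hX x).1 hx).1.1
  have e : X = Q ⊓ Trans.cj c Q := le_antisymm (le_inf xq xc) fun r hr =>
    (hX r).2 ⟨hQ hr.1, H.toQS.r2 hr.1 hr.2, H.tau hQ hr⟩
  refine ⟨H.toQS, H.zD, hX, fun b => ?_, ?_, fun x hx => CEab.vQ H hQ (xq hx) (xc hx),
    fun x hx => CEab.nX H hQ (xq hx) ((hX x).1 hx).2.1 ((hX x).1 hx).2.2,
    fun a ha k => (IsX.mem_or H.toQS hX (hQ ha) k).imp (@xc _) (@xc _),
    fun g hg _ _ k => CEab.hK H hQ hg k⟩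
  · have l : Q ⊓ C1 z ≤ zpowers s := fun a ha => by
      rcases IsX.mem_or H.toQS hX (hQ ha.1) (mem_C1.1 ha.2) with k | k
      · rw [b, mem_bot] at k
        exact k ▸ one_mem _
      · rw [b, mem_bot] at k
        exact eq_inv_of_mul_eq_one_left k ▸ inv_mem (mem_zpowers s)
    have h1 := Subgroup.card_le_of_le l
    have h2 := H.y8
    rw [card_zp H.hy.w6.t2 H.hy.w6.t1] at h1
    omega
  · rw [← cj_eq_self_iff, e, cj_inf, H.toQS.cjcc, inf_comm]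

end Cfsg.Lib.N9M
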