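import Cfsg.Agent.N9M.Kit

/-! The involution `d` is conjugate to `s`; `T` is a Sylow subgroup of the whole group. -/

set_option autoImplicit false

namespace Cfsg.Lib.N9M

open Subgroup Cfsg.Lib.Trans Cfsg.Lib.SC6
open Cfsg.Lib.Odd3 (conj_mem_of_norm conj_mem_of_norm' mem_norm_of_conj)
open Cfsg.Lib.L3 (sq_cases cube_cases SZ)

variable {G : Type*} [Group G] [Finite G] {u s c z y w h : G} {Q T X : Subgroup G}

namespace Dd

omit [Finite G] in
theorem st {g a b : G} (e : g * a * g⁻¹ = b) : St s a ↔ St s b :=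
  ⟨fun ⟨k, hk⟩ => ⟨g * k, by rw [← e, ← hk]; group⟩,
    fun ⟨k, hk⟩ => ⟨g⁻¹ * k, by
      calc _ = g⁻¹ * (k * s * k⁻¹) * g := by group
        _ = _ := by rw [hk, ← e]; group⟩⟩

theorem tau (H : QS u s c z Q) {x : G} (hx : x ∈ Q) (x2 : x * x = 1) (e : x * z = z * x) :
    (nrm u x = 1 ∧ ∃ b, b * s * b⁻¹ = s ∧ b * x = x * b ∧ b * z * b⁻¹ = z * x) ∨
      (nrm u x = s ∧ ∃ b, b * s * b⁻¹ = s ∧ b * x = x * b ∧ b * z * b⁻¹ = z * (x * s)) := by
  have L := H.loc
  have xs := L.cen x hx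
  rcases H.nrm_cases hx with n | n
  · exact .inl ⟨n, _, conj_eq_of_comm (L.cen _ (L.fp.conj hx)), (L.invol hx x2).symm,
      H.tau0 hx x2 e n⟩
  · have h1 := mul_mem hx H.sQ
    refine .inr ⟨n, _, conj_eq_of_comm (L.cen _ (L.fp.conj h1)), ?_, H.tau0 h1 ?_ ?_ ?_⟩
    · calc _ = u * x * u⁻¹ * (u * s * u⁻¹ * x) := by group
        _ = u * x * u⁻¹ * x * s := by rw [conj_eq_of_comm L.yt, ← xs]; group
        _ = x * (u * x * u⁻¹) * (u * s * u⁻¹) := by rw [conj_eq_of_comm L.yt, L.invol hx x2]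
        _ = _ := by group
    · calc _ = x * (s * x) * s := by group
        _ = x * x * (s * s) := by rw [← xs]; group
        _ = 1 := by rw [x2, L.t2, one_mul]
    · rw [mul_assoc, ← H.hy.zs, ← mul_assoc, e, mul_assoc]
    · rw [H.nrm_s hx, n, L.t2]

theorem core (H : QS u s c z Q) {x : G} (hx : x ∈ Q) (hx' : x ∈ cj c Q) (x2 : x * x = 1)
    (x1 : x ≠ 1) (e : x * z = z * x) :
    (St s x ∨ St s (x * s)) ∧ (¬ St s z → St s (x * s) → nrm u x = 1) := by
  have z2 := H.hy.z2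
  have s2 := H.loc.t2
  have zs := H.hy.zs
  have k1 : ∀ g : G, g * s * g⁻¹ = g * z * g⁻¹ * (g * (z * s) * g⁻¹) := fun g => by
    calc _ = g * (z * z * s) * g⁻¹ := by rw [z2, one_mul]
      _ = _ := by group
  have k2 : ∀ g : G, g * (z * s) * g⁻¹ = g * z * g⁻¹ * (g * s * g⁻¹) := fun g => by group
  have k3 : z * (x * (z * s)) = x * s := by
    calc _ = z * (x * z) * s := by group
      _ = z * z * x * s := by rw [e]; group
      _ = _ := by rw [z2, one_mul]
  have k4 : x * s * (z * s) = z * x := by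
    calc _ = x * (s * z) * s := by group
      _ = x * z * (s * s) := by rw [← zs]; group
      _ = _ := by rw [s2, mul_one, e]
  have k5 : z * (x * s) * s = z * x := by rw [mul_assoc, mul_assoc, s2, mul_one]
  have s0 : St s s := ⟨1, by group⟩
  have s' : St s (z * s) := ⟨c, H.hy.sc⟩
  rcases tau H.cc hx' x2 e with ⟨-, f, f1, f2, f3⟩ | ⟨-, f, f1, f2, f3⟩
  · have f4 := k1 f
    rw [f1, f3, mul_assoc z, k3] at f4
    refine ⟨.inr ⟨f, f4⟩, fun zD _ => ?_⟩
    rcases tau H hx x2 e with ⟨n, -⟩ | ⟨-, b, b1, b2, b3⟩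
    · exact n
    · have b4 := k2 b
      rw [b1, b3, k5] at b4
      exact absurd ((st f3).2 ((st b4).1 s')) zD
  · rw [k3] at f3
    have f4 := k1 f
    rw [f1, f3, k4] at f4
    refine ⟨?_, fun zD k => absurd ((st f3).2 k) zD⟩
    rcases tau H hx x2 e with ⟨-, b, b1, b2, b3⟩ | ⟨-, b, b1, b2, b3⟩
    · exact .inr ((st f3).1 ((st b3).2 ⟨f, f4⟩))
    · have b4 := k2 b
      rw [b1, b3, k5] at b4
      have m : z * x * z⁻¹ ∈ zpowers x := by rw [← e, mul_inv_cancel_right]; exact mem_zpowers x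
      refine .inl (H.hy.st3 x2 x1 (tri3 (N := zpowers x) (q := b) (r := f) (a := s) (b := z * s)
        (d := z) (nm_zp b2) (nm_zp f2) ?_ ?_ ?_ ?_ ?_ ?_ ?_) ?_)
      · rw [b1, mul_inv_cancel]; exact one_mem _
      · rw [b3]; convert m using 1; group
      · rw [b4]; exact m
      · rw [f1, mul_inv_cancel]; exact one_mem _
      · rw [f4]; exact m
      · rw [f3, mul_inv_cancel_right]; exact mem_zpowers x
      · rw [mul_inv_cancel_right]; exact fun k => H.zQ (zpowers_le.2 hx k)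
      · rw [mul_assoc, f2, ← mul_assoc, b2, mul_assoc]

end Dd

open Dd

theorem CS.dD (H : CS u s c z Q T) {d : G} (hd : d ∈ Q) (d2 : d * d = 1) (d1 : d ∉ om Q)
    (e : ∀ a ∈ T, a * d * a⁻¹ * d⁻¹ ∈ zpowers s) :
    d * z = z * d ∧ St s d ∧
      (¬ St s z → (d ∈ Trans.cj c Q ∧ nrm u d = 1) ∨ (d * s ∈ Trans.cj c Q ∧ nrm u (d * s) = 1)) := by
  have L := H.toQS.loc
  have ds := L.cen d hd
  have z2 := H.hy.z2
  have zs := H.hy.zs
  have dz : d * z = z * d := by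
    rcases L.conj_cases (e z H.zT) with k | k
    · exact k.symm
    have k1 : d * z * (d * z) = s := by
      calc _ = d * (z * d * z⁻¹) * (z * z) := by group
        _ = d * s * d := by rw [k, z2]; group
        _ = s := by rw [ds, mul_assoc, d2, mul_one]
    obtain ⟨g, -, hg⟩ := H.b0 (d * z) (mul_mem (H.le hd) (mem_C1.2 zs))
      (fun k => H.zQ ((mul_mem_cancel_left hd).1 k)) (k1.symm ▸ mem_zpowers s)
    refine absurd ?_ (conj_ne_one (g := g) L.t1)
    rw [← k1, show g * (d * z * (d * z)) * g⁻¹ = g * (d * z) * g⁻¹ * (g * (d * z) * g⁻¹) by group]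
    rcases hg with k | k <;> rw [k]
    · exact z2
    · exact H.toQS.cc.loc.t2
  obtain ⟨a, ha, k⟩ : ∃ a ∈ Q, a * d ≠ d * a := by
    by_contra! k
    exact d1 ⟨hd, d2, k⟩
  have k1 : St s d ↔ St s (d * s) :=
    st (((L.conj_cases (e a (H.i2.le ha))).resolve_left k).trans ds.symm)
  have dss : d * s * s = d := by rw [mul_assoc, L.t2, mul_one]
  rcases H.hY hd dz with k2 | k2
  · obtain ⟨c1, c2⟩ := core H.toQS hd k2 d2 (fun f => d1 (f ▸ one_mem _)) dz
    have c3 : St s d := c1.elim id k1.2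
    exact ⟨dz, c3, fun zD => .inl ⟨k2, c2 zD (k1.1 c3)⟩⟩
  · obtain ⟨c1, c2⟩ := core H.toQS (mul_mem hd H.sQ) k2 (by
      calc _ = d * (s * d) * s := by group
        _ = d * d * (s * s) := by rw [← ds]; group
        _ = 1 := by rw [d2, L.t2, one_mul]) (fun f => d1 (by
      rw [← dss, f, one_mul]; exact L.zp_om (mem_zpowers s))) (by
      rw [mul_assoc, ← zs, ← mul_assoc, dz, mul_assoc])
    rw [dss] at c1 c2
    have c3 : St s d := c1.elim k1.2 id
    exact ⟨dz, c3, fun zD => .inr ⟨k2, c2 zD c3⟩⟩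

theorem CS.top (H : CS u s c z Q T) (e : ¬ Q ≤ zpowers s) (zc : om Q ≤ zpowers s) :
    IsSylowIn 2 T ⊤ := by
  have := Fact.mk Nat.prime_two
  have L := H.toQS.loc
  have h1 : om T ≤ zpowers s := fun g hg => by
    by_cases k : g ∈ Q
    · exact zc ⟨k, hg.2.1, fun a ha => hg.2.2 a (H.i2.le ha)⟩
    exact absurd (fun a ha => H.d2.dd (mem_zpowers s) (zpowers_le.2 H.sQ)
      (fun b hb => nm_zp (H.d2.cT hb)) (nm_zp L.yt) hg.1 k ha
      (comm_mem_of_eq (hg.2.2 a (H.i2.le ha)).symm)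
      (comm_mem_of_eq (hg.2.2 _ (H.i2.le (L.fp.conj ha))).symm)) e
  have h2 : Nm T ≤ C1 s := fun n hn => mem_C1.2 (mul_inv_eq_iff_eq_mul.1
    ((sq_cases L.t2 (h1 (conj_mem_om hn ⟨H.i2.le H.sQ, L.t2, fun a ha => H.d2.cT ha⟩))).resolve_left
      (conj_ne_one L.t1)))
  refine isSylowIn_of_maximal le_top H.syl.isPGroup fun P hP l _ => ?_
  by_contra k
  have h3 := lt_inf_normalizer hP (lt_of_le_not_ge l k)
  exact h3.ne' (H.syl.eq_of_le hP.to_inf_left h3.le (inf_le_right.trans h2))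

end Cfsg.Lib.N9M
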