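import Cfsg.Agent.Ord6.Two

/-! A strongly `3`-embedded subgroup `3 ^ 2 : SD₁₆`: definitions. -/

set_option autoImplicit false

namespace Cfsg.Lib.N9M

open Subgroup Cfsg.Lib.Trans Cfsg.Lib.SC6
open Cfsg.Lib.Odd3 (conj_mem_of_norm conj_mem_of_norm' mem_norm_of_conj)
open Cfsg.Lib.L3 (sq_cases cube_cases SZ)

variable {G : Type*} [Group G] [Finite G]

/-- The hypothesis: `t * y` is self-centralising and all involutions commuting with a `3`-element are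
conjugate to `t`. -/
structure W6 (t y : G) : Prop where
  t2 : t * t = 1
  t1 : t ≠ 1
  y3 : y ^ 3 = 1
  y1 : y ≠ 1
  yt : y * t = t * y
  cent : ∀ g, g * t = t * g → g * y = y * g →
    g ∈ zpowers t ∨ g * y⁻¹ ∈ zpowers t ∨ g * y ∈ zpowers t
  conj : ∀ u g : G, ∀ n : ℕ, u * u = 1 → u ≠ 1 → g ≠ 1 → g ^ 3 ^ n = 1 → g * u = u * g →
    ∃ k, k * t * k⁻¹ = u

namespace W6
variable {t y : G} (h : W6 t y)
include h

omit [Finite G] in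
theorem inv : W6 t y⁻¹ :=
  ⟨h.t2, h.t1, by rw [inv_pow, h.y3, inv_one], inv_ne_one.2 h.y1, (Commute.inv_left h.yt :),
    fun g h1 h2 => by
      rw [inv_inv]
      have : g * y = y * g := by simpa using (Commute.inv_right (a := g) h2).eq
      exact (h.cent g h1 this).imp_right Or.symm, h.conj⟩

omit [Finite G] in
theorem cj (k : G) : W6 (k * t * k⁻¹) (k * y * k⁻¹) :=
  ⟨conj_sq h.t2, conj_ne_one h.t1, by rw [conj_pow, h.y3]; group, conj_ne_one h.y1,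
    conj_comm h.yt, fun g h1 h2 => by
      rw [← cj_zpowers]
      refine (h.cent (k⁻¹ * g * k) (by simpa [mul_assoc] using conj_comm (g := k⁻¹) h1)
        (by simpa [mul_assoc] using conj_comm (g := k⁻¹) h2)).imp mem_cj.2
        (Or.imp (fun e => mem_cj.2 ?_) fun e => mem_cj.2 ?_) <;> simpa [mul_assoc] using e,
    fun u a n h1 h2 h3 h4 h5 => by
      obtain ⟨g, rfl⟩ := h.conj u a n h1 h2 h3 h4 h5
      exact ⟨g * k⁻¹, by group⟩⟩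

omit [Finite G] in
theorem three {g : G} {n : ℕ} (h1 : g * t = t * g) (h2 : g * y = y * g) (h3 : g ^ 3 ^ n = 1) :
    g ∈ zpowers y := by
  have key : ∀ a : G, a * y = y * a → g * a ∈ zpowers t → a ∈ zpowers y → a ^ 3 = 1 →
      g * a = a * g → g ∈ zpowers y := fun a _ e2 e3 e4 e5 => by
    rcases sq_cases h.t2 e2 with e | e
    · exact eq_inv_of_mul_eq_one_left e ▸ inv_mem e3
    · refine absurd ?_ h.t1
      have e6 : t ^ 3 ^ (n + 1) = 1 := by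
        rw [← e, Commute.mul_pow e5, pow_succ 3, pow_mul g, h3, mul_comm (3 ^ n), pow_mul a, e4]; simp
      exact pow_eq_one_iff_of_coprime (Nat.Coprime.pow_right (n + 1) (by norm_num : Nat.Coprime 2 3))
        |>.1 ⟨by rw [sq, h.t2], e6⟩
  rcases h.cent g h1 h2 with e | e | e
  · exact key 1 (by simp) (by simpa using e) (one_mem _) (by simp) (by simp)
  · exact key y⁻¹ (by simp) e (inv_mem (mem_zpowers y)) h.inv.y3 (Commute.inv_right h2)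
  · exact key y rfl e (mem_zpowers y) h.y3 h2

theorem syl3 : IsSylowIn 3 (zpowers y) (C1 t) := by
  have := Fact.mk Nat.prime_three
  refine isSylowIn_of_maximal (zpowers_le.2 (mem_C1.2 h.yt))
    (L3.pgroup_zpowers (k := 1) (by rw [pow_one, h.y3])) fun Q h1 h2 h3 => ?_
  have hy := h2 (mem_zpowers y)
  have key : ∀ g ∈ Q, g * y = y * g → g ∈ zpowers y := fun g hg e => by
    obtain ⟨n, hn⟩ := h1 ⟨g, hg⟩
    exact h.three (mem_C1.1 (h3 hg)) e (congrArg Subtype.val hn)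
  obtain ⟨a, a1, a2, -, a3, a4⟩ := Solv.PG.exists_step_elt (p := 3) (M := ⊥) h1 h1
    (fun b _ => mem_normalizer_iff.2 fun x => by simp) le_normalizer
    (bot_lt_iff_ne_bot.2 fun e => h.y1 (by rwa [e] at hy))
  have a5 : ∀ b ∈ Q, a * b = b * a := fun b hb => eq_of_comm_one (a4 b (mem_sup_left hb))
  refine fun g hg => key g hg ?_
  rcases cube_cases h.y3 (key a a1 (a5 y hy)) with e | e | e
  · exact absurd e a2
  · exact e ▸ (a5 g hg).symm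
  · have := (Commute.inv_right (a := g) (a5 g hg).symm).eq
    rwa [e, inv_inv] at this

theorem of_comm {u g : G} {n : ℕ} (u2 : u * u = 1) (u1 : u ≠ 1) (g1 : g ≠ 1)
    (g3 : g ^ 3 ^ n = 1) (e : g * u = u * g) : W6 u g := by
  have := Fact.mk Nat.prime_three
  obtain ⟨k, rfl⟩ := h.conj u g n u2 u1 g1 g3 e
  obtain ⟨c, c1, c2⟩ := L3.exists_conj_mem (h.cj k).syl3 (mem_C1.2 e) g3
  have c3 : c⁻¹ * (k * t * k⁻¹) * c⁻¹⁻¹ = k * t * k⁻¹ :=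
    conj_eq_of_comm (mem_C1.1 (inv_mem c1))
  rcases cube_cases (h.cj k).y3 c2 with a | a | a
  · exact absurd a (conj_ne_one g1)
  · have := (h.cj k).cj c⁻¹
    rwa [c3, ← a, show c⁻¹ * (c * g * c⁻¹) * c⁻¹⁻¹ = g by group] at this
  · have := (h.cj k).inv.cj c⁻¹
    rwa [c3, ← a, show c⁻¹ * (c * g * c⁻¹) * c⁻¹⁻¹ = g by group] at this

theorem two {R : Subgroup G} (hR : IsPGroup 2 R) {g a b : G} {n : ℕ} (g1 : g ≠ 1)
    (g3 : g ^ 3 ^ n = 1) (ha : a ∈ R) (hb : b ∈ R) (e1 : g * a = a * g) (e2 : g * b = b * g)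
    (a1 : a ≠ 1) (b1 : b ≠ 1) : a = b := by
  have hS : IsPGroup 2 ↥(R ⊓ C1 g) := hR.to_inf_left
  obtain ⟨u, hu, u1⟩ := exists_om hS fun e => a1 (by
    rw [← mem_bot, ← e]; exact ⟨ha, mem_C1.2 e1.symm⟩)
  have h' := h.of_comm hu.2.1 u1 g1 g3 (mem_C1.1 hu.1.2).symm
  have key : ∀ c ∈ R ⊓ C1 g, c ≠ 1 → c = u := fun c hc c1 => by
    rcases h'.cent c (hu.2.2 c hc) (mem_C1.1 hc.2) with e | e | e
    · exact (sq_cases h'.t2 e).resolve_left c1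
    · exact absurd (eq_one_of_mem_two hS (inv_mem_iff.1 ((mul_mem_cancel_left hc).1
        (zpowers_le.2 hu.1 e))) h'.y3) g1
    · exact absurd (eq_one_of_mem_two hS ((mul_mem_cancel_left hc).1
        (zpowers_le.2 hu.1 e)) h'.y3) g1
  rw [key a ⟨ha, mem_C1.2 e1.symm⟩ a1, key b ⟨hb, mem_C1.2 e2.symm⟩ b1]

theorem cube {R : Subgroup G} (hR : IsPGroup 2 R) {g a : G} {n : ℕ} (g3 : g ^ 3 ^ n = 1)
    (ha : a ∈ R) (e : g * a = a * g) (a1 : a ≠ 1) : a * a = 1 ∧ g ^ 3 = 1 ∨ g = 1 := by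
  refine or_iff_not_imp_right.2 fun g1 => ?_
  have a2 : a * a = 1 := mul_eq_one_iff_eq_inv.2 (h.two hR g1 g3 ha (inv_mem ha) e
    (Commute.inv_right e) a1 (inv_ne_one.2 a1))
  exact ⟨a2, (h.of_comm a2 a1 g1 g3 e).y3⟩

/-- Two invariant cosets. -/
theorem kc {R D V : Subgroup G} (hR : IsPGroup 2 R) (h1 : D ≤ R) (h2 : V ≤ D) {g a e : G}
    (hg : 3 ∣ orderOf g) (ha : a ∈ R) (he : e ∈ D) (e1 : e ∉ V) (c1 : g ∈ cm D a)
    (c2 : g ∈ cm V e) : a ∈ D := by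
  obtain ⟨m, n, -, g1, g3⟩ := three_part hg
  obtain ⟨x, x1, x2⟩ := fix_coset g3 (hR.to_le h1) (pow_mem c1 m)
  obtain ⟨z, z1, z2⟩ := fix_coset g3 (hR.to_le (h2.trans h1)) (pow_mem c2 m)
  have z3 : z ∈ D := (D.mul_mem_cancel_right (inv_mem he)).1 (h2 z1)
  refine inv_mem_iff.1 ((D.mul_mem_cancel_left ?_).1 x1)
  by_cases c : x = 1
  · exact c ▸ one_mem _
  · exact h.two hR g1 g3 (h1 z3) ((R.mul_mem_cancel_right (inv_mem ha)).1 (h1 x1)) z2 x2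
      (fun c => e1 (by simpa [c] using z1)) c ▸ z3

theorem loc {R : Subgroup G} (hR : IsPGroup 2 R) (h1 : t ∈ R) (h2 : R ≤ C1 t) (h3 : y ∈ Nm R) :
    Loc t y R :=
  ⟨FP.of_fix hR (zpowers_le.2 h1) (fun a ha => nm_zp (mem_C1.1 (h2 ha))) h3 (nm_zp h.yt) h.y3
    fun a ha e => by
      by_cases c : a = 1
      · exact c ▸ one_mem _
      · exact h.two (n := 1) hR h.y1 (by rw [pow_one, h.y3]) h1 ha h.yt e h.t1 c ▸ mem_zpowers t,
    h.t2, h.t1, fun a ha => mem_C1.1 (h2 ha), h.yt⟩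

theorem card_two {R : Subgroup G} (hR : IsPGroup 2 R) {g a : G} {n : ℕ} (g1 : g ≠ 1)
    (g3 : g ^ 3 ^ n = 1) (hg : g ∈ Nm R) (ha : a ∈ R) (e : g * a = a * g) (a1 : a ≠ 1) :
    Nat.card R % 3 = 2 := by
  have a2 := ((h.cube hR g3 ha e a1).resolve_right g1).1
  have h1 := card_modEq g3 hg
  have h2 : R ⊓ C1 g = zpowers a := le_antisymm (fun b hb => by
    by_cases c : b = 1
    · exact c ▸ one_mem _
    · exact h.two hR g1 g3 ha hb.1 e (mem_C1.1 hb.2).symm a1 c ▸ mem_zpowers a)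
    (zpowers_le.2 ⟨ha, mem_C1.2 e.symm⟩)
  rwa [h2, card_zp a2 a1] at h1

theorem fpf {R : Subgroup G} (hR : IsPGroup 2 R) {g : G} (g1 : g ≠ 1) (g3 : g ^ 3 = 1)
    (hg : g ∈ Nm R) (e : Nat.card R % 3 = 1) : FP g R ⊥ :=
  FP.of_fix hR bot_le (fun b _ => mem_normalizer_iff.2 fun x => by simp) hg
    (mem_normalizer_iff.2 fun x => by simp) g3 fun a ha c => by
      by_contra b
      have := h.card_two (n := 1) hR g1 (by rw [pow_one, g3]) hg ha c b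
      omega

end W6

/-- The centraliser of `t` is of shape `Q . Sym 3` up to the centraliser of `Q`. -/
structure D2 (t y s : G) (Q T : Subgroup G) : Prop where
  w6 : W6 t y
  syl : IsSylowIn 2 T (C1 t)
  i2 : I2 Q T
  tQ : t ∈ Q
  sT : s ∈ T
  sQ : s ∉ Q
  sy : s * y * s⁻¹ = y⁻¹
  nQ : C1 t ≤ Nm Q

namespace D2
variable {t y s : G} {Q T : Subgroup G} (h : D2 t y s Q T)
include h

omit [Finite G] in
theorem pg : IsPGroup 2 Q := h.syl.isPGroup.to_le h.i2.le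

omit [Finite G] in
theorem cT {a : G} (ha : a ∈ T) : a * t = t * a := mem_C1.1 (h.syl.le ha)

theorem loc : Loc t y Q :=
  h.w6.loc h.pg h.tQ (h.i2.le.trans h.syl.le) (h.nQ (mem_C1.2 h.w6.yt))

theorem dd {D : Subgroup G} (tD : t ∈ D) (DQ : D ≤ Q) (nT : T ≤ Nm D) (yD : y ∈ Nm D) {g a : G}
    (gT : g ∈ T) (gQ : g ∉ Q) (ha : a ∈ Q) (e1 : g * a * g⁻¹ * a⁻¹ ∈ D)
    (e2 : g * (y * a * y⁻¹) * g⁻¹ * (y * a * y⁻¹)⁻¹ ∈ D) : a ∈ D := by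
  have hf := h.loc.fp
  have nQ := h.i2.le.trans nT
  have a2 : y⁻¹ * a * y ∈ cm D g := (mul_mem_cancel_left ((cm D g).mul_mem
    ⟨nQ ha, comm_symm e1⟩ ⟨nQ (hf.conj ha), comm_symm e2⟩)).1 (by
      have n := zpowers_le.2 tD (hf.norm ha)
      refine ⟨nm_self n, ?_⟩
      have := mul_mem n (conj_mem_of_norm (nT gT) (inv_mem n))
      convert this using 1; group)
  have c1 : y * g * y⁻¹ ∈ cm D a := ⟨mul_mem (mul_mem yD (nT gT)) (inv_mem yD), by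
    have := conj_mem_of_norm yD (comm_symm a2.2)
    convert this using 1; group⟩
  have q1 := h.i2.mul_inv gT h.sT gQ h.sQ
  have q2 := mul_mem q1 (hf.conj' (inv_mem q1))
  have e : g * (y * g * y⁻¹)⁻¹ = g * s⁻¹ * (y⁻¹ * (g * s⁻¹)⁻¹ * y) * y := by
    calc _ = g * s⁻¹ * (s * y * s⁻¹) * (g * s⁻¹)⁻¹ * y * (y ^ 3)⁻¹ * y := by rw [pow_three']; group
      _ = _ := by rw [h.sy, hf.y3]; group
  refine h.w6.kc (V := ⊥) h.pg DQ bot_le (g := g * (y * g * y⁻¹)⁻¹) (three_dvd (H := Q) ?_ ?_) ha tD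
    h.w6.t1 (mul_mem ⟨nT gT, e1⟩ (inv_mem c1)) ?_
  · rw [e]
    generalize g * s⁻¹ * (y⁻¹ * (g * s⁻¹)⁻¹ * y) = q at q2
    have := hf.le (hf.norm q2)
    rw [← yy hf.y3, ← mul_one (_ * _), ← hf.y3] at this
    convert this using 1
    rw [pow_three', pow_three']; group
  · rw [e]
    exact fun c => h.w6.y1 (eq_one_of_mem_two h.pg ((mul_mem_cancel_left q2).1 c) hf.y3)
  · rw [cm_bot]
    have := mem_C1.2 h.w6.yt
    exact mul_mem (h.syl.le gT) (inv_mem (mul_mem (mul_mem this (h.syl.le gT)) (inv_mem this)))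

theorem act {b g : G} (hb : b ∈ om Q) (gT : g ∈ T) (gQ : g ∉ Q) : g * b * g⁻¹ = s * b * s⁻¹ := by
  have := conj_eq_of_comm ((conj_mem_om (h.i2.nm h.sT) hb).2.2 _ (h.i2.mul_inv gT h.sT gQ h.sQ))
  rw [← this]; group

theorem nt {b g : G} (hb : b ∈ om Q) (gT : g ∈ T) : g * b * g⁻¹ * b⁻¹ ≠ t := fun e => by
  have hf := h.loc.fp
  by_cases gQ : g ∈ Q
  · exact h.w6.t1 (by rw [← e, hb.2.2 g gQ]; group)
  rw [h.act hb gT gQ, mul_inv_eq_iff_eq_mul] at e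
  have n := hf.norm hb.1
  have n1 := conj_eq_of_comm (mem_C1.1 ((zpowers_le.2 (mem_C1.2 (h.cT h.sT).symm) : _ ≤ C1 s) n)).symm
  have y1 : s * y⁻¹ * s⁻¹ = y := by rw [← conj_inv, h.sy, inv_inv]
  have b1 := conj_mem_om hf.yR hb
  have b2 := b1.2.2 _ (hf.conj' hb.1)
  have t1 := h.loc.cen b hb.1
  have t2 := h.loc.cen _ (hf.conj' hb.1)
  have e1 : s * (y * b * y⁻¹) * s⁻¹ = t * (y⁻¹ * b * y) := by
    calc _ = s * y * s⁻¹ * (s * b * s⁻¹) * (s * y⁻¹ * s⁻¹) := by group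
      _ = y⁻¹ * t * b * y := by rw [h.sy, y1, e]; group
      _ = _ := by rw [h.w6.inv.yt]; group
  have e2 : s * (y⁻¹ * b * y) * s⁻¹ = t * (y * b * y⁻¹) := by
    calc _ = s * y⁻¹ * s⁻¹ * (s * b * s⁻¹) * (s * y * s⁻¹) := by group
      _ = y * t * b * y⁻¹ := by rw [h.sy, y1, e]; group
      _ = _ := by rw [h.w6.yt]; group
  generalize y * b * y⁻¹ = p at *
  generalize y⁻¹ * b * y = q at *
  refine h.w6.t1 (mul_right_cancel (b := b * p * q) ?_)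
  calc t * (b * p * q) = t * b * (t * t) * (q * p) := by rw [h.w6.t2, b2]; group
    _ = t * b * t * (t * q) * p := by group
    _ = t * b * (t * q) * (t * p) := by rw [← t2, ← mul_assoc, mul_assoc _ t q, mul_assoc _ t p, t2]
    _ = s * (b * p * q) * s⁻¹ := by rw [← e, ← e1, ← e2]; group
    _ = _ := by rw [n1, one_mul]

theorem exists_d {x : G} (c : Cf t y x Q) :
    ∃ d, Cf t y d Q ∧ ∀ a ∈ T, a * d * a⁻¹ * d⁻¹ ∈ zpowers t := by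
  have sN := h.i2.nm h.sT
  have sc := h.cT h.sT
  have ss : ∀ {u}, Cf t y u Q → s * (s * u * s⁻¹) * s⁻¹ * u⁻¹ ∈ zpowers t := fun {u} cu => by
    have := cu.dc _ (h.i2.sq h.sT)
    convert this using 1; group
  obtain ⟨u, cu, e⟩ : ∃ u, Cf t y u Q ∧ u ∈ C1 (s * u * s⁻¹) := by
    have c1 := c.conj
    have c2 := c.of_mem (mul_mem (VU t y x (dV t x)) (eU t y x)) fun e =>
      c.eV ((mul_mem_cancel_left (dV t x)).1 (zpV t x e))
    have key : ∀ {u a b}, Cf t y u Q → a ∈ Q → b ∈ Q →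
        (a * b ∈ C1 u ↔ (a ∈ C1 u ↔ b ∈ C1 u)) := fun {u a b} cu ha hb => by
      simpa [ha, hb, mul_mem ha hb] using cu.i2R.mul_iff ha hb
    have sy : ∀ {a b : G}, a ∈ C1 b ↔ b ∈ C1 a := fun {a b} => by rw [mem_C1, mem_C1, eq_comm]
    generalize y * x * y⁻¹ = e at c1 c2
    by_contra! f
    refine f _ c2 ?_
    have x' := c.cj sN sc
    have e' := c1.cj sN sc
    have p : x ∈ C1 (s * e * s⁻¹) ↔ e ∈ C1 (s * x * s⁻¹) := by
      rw [← (C1 _).mul_mem_cancel_left ((zpowers_le.2 (mem_C1.2 e'.td.symm) : _ ≤ C1 _) (ss c)),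
        inv_mul_cancel_right, sy (a := e), mem_C1, mem_C1]
      exact ⟨fun a => by simpa [mul_assoc] using conj_comm (g := s⁻¹) a, conj_comm⟩
    rw [key (c2.cj sN sc) c.dR c1.dR, sy, sy (a := e),
      show s * (x * e) * s⁻¹ = s * x * s⁻¹ * (s * e * s⁻¹) by group, key c x'.dR e'.dR,
      key c1 x'.dR e'.dR, sy, sy (a := s * e * s⁻¹), sy (b := e), sy (a := s * e * s⁻¹), p]
    have f1 := f _ c
    have f2 := f _ c1
    tauto
  have fin : ∀ d, Cf t y d Q → s * d * s⁻¹ * d⁻¹ ∈ zpowers t →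
      ∃ d, Cf t y d Q ∧ ∀ a ∈ T, a * d * a⁻¹ * d⁻¹ ∈ zpowers t := fun d cd e =>
    ⟨d, cd, fun a ha => (h.i2.le_of (L := cm (zpowers t) d) h.sT h.sQ
      (fun b hb => ⟨cd.fp.nD hb, cd.dc b hb⟩) ⟨nm_zp sc, e⟩ ha).2⟩
  by_cases e1 : s * u * s⁻¹ * u⁻¹ ∈ zpowers t
  · exact fin u cu e1
  have u' := cu.cj sN sc
  have e2 := mem_C1.1 e
  refine fin (s * u * s⁻¹ * u⁻¹) ⟨cu.toLoc, cu.zc, mul_mem u'.dR (inv_mem cu.dR), ?_, e1,
    fun a ha => comm_symm ((cm (zpowers t) a).mul_mem ⟨cu.fp.nD u'.dR, comm_symm (u'.dc a ha)⟩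
      (inv_mem ⟨cu.fp.nD cu.dR, comm_symm (cu.dc a ha)⟩)).2⟩ ?_
  · rw [inv_eq_of_mul_eq_one_right cu.d2]
    calc _ = s * u * s⁻¹ * (u * (s * u * s⁻¹)) * u := by group
      _ = 1 := by rw [e2, ← mul_assoc, u'.d2, one_mul, cu.d2]
  · have := ss cu
    convert this using 1
    calc _ = s * (s * u * s⁻¹) * s⁻¹ * (s * u * s⁻¹)⁻¹ * (u * (s * u * s⁻¹)) *
          (s * u * s⁻¹ * (s * u * s⁻¹))⁻¹ := by group
      _ = s * (s * u * s⁻¹) * s⁻¹ * u⁻¹ * (u * u) := by rw [e2, u'.d2]; group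
      _ = _ := by rw [cu.d2, mul_one]

end D2

/-- Conjugate to `s`. -/
def St (s x : G) : Prop := ∃ g, g * s * g⁻¹ = x

/-- The norm of `x` with respect to `u`. -/
def nrm (u x : G) : G := x * (u * x * u⁻¹) * (u⁻¹ * x * u)

instance normal_zp (s : G) : ((zpowers s).subgroupOf (C1 s)).Normal :=
  ⟨fun a ha g => by
    obtain ⟨k, hk⟩ := mem_zpowers_iff.1 (mem_subgroupOf.1 ha)
    have : (g : G) * a = a * g := hk ▸ (Commute.zpow_right (mem_C1.1 g.2) k).eq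
    refine mem_subgroupOf.2 ?_
    rw [Subgroup.coe_mul, Subgroup.coe_mul, this, Subgroup.coe_inv, mul_inv_cancel_right]
    exact mem_subgroupOf.1 ha⟩

/-- The centraliser of `s` modulo `s`. -/
abbrev HB (s : G) := C1 s ⧸ (zpowers s).subgroupOf (C1 s)

/-- The elementwise hypothesis; `v = c * u * c⁻¹`, `s' = z * s = c * s * c⁻¹`. -/
structure Hy (u s c z : G) : Prop where
  w6 : W6 s u
  zc : c * c = z
  z2 : z * z = 1
  zu : z * u * z⁻¹ = u⁻¹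
  sc : c * s * c⁻¹ = z * s
  conj3 : ∀ y : G, y ^ 3 = 1 → y ≠ 1 → ∃ g, g * u * g⁻¹ = y
  cu2 : ∀ a b : G, a * u = u * a → b * u = u * b → a ^ 3 = 1 ∨ b ^ 3 = 1 ∨ (a * b) ^ 3 = 1
  exp3 : ∀ (g : G) (n : ℕ), g ^ 3 ^ n = 1 → g ^ 3 = 1
  noM : ∀ P : Subgroup G, IsPGroup 2 P → u ∈ Nm P → c * u * c⁻¹ ∈ Nm P → P = ⊥
  c9 : 9 ∣ Nat.card G
  n27 : ¬ 27 ∣ Nat.card G
  c16 : 16 ∣ Nat.card G

/-- `Q` is the largest normal `2`-subgroup of the centraliser of `s`. -/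
structure QS (u s c z : G) (Q : Subgroup G) : Prop where
  hy : Hy u s c z
  pg : IsPGroup 2 Q
  sQ : s ∈ Q
  le : Q ≤ C1 s
  nQ : C1 s ≤ Nm Q
  zQ : z ∉ Q
  b0 : ∀ g ∈ C1 s, g ∉ Q → g * g ∈ zpowers s →
    ∃ h ∈ C1 s, h * g * h⁻¹ = z ∨ h * g * h⁻¹ = z * s

/-- The soluble case. -/
structure CS (u s c z : G) (Q T : Subgroup G) : Prop extends QS u s c z Q where
  syl : IsSylowIn 2 T (C1 s)
  i2 : I2 Q T
  zT : z ∈ T
  dec : ∀ h ∈ C1 s, ∃ q ∈ Q, ∃ o : G, (∀ a ∈ Q, o * a = a * o) ∧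
    ∃ i : ℕ, h = q * o * u ^ i ∨ h = q * o * u ^ i * z

theorem CS.d2 {u s c z : G} {Q T : Subgroup G} (h : CS u s c z Q T) : D2 s u z Q T :=
  ⟨h.hy.w6, h.syl, h.i2, h.sQ, h.zT, h.zQ, h.hy.zu, h.nQ⟩

/-- The case `C(s) / Q ≅ A₅`. -/
structure CA (u s c z y : G) (Q T : Subgroup G) : Prop extends QS u s c z Q where
  syl : IsSylowIn 2 T (C1 s)
  QT : Q ≤ T
  zT : z ∈ T
  y3 : y ^ 3 = 1
  y1 : y ≠ 1
  ys : y * s = s * y
  yT : y ∈ Nm T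
  card : Nat.card T = 4 * Nat.card Q
  dec : ∀ a ∈ T, a ∈ Q ∨ a * z ∈ Q ∨ a * (y * z * y⁻¹) ∈ Q ∨ a * (y⁻¹ * z * y) ∈ Q
  sq : ∀ a ∈ Q, a * a ∈ zpowers s
  ab : ∀ a ∈ Q, ∀ b ∈ Q, a * b * a⁻¹ * b⁻¹ ∈ zpowers s
  cz : ∀ g ∈ C1 s, g * z * g⁻¹ * z⁻¹ ∈ Q → g ∈ T
  simp : ∀ N : Subgroup G, Q ≤ N → N ≤ C1 s → C1 s ≤ Nm N → N = Q ∨ N = C1 s
  five : ∃ w ∈ C1 s, w ^ 5 = 1 ∧ w ≠ 1
  ne : ¬ Q ≤ zpowers s

/-- `X` is the set of central involutions of `Q` of norm one commuting with `z`. -/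
def IsX (u z : G) (Q X : Subgroup G) : Prop :=
  ∀ x, x ∈ X ↔ x ∈ om Q ∧ x * z = z * x ∧ nrm u x = 1

/-- Soluble case, `Ω₁ Z(Q)` not cyclic, `X ≤ Q ^ c` and `Q` attached to every element of `s X`. -/
structure C2c (u s c z : G) (Q T X : Subgroup G) : Prop extends CS u s c z Q T where
  isX : IsX u z Q X
  ne : X ≠ ⊥
  xc : X ≤ cj c Q
  sx : ∀ x ∈ X, ∃ g ∈ Nm Q, g * s * g⁻¹ = s * x

/-- The conjugate `y ^ v`. -/
def ff (u c y : G) : G := c * u * c⁻¹ * y * (c * u * c⁻¹)⁻¹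

/-- The commutator of `x ^ u` and `y ^ v`. -/
def kap (u c x y : G) : G := u * x * u⁻¹ * ff u c y * (u * x * u⁻¹)⁻¹ * (ff u c y)⁻¹

/-- The configuration killed in the files `AB*`. -/
structure AB (u s c z : G) (Q X : Subgroup G) : Prop extends QS u s c z Q where
  zD : ¬ St s z
  isX : IsX u z Q X
  ne : X ≠ ⊥
  cX : c ∈ Nm X
  vQ : ∀ x ∈ X, ff u c x ∈ Nm Q
  nX : ∀ x ∈ X, ¬ St s x
  hY : ∀ a ∈ Q, a * z = z * a → a ∈ cj c Q ∨ a * s ∈ cj c Q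
  hK : ∀ g ∈ C1 s, ∀ n : ℕ, g ^ 2 ^ n = 1 → (∀ f ∈ om Q, g * f = f * g) → g ∈ Q

/-- The case where the three involutions `s`, `z s`, `z` are permuted by a `3`-element `w`. -/
structure CF (u s c z w h : G) (Q T X : Subgroup G) : Prop extends C2c u s c z Q T X where
  nX : ∀ x ∈ X, ¬ St s x
  hQ : h ∈ Q
  hz : h * z * h⁻¹ = z * s
  w3 : w ^ 3 = 1
  ws : w * s * w⁻¹ = z * s
  wz : w * z * w⁻¹ = s
  x1 : cj w X ≤ Q
  x2 : cj w⁻¹ X ≤ Q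
  hx : ∀ x ∈ X, h * (w⁻¹ * x * w) * h⁻¹ ∈ cj w X

/-- Facts on `E = C(s) ⊓ C(z)` in the case `A₅`. -/
structure CE (u s c z y : G) (Q T : Subgroup G) : Prop extends CA u s c z y Q T where
  zD : ¬ St s z
  el : ∀ a ∈ C1 s ⊓ C1 z, a * a = 1
  eT : C1 s ⊓ C1 z ≤ T
  nE : T ≤ Nm (C1 s ⊓ C1 z)
  yE : y ∈ Nm (C1 s ⊓ C1 z)
  cE : c ∈ Nm (C1 s ⊓ C1 z)
  sup : Q ⊔ (C1 s ⊓ C1 z) = T
  cw : ∀ w ∈ C1 s ⊓ C1 z, w ∉ Q → C1 s ⊓ C1 w = C1 s ⊓ C1 z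
  cE4 : Nat.card ↥(C1 s ⊓ C1 z) = 4 * Nat.card ↥(Q ⊓ C1 z)
  cQ : 2 * Nat.card Q = Nat.card ↥(Q ⊓ C1 z) * Nat.card ↥(Q ⊓ C1 z)
  y8 : 8 ≤ Nat.card ↥(Q ⊓ C1 z)
  half : ∀ w ∈ C1 s ⊓ C1 z, w ∉ Q → (St s w ↔ ¬ St s (w * s))

end Cfsg.Lib.N9M
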