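import Cfsg.Agent.N9M.Kit

/-! Two elements acting on a four-group through an invariant elementary abelian group. -/

set_option autoImplicit false

namespace Cfsg.Lib.N9M

open Subgroup Cfsg.Lib.Trans Cfsg.Lib.SC6
open Cfsg.Lib.Odd3 (conj_mem_of_norm conj_mem_of_norm' mem_norm_of_conj)
open Cfsg.Lib.L3 (sq_cases cube_cases SZ)

variable {G : Type*} [Group G] [Finite G] {u s c z y w h : G} {Q T X : Subgroup G}

omit [Finite G] in
theorem Eq2.cube {g p : G} (e : g * s * g⁻¹ = s * p) (c1 : g * p = p * g) (p2 : p * p = 1)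
    (g3 : g ^ 3 = 1) : p = 1 := by
  have c2 := conj_eq_of_comm c1
  have e2 : g * (g * s * g⁻¹) * g⁻¹ = s := by
    calc _ = g * (s * p) * g⁻¹ := by rw [e]
      _ = g * s * g⁻¹ * (g * p * g⁻¹) := by group
      _ = s := by rw [e, c2, mul_assoc, p2, mul_one]
  refine mul_left_cancel (a := s) ?_
  calc s * p = g * (g * (g * s * g⁻¹) * g⁻¹) * g⁻¹ := by rw [e2, e]
    _ = g ^ 3 * s * (g ^ 3)⁻¹ := by rw [pow_three']; group
    _ = s * 1 := by rw [g3]; group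

theorem Eq2.fixed (H : Hy u s c z) {Y : Subgroup G} {a p : G} (w3 : w ^ 3 = 1)
    (ws : w * s * w⁻¹ = z * s) (wz : w * z * w⁻¹ = s) (wY : w ∈ Nm Y)
    (y2 : ∀ r ∈ Y, r * r = 1) (ys : Y ≤ C1 s) (yz : Y ≤ C1 z)
    (ha : ∀ r ∈ Y, a * r = r * a) (hp : p ∈ Y) (np : nrm w p = 1)
    (a1 : a * s * a⁻¹ = s * p) (a2 : a * z * a⁻¹ = z * (w⁻¹ * p * w)) :
    ∃ g, (∀ r ∈ Y, g * r = r * g) ∧ g * s * g⁻¹ = s * p ∧ g * w = w * g := by
  have s2 := H.w6.t2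
  have zs := H.zs
  have p1 := conj_mem_of_norm wY hp
  have p2 := conj_mem_of_norm' wY hp
  have e1 : p * (w * p * w⁻¹) = w⁻¹ * p * w :=
    (eq_inv_of_mul_eq_one_left np).trans (inv_eq_of_mul_eq_one_right (y2 _ p2))
  have e2 : z = w * (z * s) * w⁻¹ := by
    calc z = s * (s * z) := by rw [← mul_assoc, s2, one_mul]
      _ = w * z * w⁻¹ * (w * s * w⁻¹) := by rw [wz, ws, zs]
      _ = _ := by group
  let S : Set G := {g | (∀ r ∈ Y, g * r = r * g) ∧ g * s * g⁻¹ = s * p ∧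
    g * z * g⁻¹ = z * (w⁻¹ * p * w)}
  have h1 := fix_set (n := 1) (by rw [pow_one, w3]) S fun g hg => by
    refine ⟨fun r hr => ?_, ?_, ?_⟩
    · simpa [mul_assoc] using conj_comm (g := w) (hg.1 _ (conj_mem_of_norm' wY hr))
    · calc _ = w * g * w⁻¹ * (w * z * w⁻¹) * (w * g * w⁻¹)⁻¹ := by rw [wz]
        _ = w * (g * z * g⁻¹) * w⁻¹ := by group
        _ = w * z * w⁻¹ * p := by rw [hg.2.2]; group
        _ = _ := by rw [wz]
    · calc _ = w * g * w⁻¹ * (w * (z * s) * w⁻¹) * (w * g * w⁻¹)⁻¹ := by rw [← e2]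
        _ = w * (g * z * g⁻¹) * (g * s * g⁻¹) * w⁻¹ := by group
        _ = w * z * w⁻¹ * p * (w * s * w⁻¹) * (w * p * w⁻¹) := by rw [hg.2.2, hg.2.1]; group
        _ = s * (p * z) * s * (w * p * w⁻¹) := by rw [wz, ws]; group
        _ = s * z * (p * s) * (w * p * w⁻¹) := by rw [mem_C1.1 (yz hp)]; group
        _ = z * (s * s) * (p * (w * p * w⁻¹)) := by rw [mem_C1.1 (ys hp), ← zs]; group
        _ = _ := by rw [s2, e1, mul_one]
  have h2 : Nat.card S = Nat.card ↥(centralizer (Y : Set G) ⊓ C1 s ⊓ C1 z) := by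
    refine Nat.card_congr ((Equiv.mulLeft a⁻¹).subtypeEquiv fun g => ?_)
    have k : ∀ t v : G, a * t * a⁻¹ = v → (g * t * g⁻¹ = v ↔ a⁻¹ * g ∈ C1 t) := fun t v e => by
      rw [mem_C1, ← e]
      constructor
      · intro k
        calc a⁻¹ * g * t = a⁻¹ * (g * t * g⁻¹) * g := by group
          _ = _ := by rw [k]; group
      · intro k
        calc g * t * g⁻¹ = a * (a⁻¹ * g * t) * g⁻¹ := by group
          _ = _ := by rw [k]; group
    refine ⟨fun hg => ⟨⟨fun r hr => ?_, (k _ _ a1).1 hg.2.1⟩, (k _ _ a2).1 hg.2.2⟩,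
      fun hg => ⟨fun r hr => ?_, (k _ _ a1).2 hg.1.2, (k _ _ a2).2 hg.2⟩⟩
    · exact (mem_C1.1 ((k r r (conj_eq_of_comm (ha r hr))).1 (conj_eq_of_comm (hg.1 r hr)))).symm
    · exact mul_inv_eq_iff_eq_mul.1
        ((k r r (conj_eq_of_comm (ha r hr))).2 (mem_C1.2 (hg.1.1 r hr).symm))
  by_contra hc
  have : IsEmpty {x : S // w * x = x * w} := ⟨fun x => hc ⟨x.1, x.1.2.1, x.1.2.2.1, x.2.symm⟩⟩
  rw [h2, Nat.card_of_isEmpty (α := {x : S // w * x = x * w})] at h1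
  exact H.not3 s2 H.z2 H.w6.t1 H.z1 (fun e => H.zns (e ▸ mem_zpowers s)) zs.symm
    (inf_le_left.trans inf_le_right) inf_le_right ((Nat.modEq_zero_iff_dvd).1 h1)

theorem eq2 (H : Hy u s c z) {Y : Subgroup G} {a b p q : G} (w3 : w ^ 3 = 1)
    (ws : w * s * w⁻¹ = z * s) (wz : w * z * w⁻¹ = s) (wY : w ∈ Nm Y)
    (y2 : ∀ r ∈ Y, r * r = 1) (ys : Y ≤ C1 s) (yz : Y ≤ C1 z)
    (ha : ∀ r ∈ Y, a * r = r * a) (hb : ∀ r ∈ Y, b * r = r * b) (hp : p ∈ Y) (hq : q ∈ Y)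
    (np : nrm w p = 1) (nq : nrm w q = 1)
    (a1 : a * s * a⁻¹ = s * p) (a2 : a * z * a⁻¹ = z * (w⁻¹ * p * w))
    (b1 : b * s * b⁻¹ = s * q) (b2 : b * z * b⁻¹ = z * (w⁻¹ * q * w))
    (p1 : p ≠ 1) (q1 : q ≠ 1) (pq : p ≠ q) : False := by
  obtain ⟨a, ha, a1, a3⟩ := Eq2.fixed H w3 ws wz wY y2 ys yz ha hp np a1 a2
  obtain ⟨b, hb, b1, b3⟩ := Eq2.fixed H w3 ws wz wY y2 ys yz hb hq nq b1 b2
  obtain ⟨g, rfl⟩ := H.conj3 w w3 fun e => H.z1 (by simpa [e] using ws)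
  rcases (H.cj g).cu2 a b a3 b3 with e | e | e
  · exact p1 (Eq2.cube a1 (ha p hp) (y2 p hp) e)
  · exact q1 (Eq2.cube b1 (hb q hq) (y2 q hq) e)
  · have m := mul_mem hp hq
    refine pq ((eq_inv_of_mul_eq_one_left (Eq2.cube (s := s) ?_ ?_ (y2 _ m) e)).trans
      (inv_eq_of_mul_eq_one_right (y2 q hq)))
    · calc _ = a * (b * s * b⁻¹) * a⁻¹ := by group
        _ = a * s * a⁻¹ * (a * q * a⁻¹) := by rw [b1]; group
        _ = _ := by rw [a1, conj_eq_of_comm (ha q hq), mul_assoc]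
    · rw [mul_assoc, hb _ m, ← mul_assoc, ha _ m, mul_assoc]

end Cfsg.Lib.N9M
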