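import Cfsg.Agent.N9M.Kit
import Cfsg.Agent.N9M.Eq2

/-! The case of a `3`-element permuting the involutions of `⟨s, z⟩`: `X` has order two. -/

set_option autoImplicit false

namespace Cfsg.Lib.N9M

open Subgroup Cfsg.Lib.Trans Cfsg.Lib.SC6
open Cfsg.Lib.Odd3 (conj_mem_of_norm conj_mem_of_norm' mem_norm_of_conj)
open Cfsg.Lib.L3 (sq_cases cube_cases SZ)

variable {G : Type*} [Group G] [Finite G] {u s c z y w h : G} {Q T X : Subgroup G}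

namespace F1a

omit [Finite G] in
theorem comm {Y : Subgroup G} (y2 : ∀ r ∈ Y, r * r = 1) {a b : G} (ha : a ∈ Y) (hb : b ∈ Y) :
    a * b = b * a := by
  rw [← inv_eq_of_mul_eq_one_right (y2 _ (mul_mem ha hb)), mul_inv_rev,
    inv_eq_of_mul_eq_one_right (y2 a ha), inv_eq_of_mul_eq_one_right (y2 b hb)]

omit [Finite G] in
theorem ww (w3 : w ^ 3 = 1) (a : G) :
    w * (w * a * w⁻¹) * w⁻¹ = w⁻¹ * a * w ∧ w⁻¹ * (w⁻¹ * a * w) * w = w * a * w⁻¹ := by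
  constructor
  · calc _ = w⁻¹ * (w ^ 3 * a * (w ^ 3)⁻¹) * w := by rw [pow_three']; group
      _ = _ := by rw [w3]; group
  · calc _ = w * ((w ^ 3)⁻¹ * a * w ^ 3) * w⁻¹ := by rw [pow_three']; group
      _ = _ := by rw [w3]; group

omit [Finite G] in
theorem cen {Y : Subgroup G} {b g : G} (gY : g ∈ Nm Y) (hb : ∀ r ∈ Y, b * r = r * b) :
    ∀ r ∈ Y, g * b * g⁻¹ * r = r * (g * b * g⁻¹) := fun r hr => by
  calc _ = g * (b * (g⁻¹ * r * g)) * g⁻¹ := by group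
    _ = _ := by rw [hb _ (conj_mem_of_norm' gY hr)]; group

omit [Finite G] in
theorem mka {Y : Subgroup G} {b r : G} (w3 : w ^ 3 = 1) (ws : w * s * w⁻¹ = z * s)
    (wz : w * z * w⁻¹ = s) (wzs : w * (z * s) * w⁻¹ = z) (wY : w ∈ Nm Y)
    (y2 : ∀ r ∈ Y, r * r = 1) (ys : Y ≤ C1 s) (hb : ∀ r ∈ Y, b * r = r * b) (hr : r ∈ Y)
    (b1 : b * s * b⁻¹ = s) (b2 : b * z * b⁻¹ = z * r) :
    ∃ a, (∀ r ∈ Y, a * r = r * a) ∧ nrm w (w * r * w⁻¹ * (w⁻¹ * r * w)) = 1 ∧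
      a * s * a⁻¹ = s * (w * r * w⁻¹ * (w⁻¹ * r * w)) ∧
      a * z * a⁻¹ = z * (w⁻¹ * (w * r * w⁻¹ * (w⁻¹ * r * w)) * w) := by
  have r1 := conj_mem_of_norm wY hr
  have r2 := conj_mem_of_norm' wY hr
  have c1 := cen wY hb
  have c2 := cen (inv_mem wY) hb
  have bzs : b * (z * s) * b⁻¹ = z * s * r := by
    rw [← conj_mul, b1, b2, mul_assoc, mem_C1.1 (ys hr), mul_assoc]
  have e1 : w * b * w⁻¹ * s * (w * b * w⁻¹)⁻¹ = s * (w * r * w⁻¹) := by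
    calc _ = w * (b * z * b⁻¹) * w⁻¹ := by rw [← wz]; group
      _ = _ := by rw [b2, ← conj_mul, wz]
  have e2 : w * b * w⁻¹ * z * (w * b * w⁻¹)⁻¹ = z * (w * r * w⁻¹) := by
    calc _ = w * b * w⁻¹ * (w * (z * s) * w⁻¹) * (w * b * w⁻¹)⁻¹ := by rw [wzs]
      _ = w * (b * (z * s) * b⁻¹) * w⁻¹ := by group
      _ = _ := by rw [bzs, ← conj_mul, wzs]
  have e3 : w⁻¹ * b * w⁻¹⁻¹ * z * (w⁻¹ * b * w⁻¹⁻¹)⁻¹ = z := by
    calc _ = w⁻¹ * (b * (w * z * w⁻¹) * b⁻¹) * w := by group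
      _ = _ := by rw [wz, b1, ← wz]; group
  have e4 : w⁻¹ * b * w⁻¹⁻¹ * s * (w⁻¹ * b * w⁻¹⁻¹)⁻¹ = s * (w⁻¹ * r * w) := by
    calc _ = w⁻¹ * (b * (w * s * w⁻¹) * b⁻¹) * w := by group
      _ = _ := by rw [ws, bzs, ← ws]; group
  have e5 : w⁻¹ * (w * r * w⁻¹ * (w⁻¹ * r * w)) * w = r * (w * r * w⁻¹) := by
    calc _ = r * (w⁻¹ * (w⁻¹ * r * w) * w) := by group
      _ = _ := by rw [(ww w3 r).2]
  have e6 : w * (w * r * w⁻¹ * (w⁻¹ * r * w)) * w⁻¹ = w⁻¹ * r * w * r := by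
    rw [← conj_mul, (ww w3 r).1]; group
  refine ⟨b * (w * b * w⁻¹) * (w⁻¹ * b * w⁻¹⁻¹), fun x hx => ?_, ?_, ?_, ?_⟩
  · exact ((show Commute b x from hb x hx).mul_left (c1 x hx)).mul_left (c2 x hx)
  · rw [nrm, e5, e6]
    generalize w * r * w⁻¹ = p at r1 ⊢
    generalize w⁻¹ * r * w = q at r2 ⊢
    calc _ = p * ((q * q) * (r * r)) * p := by group
      _ = 1 := by rw [y2 q r2, y2 r hr, mul_one, mul_one, y2 p r1]
  · generalize w * b * w⁻¹ = b' at *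
    generalize w⁻¹ * b * w⁻¹⁻¹ = b'' at *
    calc _ = b * (b' * (b'' * s * b''⁻¹) * b'⁻¹) * b⁻¹ := by group
      _ = _ := by
        rw [e4, ← conj_mul (b := b'), e1, conj_eq_of_comm (c1 _ r2), mul_assoc s, ← conj_mul, b1,
          conj_eq_of_comm (hb _ (mul_mem r1 r2))]
  · generalize w * b * w⁻¹ = b' at *
    generalize w⁻¹ * b * w⁻¹⁻¹ = b'' at *
    calc _ = b * (b' * (b'' * z * b''⁻¹) * b'⁻¹) * b⁻¹ := by group
      _ = _ := by rw [e3, e2, ← conj_mul, b2, conj_eq_of_comm (hb _ r1), e5, mul_assoc]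

omit [Finite G] in
theorem nc {x : G} (x2 : x * x = 1) (n : nrm u x = 1) :
    u * x * u⁻¹ * x = x * (u * x * u⁻¹) := by
  have e : x * (u * x * u⁻¹) = u⁻¹ * x * u := by
    rw [eq_inv_of_mul_eq_one_left n]
    exact inv_eq_of_mul_eq_one_right (by simpa using conj_sq (g := u⁻¹) x2)
  have e2 : x * (u * x * u⁻¹) * (x * (u * x * u⁻¹)) = 1 := by
    rw [e]; simpa using conj_sq (g := u⁻¹) x2
  rw [← inv_eq_of_mul_eq_one_right e2, mul_inv_rev, inv_eq_of_mul_eq_one_right x2,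
    inv_eq_of_mul_eq_one_right (conj_sq x2)]

end F1a

open F1a in
theorem CF.f1a (H : CF u s c z w h Q T X) {x : G} (hx : x ∈ X) (x1 : x ≠ 1) :
    X ≤ zpowers x ∧ nrm w x ≠ 1 := by
  have K := H.toC2c.toCS.toQS
  have hy := K.hy
  have s2 := hy.w6.t2
  have w3 := H.w3
  have uQ : u ∈ Nm Q := K.nQ (mem_C1.2 hy.w6.yt)
  have wzs : w * (z * s) * w⁻¹ = z := by
    rw [← conj_mul, H.wz, H.ws, hy.zs, ← mul_assoc, s2, one_mul]
  have w1 : w ≠ 1 := fun e => hy.z1 (by simpa [e] using H.ws)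
  have o3 : 3 ∣ orderOf w := by
    have := Fact.mk Nat.prime_three
    rw [orderOf_eq_prime w3 w1]
  have xo : ∀ {a}, a ∈ X → a ∈ om Q := fun ha => ((H.isX _).1 ha).1
  have xz : ∀ {a}, a ∈ X → a * z = z * a := fun ha => ((H.isX _).1 ha).2.1
  have xn : ∀ {a}, a ∈ X → nrm u a = 1 := fun ha => ((H.isX _).1 ha).2.2
  have XQ : X ≤ Q := fun a ha => (xo ha).1
  have e1 : cj w (cj w X) = cj w⁻¹ X := by
    rw [cj_cj, eq_inv_of_mul_eq_one_left (a := w * w) (b := w) (by rw [← pow_three', w3])]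
  have e2 : cj w (cj w⁻¹ X) = X := by rw [cj_cj, mul_inv_cancel, cj_one]
  obtain ⟨Y, hY⟩ : ∃ Y, Y = X ⊔ cj w X ⊔ cj w⁻¹ X := ⟨_, rfl⟩
  have XY : X ≤ Y := hY ▸ le_sup_left.trans le_sup_left
  have YQ : Y ≤ Q := hY ▸ sup_le (sup_le XQ H.x1) H.x2
  have wY : w ∈ Nm Y := mem_normalizer_of_cj_le (by
    rw [hY, cj_sup, cj_sup, e1, e2]
    exact sup_le (sup_le (le_sup_right.trans le_sup_left) le_sup_right)
      (le_sup_left.trans le_sup_left))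
  have gen : ∀ {L : Subgroup G}, X ≤ L → (∀ a ∈ X, w * a * w⁻¹ ∈ L) → (∀ a ∈ X, w⁻¹ * a * w ∈ L) →
      Y ≤ L := fun h1 h2 h3 => hY ▸ sup_le (sup_le h1 (cj_le_iff.2 h2))
        (cj_le_iff.2 fun a ha => by simpa using h3 a ha)
  have xY : ∀ {a}, a ∈ X → a ∈ om Y := fun ha => ⟨XY ha, (xo ha).2.1, fun b hb => (xo ha).2.2 b (YQ hb)⟩
  have y2 : ∀ r ∈ Y, r * r = 1 := fun r hr => (gen (L := om Y) (fun a ha => xY ha)
    (fun a ha => conj_mem_om wY (xY ha))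
    (fun a ha => by simpa using conj_mem_om (inv_mem wY) (xY ha)) hr).2.1
  have ys : Y ≤ C1 s := YQ.trans K.le
  have yz : Y ≤ C1 z := gen (fun a ha => mem_C1.2 (xz ha))
    (fun a ha => mem_C1.2 (by
      have := conj_comm (g := w) ((Commute.mul_right (xz ha) (mem_C1.1 (ys (XY ha)))).eq)
      rwa [wzs] at this))
    fun a ha => mem_C1.2 (by
      have := conj_comm (g := w⁻¹) (mem_C1.1 (ys (XY ha)))
      rw [← H.wz] at this
      simpa [mul_assoc] using this)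
  have nf : ∀ {a}, a ∈ X → a ≠ 1 → w * a * w⁻¹ ≠ a := fun ha a1 e =>
    H.nX _ ha (hy.st3 (xo ha).2.1 a1 o3 (mul_inv_eq_iff_eq_mul.1 e))
  have np : ∀ {a}, a ∈ X → a ≠ 1 → w * a * w⁻¹ ≠ w⁻¹ * a * w := fun {a} ha a1 e => nf ha a1 (by
    have := (ww w3 a).1
    rw [← e] at this
    exact (MulAut.conj w).injective this)
  have bx : ∀ {a}, a ∈ X → ∃ g, (∀ r ∈ Y, g * r = r * g) ∧
      nrm w (w * a * w⁻¹ * (w⁻¹ * a * w)) = 1 ∧ g * s * g⁻¹ = s * (w * a * w⁻¹ * (w⁻¹ * a * w)) ∧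
      g * z * g⁻¹ = z * (w⁻¹ * (w * a * w⁻¹ * (w⁻¹ * a * w)) * w) := fun {a} ha => by
    have k := conj_mem_om uQ (xo ha)
    exact mka w3 H.ws H.wz wzs wY y2 ys (fun r hr => (k.2.2 r (YQ hr)).symm) (XY ha)
      (conj_eq_of_comm (k.2.2 s K.sQ).symm) (K.tau0 (XQ ha) (xo ha).2.1 (xz ha) (xn ha))
  have m1 : ∀ {a}, a ∈ Y → w * a * w⁻¹ ∈ Y := fun ha => conj_mem_of_norm wY ha
  have m2 : ∀ {a}, a ∈ Y → w⁻¹ * a * w ∈ Y := fun ha => conj_mem_of_norm' wY ha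
  have iv : ∀ {a}, a ∈ Y → a⁻¹ = a := fun ha => inv_eq_of_mul_eq_one_right (y2 _ ha)
  have p1 : ∀ {a}, a ∈ X → a ≠ 1 → w * a * w⁻¹ * (w⁻¹ * a * w) ≠ 1 := fun ha a1 e =>
    np ha a1 ((eq_inv_of_mul_eq_one_left e).trans (iv (m2 (XY ha))))
  obtain ⟨g, g1, g2, g3, g4⟩ := bx hx
  have hX : X ≤ zpowers x := fun a ha => by
    by_contra na
    have a1 : a ≠ 1 := fun e => na (e ▸ one_mem _)
    have ax : x⁻¹ * a ≠ 1 := fun e => na (inv_mul_eq_one.1 e ▸ mem_zpowers x)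
    obtain ⟨k, k1, k2, k3, k4⟩ := bx ha
    refine eq2 hy w3 H.ws H.wz wY y2 ys yz g1 k1 (mul_mem (m1 (XY hx)) (m2 (XY hx)))
      (mul_mem (m1 (XY ha)) (m2 (XY ha))) g2 k2 g3 g4 k3 k4 (p1 hx x1) (p1 ha a1) fun e => ?_
    refine np (mul_mem (inv_mem hx) ha) ax ?_
    calc _ = (w * x * w⁻¹)⁻¹ * (w * a * w⁻¹ * (w⁻¹ * a * w)) * (w⁻¹ * a * w)⁻¹ := by group
      _ = w⁻¹ * x * w * (w⁻¹ * a * w)⁻¹ := by rw [← e]; group
      _ = _ := by rw [iv (m2 (XY ha)), iv (XY hx)]; group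
  refine ⟨hX, fun n => ?_⟩
  have n' : w * x * w⁻¹ * (w⁻¹ * x * w) = x := by
    rw [nrm, mul_assoc] at n
    rw [eq_inv_of_mul_eq_one_right n, iv (XY hx)]
  have x' := m1 (XY hx)
  have x'' := m2 (XY hx)
  have cY : ∀ {b}, b ∈ Q → b * (w * x * w⁻¹) = w * x * w⁻¹ * b → ∀ r ∈ Y, b * r = r * b :=
    fun {b} hb e r hr => by
      have c0 : x ∈ C1 b := mem_C1.2 ((xo hx).2.2 b hb).symm
      have c1 : w * x * w⁻¹ ∈ C1 b := mem_C1.2 e.symm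
      have c2 : w⁻¹ * x * w ∈ C1 b := (mul_mem_cancel_left c1).1 (n'.symm ▸ c0)
      refine (mem_C1.1 (gen (L := C1 b) (hX.trans (zpowers_le.2 c0)) (fun a ha => ?_)
        (fun a ha => ?_) hr)).symm
      · rcases sq_cases (xo hx).2.1 (hX ha) with rfl | rfl
        exacts [by simp, c1]
      · rcases sq_cases (xo hx).2.1 (hX ha) with rfl | rfl
        exacts [by simp, c2]
  rcases K.nrm_cases (YQ x') with t | t
  · have bQ := conj_mem_of_norm uQ (YQ x')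
    obtain ⟨k, k1, k2, k3, k4⟩ := mka w3 H.ws H.wz wzs wY y2 ys
      (cY bQ (nc (y2 _ x') t)) x' (conj_eq_of_comm (mem_C1.1 (K.le bQ)))
      (K.tau0 (YQ x') (y2 _ x') (mem_C1.1 (yz x')) t)
    have e : w * (w * x * w⁻¹) * w⁻¹ * (w⁻¹ * (w * x * w⁻¹) * w) = w * x * w⁻¹ := by
      rw [(ww w3 x).1, show w⁻¹ * (w * x * w⁻¹) * w = x by group, comm y2 x'' (XY hx)]
      nth_rewrite 1 [← n']
      rw [mul_assoc, y2 _ x'', mul_one]
    rw [e] at k2 k3 k4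
    rw [n'] at g2 g3 g4
    exact eq2 hy w3 H.ws H.wz wY y2 ys yz g1 k1 (XY hx) x' g2 k2 g3 g4 k3 k4 x1 (conj_ne_one x1)
      (nf hx x1).symm
  · have aQ := mul_mem (YQ x') K.sQ
    have cs := mem_C1.1 (ys x')
    have cz := mem_C1.1 (yz x')
    have a2 : w * x * w⁻¹ * s * (w * x * w⁻¹ * s) = 1 := by
      rw [mul_assoc, ← mul_assoc s, ← cs, mul_assoc _ s, s2, mul_one, y2 _ x']
    have an : nrm u (w * x * w⁻¹ * s) = 1 := by rw [K.nrm_s (YQ x'), t, s2]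
    have az : w * x * w⁻¹ * s * z = z * (w * x * w⁻¹ * s) :=
      Commute.mul_left (a := w * x * w⁻¹) cz hy.zs.symm
    have qz := K.tau0 aQ a2 az an
    have qa := nc a2 an
    have qQ := conj_mem_of_norm uQ aQ
    generalize u * (w * x * w⁻¹ * s) * u⁻¹ = q at qz qa qQ
    have qs := mem_C1.1 (K.le qQ)
    have qY := cY qQ (by
      have := (Commute.mul_right (a := q) qa (Commute.inv_right (a := q) qs)).eq
      rwa [mul_inv_cancel_right] at this)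
    have rY := cen wY qY
    have nm : ∀ {b}, (∀ r ∈ Y, b * r = r * b) → b ∈ Nm Y := fun e =>
      mem_normalizer_of_cj_le (cj_le_iff.2 fun r hr => by rwa [conj_eq_of_comm (e r hr)])
    have qz' : q * z * q⁻¹ = z * s * (w * x * w⁻¹) := by rw [qz, cs, mul_assoc z]
    have qzs : q * (z * s) * q⁻¹ = z * (w * x * w⁻¹) := by
      rw [← conj_mul, qz, conj_eq_of_comm qs, mul_assoc, mul_assoc _ s, s2, mul_one]
    have f1 : ∀ {b : G}, b ∈ Y → s * b * s⁻¹ ∈ Y := fun hb => by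
      rwa [conj_eq_of_comm (mem_C1.1 (ys hb)).symm]
    have f2 : ∀ {b : G}, b ∈ Y → z * b * z⁻¹ ∈ Y := fun hb => by
      rwa [conj_eq_of_comm (mem_C1.1 (yz hb)).symm]
    refine H.nX x hx (hy.st3 (xo hx).2.1 x1 (tri3 (N := Y) (a := s) (b := z * s) (d := z) (nm qY)
      (nm rY) ?_ ?_ ?_ ?_ ?_ ?_ fun e => K.zQ (YQ (by simpa using e)))
      (Commute.mul_left (qY x (XY hx)) (rY x (XY hx))))
    · rw [conj_eq_of_comm qs, mul_inv_cancel]; exact one_mem _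
    · rw [qz']; simpa [mul_assoc] using f2 (f1 x')
    · rw [qzs]; exact f2 x'
    · rw [← H.ws, conj_eq_of_comm (conj_comm qs), mul_inv_cancel]; exact one_mem _
    · rw [show w * q * w⁻¹ * s * (w * q * w⁻¹)⁻¹ = w * (q * z * q⁻¹) * w⁻¹ by rw [← H.wz]; group,
        qz', ← conj_mul, wzs]
      exact f2 (m1 x')
    · rw [show w * q * w⁻¹ * z * (w * q * w⁻¹)⁻¹ = w * (q * (z * s) * q⁻¹) * w⁻¹ by
        nth_rewrite 1 [← wzs]; group, qzs, ← conj_mul, H.wz]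
      exact f1 (m1 x')

end Cfsg.Lib.N9M
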