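import Cfsg.Agent.N9M.Kit
import Cfsg.Agent.N9M.Gen

/-! The case of a fused four-group: the norm of `x` with respect to `w` is trivial. -/

set_option autoImplicit false

namespace Cfsg.Lib.N9M

open Subgroup Cfsg.Lib.Trans Cfsg.Lib.SC6
open Cfsg.Lib.Odd3 (conj_mem_of_norm conj_mem_of_norm' mem_norm_of_conj)
open Cfsg.Lib.L3 (sq_cases cube_cases SZ)

variable {G : Type*} [Group G] [Finite G] {u s c z y w h : G} {Q T X : Subgroup G}

theorem CF.f1c (H : CF u s c z w h Q T X) {x : G} (hx : x ∈ X) (e : X ≤ zpowers x) :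
    nrm w x = 1 := by
  have Hq := H.toQS
  have Hy := Hq.hy
  have s2 := Hy.w6.t2
  have s1 := Hy.w6.t1
  have zs := Hy.zs
  have cs : ∀ {a}, a ∈ Q → a * s = s * a := fun ha => mem_C1.1 (Hq.le ha)
  obtain ⟨⟨xQ, x2, xc⟩, xz, -⟩ := (H.isX x).1 hx
  have x1 : x ≠ 1 := fun a => H.ne (le_bot_iff.1 (by simpa [a] using e))
  have w1 : w ≠ 1 := fun a => Hy.z1 (by simpa [a] using H.ws.symm)
  have wzs : w * (z * s) * w⁻¹ = z := by
    rw [show w * (z * s) * w⁻¹ = w * z * w⁻¹ * (w * s * w⁻¹) by group, H.wz, H.ws, zs, ← mul_assoc,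
      s2, one_mul]
  have ws' : w⁻¹ * s * w⁻¹⁻¹ = z := by rw [← H.wz]; group
  have pQ : w * x * w⁻¹ ∈ Q := H.x1 (conj_mem_cj.2 hx)
  have qQ : w⁻¹ * x * w ∈ Q := H.x2 (mem_cj_inv.2 (by simpa [mul_assoc] using hx))
  have xp := xc _ pQ
  have xq := xc _ qQ
  have pq : w * x * w⁻¹ * (w⁻¹ * x * w) = w⁻¹ * x * w * (w * x * w⁻¹) := by
    have := conj_comm (g := w) xp
    rw [yy H.w3] at this
    exact this.symm
  have px : w * x * w⁻¹ ≠ x := fun a => H.nX x hx (Hy.st3 x2 x1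
    (three_dvd (H := ⊥) (by rw [H.w3]; exact one_mem _) w1) (mul_inv_eq_iff_eq_mul.1 a))
  have p2 := conj_sq (g := w) x2
  have p1 := conj_ne_one (g := w) x1
  have q2 : w⁻¹ * x * w * (w⁻¹ * x * w) = 1 := by simpa using conj_sq (g := w⁻¹) x2
  have zp : z * (w * x * w⁻¹) = w * x * w⁻¹ * z := by
    have := conj_comm (g := w) (a := z * s) (b := x)
      (by rw [mul_assoc, ← cs xQ, ← mul_assoc, ← xz, mul_assoc])
    rwa [wzs] at this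
  have zq : z * (w⁻¹ * x * w) = w⁻¹ * x * w * z := by
    have := conj_comm (g := w⁻¹) (cs xQ).symm
    rwa [ws', inv_inv] at this
  have hq : h * (w⁻¹ * x * w) * h⁻¹ = w * x * w⁻¹ := by
    rcases sq_cases x2 (e (mem_cj.1 (H.hx x hx))) with a | a
    · refine absurd ?_ x1
      calc x = w * h⁻¹ * w * (w⁻¹ * (h * (w⁻¹ * x * w) * h⁻¹) * w) * (w * h⁻¹ * w)⁻¹ := by group
        _ = 1 := by rw [a]; group
    · calc _ = w * (w⁻¹ * (h * (w⁻¹ * x * w) * h⁻¹) * w) * w⁻¹ := by group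
        _ = _ := by rw [a]
  have wy : w * nrm w x * w⁻¹ = nrm w x := by
    calc _ = w * x * w⁻¹ * (w * (w * x * w⁻¹) * w⁻¹) * x := by unfold nrm; group
      _ = w * x * w⁻¹ * (w⁻¹ * x * w * x) := by rw [yy H.w3, mul_assoc]
      _ = _ := by rw [xq, ← mul_assoc, xp]; rfl
  have pw : x ∈ cj w Q := mem_cj.2 qQ
  have pw' : w * x * w⁻¹ ∈ cj w Q := conj_mem_cj.2 xQ
  have sw : s ∉ cj w Q := fun a => Hq.zQ (by rw [← ws', inv_inv]; exact mem_cj.1 a)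
  have sw' : s ∉ cj w⁻¹ Q := fun a => Hq.zsQ (H.ws ▸ mem_cj_inv.1 a)
  have cp : ∀ a ∈ cj w Q, a * (w * x * w⁻¹) = w * x * w⁻¹ * a := fun a ha => by
    simpa [mul_assoc] using conj_comm (g := w) (xc _ (mem_cj.1 ha))
  have cq : ∀ a ∈ cj w⁻¹ Q, a * (w⁻¹ * x * w) = w⁻¹ * x * w * a := fun a ha => by
    simpa [mul_assoc] using conj_comm (g := w⁻¹) (xc _ (mem_cj_inv.1 ha))
  have ny : nrm w x = x * (w * x * w⁻¹) * (w⁻¹ * x * w) := rfl
  generalize w * x * w⁻¹ = p at *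
  generalize w⁻¹ * x * w = q at *
  generalize nrm w x = y at *
  by_contra y1
  have yQ : y ∈ Q := ny ▸ mul_mem (mul_mem xQ pQ) qQ
  have y2 : y * y = 1 := by
    calc _ = x * (p * (q * x)) * p * q := by rw [ny]; group
      _ = x * x * (p * (q * p) * q) := by rw [xq, ← mul_assoc p, xp]; group
      _ = x * x * (p * p) * (q * q) := by rw [← pq]; group
      _ = 1 := by rw [x2, p2, q2]; group
  obtain ⟨k, ks, ku⟩ := Hy.pair y2 y1 H.w3 w1 (mul_inv_eq_iff_eq_mul.1 wy)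
  have K := H.toCS.cj k
  rw [ks, ku] at K
  generalize cj k Q = R at K
  -- the group `Y`
  set Y1 := Q ⊓ cm (zpowers s) z with hY1
  set Y := Y1 ⊓ C1 z with hY
  have mY : ∀ {a}, a ∈ Q → a * z = z * a → a ∈ Y := fun ha e =>
    ⟨⟨ha, nm_zp (cs ha), comm_mem_of_eq e⟩, mem_C1.2 e⟩
  have YQ : Y ≤ Q := inf_le_left.trans inf_le_left
  have pY : IsPGroup 2 Y := Hq.pg.to_le YQ
  have sY : s ∈ Y := mY Hq.sQ zs.symm
  have i1 : I2 (Y ⊓ cj w Q) Y := (H.toCS.cj w).i2' pY fun a ha => by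
    rw [H.ws, mem_C1, ← mul_assoc, mem_C1.1 ha.2, mul_assoc, cs (YQ ha), mul_assoc]
  have i2 : I2 (Y ⊓ cj w⁻¹ Q) Y := (H.toCS.cj w⁻¹).i2' pY fun a ha => ws' ▸ ha.2
  have Yp : Y ≤ C1 p := i1.le_of sY (fun a => sw a.2) (fun a ha => mem_C1.2 (cp a ha.2))
    (mem_C1.2 (cs pQ).symm)
  have Yq : Y ≤ C1 q := i2.le_of sY (fun a => sw' a.2) (fun a ha => mem_C1.2 (cq a ha.2))
    (mem_C1.2 (cs qQ).symm)
  have cy : ∀ {a}, a * x = x * a → a * p = p * a → a * q = q * a → a ∈ C1 y :=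
    fun {a} h1 h2 h3 => mem_C1.2 (ny ▸ (Commute.mul_right (Commute.mul_right h1 h2) h3 :))
  have hh : h * h ∈ Y := mY (mul_mem H.hQ H.hQ) (mul_inv_eq_iff_eq_mul.1 (by
    calc _ = h * (h * z * h⁻¹) * h⁻¹ := by group
      _ = h * (z * s) * h⁻¹ := by rw [H.hz]
      _ = h * z * h⁻¹ * (h * s * h⁻¹) := by group
      _ = z := by rw [H.hz, conj_eq_of_comm (cs H.hQ), mul_assoc, s2, mul_one]))
  have hp : h * p * h⁻¹ = q := by
    calc _ = h * h * q * (h * h)⁻¹ := by rw [← hq]; group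
      _ = q := conj_eq_of_comm (mem_C1.1 (Yq hh))
  have hy : h ∈ C1 y := mem_C1.2 (mul_inv_eq_iff_eq_mul.1 (by
    calc _ = h * x * h⁻¹ * (h * p * h⁻¹) * (h * q * h⁻¹) := by rw [ny]; group
      _ = _ := by rw [hp, hq, conj_eq_of_comm (xc h H.hQ), mul_assoc, ← pq, ny, mul_assoc]))
  have h1 : h ∈ Y1 := ⟨H.hQ, nm_zp (cs H.hQ), by rw [H.hz, zs]; simp⟩
  have h2 : h ∉ Y := fun a => s1 (by
    have := H.hz
    rw [conj_eq_of_comm (mem_C1.1 a.2)] at this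
    simpa using this.symm)
  have i3 : I2 Y Y1 := i2_cent s2 (fun b hb => cs hb.1) fun b hb => hb.2.2
  have Y1y : Y1 ≤ C1 y := i3.le_of h1 h2
    (fun a ha => cy (xc a (YQ ha)) (mem_C1.1 (Yp ha)) (mem_C1.1 (Yq ha))) hy
  have Qy : Q ≤ Q ⊓ cm (zpowers s) y := Hq.gen inf_le_left
    (mem_norm_of_conj fun a ha => ⟨Hq.loc.fp.conj ha.1, nm_zp (cs (Hq.loc.fp.conj ha.1)),
      Hq.loc.fp.cc yQ ha.1 ha.2.2⟩) fun a ha e =>
    ⟨ha, nm_zp (cs ha), comm_mem_of_eq (mem_C1.1 (Y1y ⟨ha, nm_zp (cs ha), e⟩))⟩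
  have zy : z ∈ C1 y := cy xz.symm zp zq
  have sy : s ∈ C1 y := mem_C1.2 (cs yQ).symm
  have Ty : T ≤ cm (zpowers s) y := H.i2.le_of H.zT Hq.zQ (fun a ha => (Qy ha).2)
    ⟨nm_zp zs, comm_mem_of_eq (mem_C1.1 zy)⟩
  have ct : ∀ {a}, a ∈ T → a * s = s * a := fun ha => mem_C1.1 (H.syl.le ha)
  have j1 : I2 (T ⊓ C1 y) T := i2_cent s2 (fun b hb => ct hb) fun b hb => (Ty hb).2
  have j2 : I2 (T ⊓ C1 y ⊓ R) (T ⊓ C1 y) := K.i2' H.syl.isPGroup.to_inf_left inf_le_right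
  have fp := K.toQS.loc.fp
  have sR : s ∈ R := by
    by_contra a
    have b : z ∉ R := fun b => a (H.wz ▸ fp.conj b)
    exact b (wzs ▸ fp.conj (j2.mul z ⟨H.zT, zy⟩ s ⟨H.i2.le Hq.sQ, sy⟩ (fun e => b e.2)
      fun e => a e.2).2)
  have j3 : I2 (T ⊓ C1 y ⊓ R ⊓ C1 (z * s)) (T ⊓ C1 y ⊓ R) :=
    i2_cent y2 (fun b hb => mem_C1.1 hb.1.2) fun b hb =>
      comm_symm (H.ws ▸ fp.cc hb.2 sR (comm_mem_of_eq (ct hb.1.1).symm))
  have j4 := H.i2.inf (L := T ⊓ C1 y ⊓ R ⊓ C1 (z * s)) fun a ha => ha.1.1.1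
  have j5 : T ⊓ C1 y ⊓ R ⊓ C1 (z * s) ⊓ Q ≤ Y := fun a ha => mY ha.2 (mul_right_cancel (b := s) (by
    rw [mul_assoc, mem_C1.1 ha.1.2, mul_assoc, mul_assoc, cs ha.2]))
  have c0 := H.i2.card H.zT Hq.zQ
  have c1 := j1.card_le
  have c2 := j2.card_le
  have c3 := j3.card_le
  have c4 := j4.card_le
  have c5 := Subgroup.card_le_of_le j5
  have c6 := i3.card h1 h2
  have c7 := Hq.cardY1
  have c8 := i1.card sY fun a => sw a.2
  rw [← hY1, c6] at c7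
  have c9 : Nat.card ↥(Y ⊓ cj w Q) ≤ 2 := by nlinarith
  have j6 : I2 ⊥ (Y ⊓ cj w Q) := I2.of_card bot_le (by simpa using c9)
  have := j6.mul p ⟨mY pQ zp.symm, pw'⟩ x ⟨mY xQ xz, pw⟩ p1 x1
  exact px ((eq_inv_of_mul_eq_one_left this).trans (inv_eq_of_mul_eq_one_right x2))

end Cfsg.Lib.N9M
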