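import Cfsg.Agent.N9M.Kit

/-! No element of `X` is conjugate to `s`. -/

set_option autoImplicit false

namespace Cfsg.Lib.N9M

open Subgroup Cfsg.Lib.Trans Cfsg.Lib.SC6
open Cfsg.Lib.Odd3 (conj_mem_of_norm conj_mem_of_norm' mem_norm_of_conj)
open Cfsg.Lib.L3 (sq_cases cube_cases SZ)

variable {G : Type*} [Group G] [Finite G] {u s c z y w h : G} {Q T X : Subgroup G}

namespace Nx

theorem sX (H : Hy u s c z) (hX : IsX u z Q X) : s ∉ X := fun e => by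
  have h1 := ((hX s).1 e).2.2
  have h2 : u⁻¹ * s * u = s := by rw [mul_assoc, ← H.w6.yt, inv_mul_cancel_left]
  rw [nrm, conj_eq_of_comm H.w6.yt, h2, H.w6.t2, one_mul] at h1
  exact H.w6.t1 h1

theorem cT (H : CS u s c z Q T) {f : G} (hf : f ∈ om Q) (fz : f * z = z * f) : T ≤ C1 f :=
  H.i2.le_of H.zT H.zQ (fun a ha => mem_C1.2 (hf.2.2 a ha)) (mem_C1.2 fz.symm)

theorem adj (H : CS u s c z Q T) {g : G} (e : T ≤ C1 (g * s * g⁻¹)) :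
    ∃ k ∈ Nm T, k * s * k⁻¹ = g * s * g⁻¹ := by
  have := Fact.mk Nat.prime_two
  have h1 : IsSylowIn 2 (cj g T) (C1 (g * s * g⁻¹)) := by
    have := H.syl.cj g
    convert this using 1
    ext a
    rw [mem_cj, mem_C1, mem_C1]
    exact ⟨fun a => by simpa [mul_assoc] using conj_comm (g := g⁻¹) a,
      fun a => by simpa [mul_assoc] using conj_comm (g := g) a⟩
  obtain ⟨k, k1, k2⟩ := (h1.of_card_ge H.syl.isPGroup e (card_cj g T).le).exists_cj_eq h1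
  refine ⟨k * g, cj_eq_self_iff.1 (by rw [cj_mul, k2]), ?_⟩
  calc _ = k * (g * s * g⁻¹) * k⁻¹ := by group
    _ = _ := conj_eq_of_comm (mem_C1.1 k1)

theorem uQ (H : QS u s c z Q) : u ∈ Nm Q := H.nQ (mem_C1.2 H.hy.w6.yt)

theorem pres (H : CS u s c z Q T) (hX : IsX u z Q X) {k x : G} (k1 : k ∈ Nm T) (k2 : k ∈ Nm Q)
    (hx : x ∈ X) : k * x * k⁻¹ ∈ X := by
  obtain ⟨x1, x2, x3⟩ := (hX x).1 hx
  have e := H.toQS.tau0 x1.1 x1.2.1 x2 x3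
  have b1 := conj_mem_om k2 (conj_mem_om (uQ H.toQS) x1)
  have y1 := conj_mem_om k2 x1
  have y2 : k * x * k⁻¹ * z = z * (k * x * k⁻¹) := by
    have := conj_comm (g := k) (mem_C1.1 (cT H x1 x2 (conj_mem_of_norm' k1 H.zT)))
    simpa [mul_assoc] using this.symm
  have q1 : z⁻¹ * (k * z * k⁻¹) ∈ Q := H.i2.inv_mul H.zT (conj_mem_of_norm k1 H.zT) H.zQ
    fun f => H.zQ (by simpa [mul_assoc] using conj_mem_of_norm' k2 f)
  have e1 : k * (u * x * u⁻¹) * k⁻¹ * (z * (z⁻¹ * (k * z * k⁻¹))) * (k * (u * x * u⁻¹) * k⁻¹)⁻¹ =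
      z * (z⁻¹ * (k * z * k⁻¹)) * (k * x * k⁻¹) := by
    calc _ = k * (u * x * u⁻¹ * z * (u * x * u⁻¹)⁻¹) * k⁻¹ := by group
      _ = _ := by rw [e]; group
  generalize k * (u * x * u⁻¹) * k⁻¹ = b at b1 e1
  generalize z⁻¹ * (k * z * k⁻¹) = q at q1 e1
  generalize k * x * k⁻¹ = p at y1 y2 e1
  have e2 : b * z * b⁻¹ = z * p := by
    calc _ = b * z * (q * b * q⁻¹)⁻¹ := by rw [conj_eq_of_comm (b1.2.2 q q1)]
      _ = b * (z * q) * b⁻¹ * q⁻¹ := by group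
      _ = z * (q * p * q⁻¹) := by rw [e1]; group
      _ = _ := by rw [conj_eq_of_comm (y1.2.2 q q1)]
  refine (hX p).2 ⟨y1, y2, (H.toQS.nrm_cases y1.1).resolve_right fun n => ?_⟩
  have sp := y1.2.2 s H.sQ
  have s1 : s ∈ om Q := H.toQS.loc.zp_om (mem_zpowers s)
  have p1 := mul_mem y1 s1
  have e3 := H.toQS.tau0 p1.1 p1.2.1 (by
    rw [mul_assoc, ← H.hy.zs, ← mul_assoc, y2, mul_assoc]) (by
    rw [H.toQS.nrm_s y1.1, n, H.hy.w6.t2])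
  have b2 := conj_mem_om (uQ H.toQS) p1
  generalize u * (p * s) * u⁻¹ = a at e3 b2
  refine H.d2.nt (mul_mem b1 b2) H.zT ?_
  have e4 : b * a * z * (b * a)⁻¹ = z * s := by
    calc _ = b * (a * z * a⁻¹) * b⁻¹ := by group
      _ = b * z * b⁻¹ * (b * (p * s) * b⁻¹) := by rw [e3]; group
      _ = z * (p * p) * s := by rw [e2, conj_eq_of_comm (p1.2.2 b b1.1)]; group
      _ = _ := by rw [y1.2.1, mul_one]
  calc _ = z * (b * a * z * (b * a)⁻¹)⁻¹ := by group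
    _ = z * s⁻¹ * z⁻¹ := by rw [e4]; group
    _ = _ := by rw [inv_eq_of_mul_eq_one_right H.hy.w6.t2, conj_eq_of_comm H.hy.zs]

end Nx

theorem CS.cenX (H : CS u s c z Q T) (hX : IsX u z Q X) (ne : X ≠ ⊥) {n f : G} (hn : n ∈ C1 s)
    (e : n * z * n⁻¹ * z⁻¹ ∈ Q) (hf : f ∈ om Q) (fz : f * z = z * f) : n * f = f * n := by
  obtain ⟨⟨x, hx⟩, x1⟩ := ne_bot_iff_exists_ne_one.1 ne
  have x1 : x ≠ 1 := fun e => x1 (Subtype.ext e)
  obtain ⟨x2, x3, -⟩ := (hX x).1 hx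
  obtain ⟨q, q1, o, o1, i, hi⟩ := H.dec n hn
  have r1 : ∀ g ∈ om Q, q * o ∈ C1 g := fun g hg =>
    mul_mem (mem_C1.2 (hg.2.2 q q1)) (mem_C1.2 (o1 g hg.1))
  have zx : z ∈ C1 x := mem_C1.2 x3.symm
  have n1 : n * z * n⁻¹ ∈ C1 x := (mul_mem_cancel_right (inv_mem zx)).1 (mem_C1.2 (x2.2.2 _ e))
  have n2 : u ^ i * z * (u ^ i)⁻¹ ∈ C1 x := by
    have := mul_mem (mul_mem (inv_mem (r1 x x2)) n1) (r1 x x2)
    rcases hi with rfl | rfl <;> convert this using 1 <;> group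
  have n3 : u ^ i * u ^ i ∈ C1 x := by
    have := mul_mem n2 (inv_mem zx)
    convert this using 1
    calc _ = u ^ i * ((z * u * z⁻¹) ^ i)⁻¹ := by rw [H.hy.zu, inv_pow, inv_inv]
      _ = _ := by rw [conj_pow]; group
  have u3 : (u ^ i) ^ 3 = 1 := by rw [← pow_mul, mul_comm, pow_mul, H.hy.w6.y3, one_pow]
  have u1 : u ^ i = 1 := by
    by_contra f
    have n4 : u ^ i ∈ C1 x := by
      have := mul_mem n3 n3
      rwa [show u ^ i * u ^ i * (u ^ i * u ^ i) = (u ^ i) ^ 3 * u ^ i by rw [pow_three']; group,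
        u3, one_mul] at this
    exact Nx.sX H.hy hX (H.hy.w6.two (n := 1) H.pg f (by rw [pow_one, u3]) x2.1 H.sQ (mem_C1.1 n4)
      (Commute.pow_left H.hy.w6.yt i).eq x1 H.hy.w6.t1 ▸ hx)
  rw [u1, mul_one] at hi
  rcases hi with rfl | rfl
  · exact mem_C1.1 (r1 f hf)
  · exact mem_C1.1 (mul_mem (r1 f hf) (mem_C1.2 fz.symm))

theorem C2c.nx (H : C2c u s c z Q T X) : ∀ x ∈ X, ¬ St s x := by
  rintro _ h0 ⟨g, rfl⟩
  have hX := H.isX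
  have C := H.toCS
  have cX : ∀ x ∈ X, T ≤ C1 x := fun x hx => Nx.cT C ((hX x).1 hx).1 ((hX x).1 hx).2.1
  obtain ⟨g0, g1, g2⟩ := Nx.adj C (cX _ h0)
  rw [← g2] at h0
  have key : ∀ x : X, ∃ k ∈ Nm T, k ∈ Nm Q ∧ k * s * k⁻¹ = s * x := fun x => by
    obtain ⟨a, a1, a2⟩ := H.sx x x.2
    obtain ⟨k, k1, k2⟩ := Nx.adj C (g := a) fun t ht => by
      rw [a2]
      exact mem_C1.2 (Commute.mul_right (mem_C1.1 (C.syl.le ht)) (mem_C1.1 (cX x x.2 ht))).eq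
    exact ⟨k, k1, cj_eq_self_iff.1 ((C.toQS.uniq k2).trans (cj_eq_self_iff.2 a1)), k2.trans a2⟩
  choose k k1 k2 k3 using key
  have sT : s ∈ om T := ⟨C.i2.le C.sQ, C.hy.w6.t2, fun a ha => mem_C1.1 (C.syl.le ha)⟩
  have f1 : g0⁻¹ * s * g0⁻¹⁻¹ ∈ om T := conj_mem_om (inv_mem g1) sT
  have f2 : g0⁻¹ * s * g0⁻¹⁻¹ ∈ Q := by
    by_contra f
    obtain ⟨x1, x2, x3⟩ := (hX _).1 h0
    have e := C.toQS.tau0 x1.1 x1.2.1 x2 x3
    have b1 := conj_mem_om (Nx.uQ C.toQS) x1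
    have := C.i2.le_of (L := C1 (u * (g0 * s * g0⁻¹) * u⁻¹)) f1.1 f
      (fun a ha => mem_C1.2 (b1.2.2 a ha)) (mem_C1.2 (f1.2.2 _ (C.i2.le b1.1)).symm) C.zT
    rw [conj_eq_of_comm (mem_C1.1 this).symm] at e
    exact conj_ne_one C.hy.w6.t1 (left_eq_mul.1 e)
  have inj : Function.Injective fun x : X =>
      (⟨k x * (g0 * s * g0⁻¹) * (k x)⁻¹, Nx.pres C hX (k1 x) (k2 x) h0⟩ : X) := fun x x' e => by
    have e1 : k x * (g0 * s * g0⁻¹) * (k x)⁻¹ = k x' * (g0 * s * g0⁻¹) * (k x')⁻¹ :=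
      congrArg Subtype.val e
    have m1 : g0⁻¹ * ((k x')⁻¹ * k x) * g0 ∈ Nm T :=
      mul_mem (mul_mem (inv_mem g1) (mul_mem (inv_mem (k1 x')) (k1 x))) g1
    have m2 : g0⁻¹ * ((k x')⁻¹ * k x) * g0 ∈ C1 s := mem_C1.2 (by
      calc _ = g0⁻¹ * (k x')⁻¹ * (k x * (g0 * s * g0⁻¹) * (k x)⁻¹) * k x * g0 := by group
        _ = _ := by rw [e1]; group)
    have m3 := C.cenX hX H.ne m2 (C.i2.mul_inv (conj_mem_of_norm m1 C.zT) C.zT
      (fun f => C.zQ (by simpa [mul_assoc] using conj_mem_of_norm' (C.nQ m2) f)) C.zQ)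
      ⟨f2, f1.2.1, fun a ha => f1.2.2 a (C.i2.le ha)⟩ (f1.2.2 z C.zT).symm
    refine Subtype.ext (mul_left_cancel (a := s) ?_)
    rw [← k3, ← k3]
    calc _ = k x' * g0 * (g0⁻¹ * ((k x')⁻¹ * k x) * g0 * (g0⁻¹ * s * g0⁻¹⁻¹)) * g0⁻¹ * (k x)⁻¹ := by
          group
      _ = _ := by rw [m3]; group
  obtain ⟨x, hx⟩ := Finite.injective_iff_surjective.1 inj 1
  exact conj_ne_one (conj_ne_one C.hy.w6.t1) (congrArg Subtype.val hx)

end Cfsg.Lib.N9M
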