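import Cfsg.Agent.N9M.Kit
import Cfsg.Agent.N9M.F2
import Cfsg.Agent.N9M.Nx
import Cfsg.Agent.Ord6.Three

/-! A `3`-element permuting the involutions of `⟨s, z⟩`. -/

set_option autoImplicit false

namespace Cfsg.Lib.N9M

open Subgroup Cfsg.Lib.Trans Cfsg.Lib.SC6

variable {G : Type*} [Group G] [Finite G] {u s c z y w h : G} {Q T X : Subgroup G}

theorem C2c.f1w (H : C2c u s c z Q T X) {k : G} (k1 : k ∈ C1 s) (k2 : k * z * k⁻¹ = z * s) :
    ∃ w h, CF u s c z w h Q T X := by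
  obtain ⟨h, hQ, hz⟩ := H.toCS.f1q k1 k2
  have Y := H.hy
  have s2 := Y.w6.t2
  have hs : h * s * h⁻¹ = s := by rw [mem_C1.1 (H.le hQ), mul_inv_cancel_right]
  have e0 : s * (z * s) = z := by rw [← mul_assoc, ← Y.zs, mul_assoc, s2, mul_one]
  have hzs : h * (z * s) * h⁻¹ = z :=
    calc _ = h * z * h⁻¹ * (h * s * h⁻¹) := by group
      _ = _ := by rw [hz, hs, mul_assoc, s2, mul_one]
  have cy : Cyc (c * h) s (z * s) := ⟨s2, by rw [mul_assoc, e0, Y.z2],
    by rw [e0, mul_assoc, s2, mul_one],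
    calc _ = c * (h * s * h⁻¹) * c⁻¹ := by group
      _ = _ := by rw [hs, Y.sc],
    calc _ = c * (h * (z * s) * h⁻¹) * c⁻¹ := by group
      _ = _ := by rw [hzs, Y.cz, e0]⟩
  obtain ⟨j, n, cw, w3⟩ := cy.exists_pow
  generalize (c * h) ^ j = w at cw w3
  have ws := cw.gt
  have wzs := cw.gd
  rw [e0] at wzs
  have wz : w * z * w⁻¹ = s :=
    calc _ = w * (s * (z * s)) * w⁻¹ := by rw [e0]
      _ = w * s * w⁻¹ * (w * (z * s) * w⁻¹) := by group
      _ = _ := by rw [ws, wzs, Y.zs, mul_assoc, Y.z2, mul_one]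
  have iv : ∀ {g a b : G}, g * a * g⁻¹ = b → g⁻¹ * b * g = a := fun e => by rw [← e]; group
  have key : ∀ n : G, n * s * n⁻¹ = s → n * z * n⁻¹ = z * s → ∀ x ∈ X, n * x * n⁻¹ = x :=
    fun n e1 e2 x hx => by
      have hx' := (H.isX x).1 hx
      rw [H.toCS.cenX H.isX H.ne (mem_C1.2 (mul_inv_eq_iff_eq_mul.1 e1))
        (by rw [e2, Y.zs, mul_inv_cancel_right]; exact H.sQ) hx'.1 hx'.2.1, mul_inv_cancel_right]
  refine ⟨w, h, H, H.nx, hQ, hz, Y.exp3 w n w3, ws, wz, cj_le_iff.2 fun x hx => ?_,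
    cj_le_iff.2 fun x hx => ?_, fun x hx => mem_cj.2 ?_⟩
  · have := key (c⁻¹ * w)
      (calc _ = c⁻¹ * (w * s * w⁻¹) * c := by group
        _ = _ := by rw [ws, iv Y.sc])
      (calc _ = c⁻¹ * (w * z * w⁻¹) * c := by group
        _ = _ := by rw [wz, iv Y.czs]) x hx
    rw [← H.toQS.cjcc]
    exact mem_cj.2 (by convert H.xc hx using 1; rw [← this]; nth_rw 1 [this]; group)
  · have := H.xc hx
    rw [H.toQS.uniq (Y.sc.trans ws.symm)] at this
    simpa using mem_cj.1 this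
  · have := key (w⁻¹ * h * w⁻¹)
      (calc _ = w⁻¹ * (h * (w⁻¹ * s * w) * h⁻¹) * w := by group
        _ = _ := by rw [iv wz, hz, iv ws])
      (calc _ = w⁻¹ * (h * (w⁻¹ * z * w) * h⁻¹) * w := by group
        _ = _ := by rw [iv wzs, hzs, iv wzs]) x hx
    convert hx using 1
    exact Eq.trans (by group) this

end Cfsg.Lib.N9M
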