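import Cfsg.Agent.N9M.Kit

/-! The case of an element of `X` outside `Q ^ c`. -/

set_option autoImplicit false

namespace Cfsg.Lib.N9M

open Subgroup Cfsg.Lib.Trans Cfsg.Lib.SC6
open Cfsg.Lib.Odd3 (conj_mem_of_norm conj_mem_of_norm' mem_norm_of_conj)
open Cfsg.Lib.L3 (sq_cases cube_cases SZ)

variable {G : Type*} [Group G] [Finite G] {u s c z : G} {Q T X : Subgroup G}

namespace IIa

theorem nm3 {a b d g : G} (h1 : g * a * g⁻¹ ∈ closure {a, b, d})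
    (h2 : g * b * g⁻¹ ∈ closure {a, b, d}) (h3 : g * d * g⁻¹ ∈ closure {a, b, d}) :
    g ∈ Nm (closure {a, b, d}) := by
  refine mem_norm_of_conj (cj_le_iff.1 (cj_le_iff_le_cj_inv.2 ((closure_le _).2 ?_)))
  rintro _ (rfl | rfl | rfl) <;> exact mem_cj_inv.2 ‹_›

omit [Finite G] in
theorem le3 {a b d : G} {K : Subgroup G} (h1 : a ∈ K) (h2 : b ∈ K) (h3 : d ∈ K) :
    closure {a, b, d} ≤ K := by
  refine (closure_le _).2 ?_
  rintro _ (rfl | rfl | rfl) <;> assumption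

theorem b8 (H : CS u s c z Q T) {r : G} (r2 : r * r = 1) (rs : s * r = r * s)
    (hR : ∀ a ∈ Q, a ∈ Trans.cj c Q → a ∈ zpowers r) {B : Subgroup G} (pB : IsPGroup 2 B)
    (b1 : B ≤ C1 s) (b2 : B ≤ C1 z) : Nat.card B ≤ 8 := by
  have e1 := (H.i2' pB b1).card_le
  have e2 : B ⊓ Q ≤ VV r s := fun a ha => (mem_V rs H.hy.w6.t2).2
    ((H.hY ha.2 (mem_C1.1 (b2 ha.1))).imp (hR a ha.2) (hR _ (mul_mem ha.2 H.sQ)))
  have e3 := Subgroup.card_le_of_le e2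
  have e4 := (i2V rs H.hy.w6.t2).card_le
  have e5 := (i2_bot r2).card_le
  rw [card_bot] at e5
  omega

end IIa

theorem CS.iia (H : CS u s c z Q T) (hX : IsX u z Q X) {x : G} (hx : x ∈ X)
    (e : x ∉ Trans.cj c Q) : Nat.card Q ≤ 8 ∧ ∃ g, g * s * g⁻¹ = s * x ∧ g ∉ Nm Q := by
  obtain ⟨⟨xQ, x2, xo⟩, xz, xn⟩ := (hX x).1 hx
  have W := H.hy.w6
  have s2 := W.t2
  have xs : x * s = s * x := mem_C1.1 (H.le xQ)
  have xns : x ∉ zpowers s := fun a => by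
    rcases sq_cases s2 a with b | b
    · exact e (b ▸ one_mem _)
    · have := H.nrm_s (one_mem Q)
      rw [one_mul, ← b, xn] at this
      exact W.t1 (by simpa [nrm, b] using this.symm)
  obtain ⟨r, hr⟩ : ∃ r, r = x * s := ⟨_, rfl⟩
  have rQ : r ∈ Q := hr ▸ mul_mem xQ H.sQ
  have rQ' : r ∈ Trans.cj c Q := hr ▸ (H.hY xQ xz).resolve_left e
  have r2 : r * r = 1 := by
    rw [hr, mul_assoc, ← mul_assoc s, ← xs, mul_assoc, s2, mul_one, x2]
  have r1 : r ≠ 1 := fun a => xns (by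
    rw [hr] at a
    rw [eq_inv_of_mul_eq_one_left a]; exact inv_mem (mem_zpowers s))
  have rs : r * s = s * r := mem_C1.1 (H.le rQ)
  have rz : r * z = z * r := H.r2 rQ rQ'
  have sr : s * r = x := by rw [← rs, hr, mul_assoc, s2, mul_one]
  have zs := H.hy.zs
  obtain ⟨q, hq⟩ : ∃ q, q = u * x * u⁻¹ := ⟨_, rfl⟩
  have qo : q ∈ om Q := hq ▸ conj_mem_om (H.nQ (mem_C1.2 W.yt)) ⟨xQ, x2, xo⟩
  have qz : q * z * q⁻¹ = z * (s * r) := by rw [sr, hq]; exact H.tau0 xQ x2 xz xn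
  have qc : ∀ a ∈ Q, q * a * q⁻¹ = a := fun a ha => conj_eq_of_comm (qo.2.2 a ha).symm
  have qzs : q * (z * s) * q⁻¹ = z * r := by
    calc _ = q * z * q⁻¹ * (q * s * q⁻¹) := by group
      _ = z * r * (s * s) := by rw [qz, qc s H.sQ, ← rs]; group
      _ = _ := by rw [s2, mul_one]
  obtain ⟨p, hp⟩ : ∃ p, p = c * q * c⁻¹ := ⟨_, rfl⟩
  have pc : ∀ a ∈ Trans.cj c Q, p * a * p⁻¹ = a := fun a ha => by
    have := qc _ (mem_cj.1 ha)
    rw [hp]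
    calc _ = c * (q * (c⁻¹ * a * c) * q⁻¹) * c⁻¹ := by group
      _ = _ := by rw [this]; group
  have c1 : c * r * c⁻¹ ∈ Q ⊓ Trans.cj c Q :=
    ⟨H.cjcc ▸ mem_cj.2 (by simpa [mul_assoc] using rQ'), mem_cj.2 (by simpa [mul_assoc] using rQ)⟩
  have pz : p * z * p⁻¹ = s * (c * r * c⁻¹) := by
    calc _ = p * (c * z * c⁻¹) * p⁻¹ := by rw [H.hy.cz]
      _ = c * (q * z * q⁻¹) * c⁻¹ := by rw [hp]; group
      _ = c * (z * s) * c⁻¹ * (c * r * c⁻¹) := by rw [qz]; group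
      _ = _ := by rw [H.hy.czs]
  have ps : p * s * p⁻¹ = z * (c * r * c⁻¹) := by
    calc _ = p * (c * (z * s) * c⁻¹) * p⁻¹ := by rw [H.hy.czs]
      _ = c * (q * (z * s) * q⁻¹) * c⁻¹ := by rw [hp]; group
      _ = c * z * c⁻¹ * (c * r * c⁻¹) := by rw [qzs]; group
      _ = _ := by rw [H.hy.cz]
  have zsQ : z * s ∈ Trans.cj c Q := H.cc.sQ
  have h3 : 3 ∣ orderOf (q * p) := by
    refine tri3 (N := Q ⊓ Trans.cj c Q) (a := s) (b := z * s) (d := z)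
      (mem_norm_of_conj fun a ha => by rwa [qc a ha.1])
      (mem_norm_of_conj fun a ha => by rwa [pc a ha.2]) ?_ ?_ ?_ ?_ ?_ ?_ ?_
    · rw [qc s H.sQ, mul_inv_cancel]; exact one_mem _
    · rw [qz, ← rs, show z * (r * s) * (z * s)⁻¹ = z * r * z⁻¹ by group, ← rz,
        mul_inv_cancel_right]
      exact ⟨rQ, rQ'⟩
    · rw [qzs, ← rz, mul_inv_cancel_right]; exact ⟨rQ, rQ'⟩
    · rw [pc _ zsQ, mul_inv_cancel]; exact one_mem _
    · rw [ps, ← H.r2 c1.1 c1.2, mul_inv_cancel_right]; exact c1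
    · rw [pz, ← mem_C1.1 (H.le c1.1), mul_inv_cancel_right]; exact c1
    · rw [mul_inv_cancel_right]; exact fun a => H.zQ a.1
  obtain ⟨m, n, -, y1, y3⟩ := three_part h3
  have yc : ∀ a ∈ Q ⊓ Trans.cj c Q, (q * p) ^ m * a = a * (q * p) ^ m := fun a ha =>
    mem_C1.1 (pow_mem (mul_mem (mem_C1.2 (qo.2.2 a ha.1).symm)
      (mem_C1.2 (mul_inv_eq_iff_eq_mul.1 (pc a ha.2)))) m)
  have hR : ∀ a ∈ Q, a ∈ Trans.cj c Q → a ∈ zpowers r := fun a h1 h2 => by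
    by_cases a1 : a = 1
    · exact a1 ▸ one_mem _
    · exact W.two H.pg y1 y3 rQ h1 (yc r ⟨rQ, rQ'⟩) (yc a ⟨h1, h2⟩) r1 a1 ▸ mem_zpowers r
  have rU : r ∈ closure {r, s, z} := subset_closure (by simp)
  have sU : s ∈ closure {r, s, z} := subset_closure (by simp)
  have zU : z ∈ closure {r, s, z} := subset_closure (by simp)
  have cU : c * r * c⁻¹ ∈ closure {r, s, z} := zpowers_le.2 rU (hR _ c1.1 c1.2)
  have yU : (q * p) ^ m ∈ Nm (closure {r, s, z}) := pow_mem (mul_mem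
    (IIa.nm3 (by rwa [qc r rQ]) (by rwa [qc s H.sQ]) (qz ▸ mul_mem zU (mul_mem sU rU)))
    (IIa.nm3 (by rwa [pc r rQ']) (ps ▸ mul_mem zU cU) (pz ▸ mul_mem sU cU))) m
  have pU : IsPGroup 2 (closure {r, s, z} : Subgroup G) :=
    H.syl.isPGroup.to_le (IIa.le3 (H.i2.le rQ) (H.i2.le H.sQ) H.zT)
  have Ur : closure {r, s, z} ≤ C1 r :=
    IIa.le3 (mem_C1.2 rfl) (mem_C1.2 rs.symm) (mem_C1.2 rz.symm)
  have Us : closure {r, s, z} ≤ C1 s := IIa.le3 (mem_C1.2 rs) (mem_C1.2 rfl) (mem_C1.2 zs)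
  have Uz : closure {r, s, z} ≤ C1 z := IIa.le3 (mem_C1.2 rz) (mem_C1.2 zs.symm) (mem_C1.2 rfl)
  have y3' := H.hy.exp3 _ _ y3
  have yr := yc r ⟨rQ, rQ'⟩
  generalize (q * p) ^ m = y at *
  generalize closure {r, s, z} = U at *
  obtain ⟨g, g1, g2⟩ := H.hy.pair r2 r1 y3' y1 yr
  have K := H.cj g
  rw [g1, g2] at K
  have yQ : y ∈ Nm (Trans.cj g Q) := K.nQ (mem_C1.2 yr)
  have UQ : U ≤ Trans.cj g Q := by
    have i := K.i2' pU Ur
    refine (K.hy.w6.loc pU rU Ur yU).fp.core le_rfl yU (fun a _ ha => conj_mem_of_norm yQ ha)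
      (zpowers_le.2 K.sQ) fun a ha b hb h1 h2 => (i.mul a ha b hb (fun k => h1 k.2) fun k => h2 k.2).2
  refine ⟨?_, g, by rw [g1, hr, xs], fun a => H.zQ ?_⟩
  · have xF : g * x * g⁻¹ ∈ om (Trans.cj g Q) :=
      ⟨mem_cj.2 (by simpa [mul_assoc] using xQ), conj_sq x2, fun a ha => by
        simpa [mul_assoc] using conj_comm (g := g) (xo _ (mem_cj.1 ha))⟩
    have xr : g * x * g⁻¹ ∉ zpowers r := fun a => xns (by
      rw [← g1, ← cj_zpowers] at a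
      simpa [mul_assoc] using mem_cj.1 a)
    have rF : r ∈ om (Trans.cj g Q) := K.loc.zp_om (mem_zpowers r)
    have f4 : 4 ≤ Nat.card (om (Trans.cj g Q)) := by
      have i := (i2V (xF.2.2 r rF.1).symm xF.2.1).card (dV _ _) xr
      have j := Subgroup.card_le_of_le (V_le rF xF)
      rw [card_zp r2 r1] at i
      omega
    have BQ : om (Trans.cj g Q) ⊔ U ≤ Trans.cj g Q := sup_le (om_le _) UQ
    have b8 := IIa.b8 H r2 rs.symm hR (K.pg.to_le BQ)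
      (sup_le (fun a ha => mem_C1.2 (ha.2.2 s (UQ sU)).symm) Us)
      (sup_le (fun a ha => mem_C1.2 (ha.2.2 z (UQ zU)).symm) Uz)
    have i := I2.of_card (le_sup_left : om (Trans.cj g Q) ≤ _ ⊔ U) (by omega)
    have BF := K.loc.fp.core BQ (nm_sup (nm_om _ yQ) yU)
      (fun a _ ha => conj_mem_om yQ ha) K.loc.zp_om i.mul
    rw [← card_cj g Q]
    exact IIa.b8 H r2 rs.symm hR K.pg
      (fun a ha => mem_C1.2 ((BF (mem_sup_right sU)).2.2 a ha))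
      fun a ha => mem_C1.2 ((BF (mem_sup_right zU)).2.2 a ha)
  · simpa [mul_assoc] using conj_mem_of_norm a (mem_cj.1 (UQ zU))

end Cfsg.Lib.N9M
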