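import Cfsg.Agent.N9M.Kit

/-! A strongly `3`-embedded subgroup `3 ^ 2 : SD₁₆`: elements of `X` lying in `Q ^ c`. -/

set_option autoImplicit false

namespace Cfsg.Lib.N9M

open Subgroup Cfsg.Lib.Trans Cfsg.Lib.SC6
open Cfsg.Lib.Odd3 (conj_mem_of_norm conj_mem_of_norm' mem_norm_of_conj)
open Cfsg.Lib.L3 (sq_cases cube_cases SZ)

variable {G : Type*} [Group G] [Finite G] {u s c z : G} {Q T X : Subgroup G}

namespace IIb

theorem st (H : QS u s c z Q) {x : G} (hx : x ∈ om Q) (xz : x * z = z * x) (n : nrm u x = 1)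
    (e : x ∈ Trans.cj c Q) : St s (s * x) := by
  have K := H.cc
  have s2 := H.hy.w6.t2
  have z2 := H.hy.z2
  have zs := H.hy.zs
  have xs : x * s = s * x := mem_C1.1 (H.le hx.1)
  have es : s = z * (z * s) := by rw [← mul_assoc, z2, one_mul]
  have fix : ∀ a ∈ Trans.cj c Q, c * u * c⁻¹ * a * (c * u * c⁻¹)⁻¹ * (z * s) *
      (c * u * c⁻¹ * a * (c * u * c⁻¹)⁻¹)⁻¹ = z * s := fun a ha =>
    conj_eq_of_comm (mem_C1.1 (K.le (K.loc.fp.conj ha)))
  rcases K.nrm_cases e with m | m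
  · have h1 := K.tau0 e hx.2.1 xz m
    have h2 := fix x e
    generalize c * u * c⁻¹ * x * (c * u * c⁻¹)⁻¹ = f at h1 h2
    refine ⟨f, ?_⟩
    calc f * s * f⁻¹ = f * (z * (z * s)) * f⁻¹ := by rw [← es]
      _ = f * z * f⁻¹ * (f * (z * s) * f⁻¹) := by group
      _ = z * x * (z * s) := by rw [h1, h2]
      _ = x * (z * z) * s := by rw [← xz]; group
      _ = s * x := by rw [z2, mul_one, xs]
  · have e' : x * (z * s) ∈ Trans.cj c Q := mul_mem e K.sQ
    have t2 : z * s * (z * s) = 1 := K.hy.w6.t2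
    have xt : x * (z * s) = z * s * x := mem_C1.1 (K.le e)
    have h1 := K.tau0 e' (by
        calc x * (z * s) * (x * (z * s)) = x * (z * s * x) * (z * s) := by group
          _ = x * x * (z * s * (z * s)) := by rw [← xt]; group
          _ = 1 := by rw [hx.2.1, t2, mul_one])
      (by
        calc x * (z * s) * z = x * z * (s * z) := by group
          _ = z * x * (z * s) := by rw [xz, zs]
          _ = _ := by group)
      (by rw [K.nrm_s e, m, t2])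
    have h2 := fix _ e'
    have h3 := H.tau0 hx.1 hx.2.1 xz n
    generalize c * u * c⁻¹ * (x * (z * s)) * (c * u * c⁻¹)⁻¹ = f at h1 h2
    generalize u * x * u⁻¹ = b at h3
    have h4 : f * z * f⁻¹ = s * x := by
      calc _ = z * x * z * s := by rw [h1]; group
        _ = x * (z * z) * s := by rw [← xz]; group
        _ = s * x := by rw [z2, mul_one, xs]
    have h5 : f * s * f⁻¹ = z * x := by
      calc f * s * f⁻¹ = f * (z * (z * s)) * f⁻¹ := by rw [← es]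
        _ = f * z * f⁻¹ * (f * (z * s) * f⁻¹) := by group
        _ = s * x * (z * s) := by rw [h4, h2]
        _ = x * (s * (s * z)) := by rw [← xs, zs]; group
        _ = z * x := by rw [← mul_assoc s s z, s2, one_mul, xz]
    refine ⟨f * b⁻¹ * f, ?_⟩
    calc f * b⁻¹ * f * s * (f * b⁻¹ * f)⁻¹ = f * b⁻¹ * (f * s * f⁻¹) * b * f⁻¹ := by group
      _ = f * b⁻¹ * (b * z * b⁻¹) * b * f⁻¹ := by rw [h5, h3]
      _ = f * z * f⁻¹ := by group
      _ = s * x := h4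

theorem small (H : CS u s c z Q T) {x g : G} (hx : x ∈ om Q) (xz : x * z = z * x)
    (n : nrm u x = 1) (x1 : x ≠ 1) (e : g * s * g⁻¹ = s * x) (gT : Trans.cj g T = T)
    (gQ : g ∉ Nm Q) : Nat.card Q ≤ 8 := by
  have K := H.cj g
  rw [e, gT] at K
  have cQ : Nat.card (Trans.cj g Q) = Nat.card Q := card_cj g Q
  have ne : ¬ Trans.cj g Q ≤ Q := fun le =>
    gQ (cj_eq_self_iff.1 (Subgroup.eq_of_le_of_card_ge le cQ.ge))
  generalize Trans.cj g Q = R at K cQ ne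
  generalize g * u * g⁻¹ = y at K
  have hb : u * x * u⁻¹ ∈ om Q := conj_mem_om H.toQS.loc.fp.yR hx
  have h3 := H.toQS.tau0 hx.1 hx.2.1 xz n
  generalize u * x * u⁻¹ = b at hb h3
  have L := K.toQS.loc
  have i1 : I2 (R ⊓ Q) R := H.i2.inf K.i2.le
  by_cases bR : b ∈ R
  · exfalso
    obtain ⟨k, k1, k2⟩ := SetLike.not_le_iff_exists.1 ne
    have h1 := L.fp.idx bR i1 (fun a ha => comm_mem_of_eq (hb.2.2 a ha.2)) k k1
    rw [H.d2.act hb (K.i2.le k1) k2] at h1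
    have h2 : z * b * z⁻¹ * b⁻¹ = x⁻¹ := by
      calc z * b * z⁻¹ * b⁻¹ = z * (b * z * b⁻¹)⁻¹ := by group
        _ = z * (x * z)⁻¹ := by rw [h3, xz]
        _ = x⁻¹ * (x * z) * z⁻¹ * (z * (x * z)⁻¹ * x) * x⁻¹ * 1 := by group
        _ = x⁻¹ := by rw [xz]; group
    rw [h2] at h1
    rcases sq_cases L.t2 (inv_mem_iff.1 h1) with a | a
    · exact x1 a
    · exact H.hy.w6.t1 (by simpa using a.symm)
  · have le : R ⊓ Q ⊓ Trans.cj y⁻¹ Q ≤ zpowers (s * x) := fun a ha =>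
      K.d2.dd (mem_zpowers _) L.fp.le (fun t ht => nm_zp (K.d2.cT ht)) L.fp.yD
        (H.i2.le hb.1) bR ha.1.1 (comm_mem_of_eq (hb.2.2 a ha.1.2).symm)
        (comm_mem_of_eq (hb.2.2 _ (mem_cj_inv.1 ha.2)).symm)
    have i2 : I2 (R ⊓ Q ⊓ Trans.cj y⁻¹ Q) (R ⊓ Q) :=
      ⟨inf_le_left, fun a ha a' ha' h1 h2 => ⟨mul_mem ha ha', mem_cj_inv.2 (by
        have := H.i2.mul _ (K.i2.le (L.fp.conj ha.1)) _ (K.i2.le (L.fp.conj ha'.1))
          (fun c => h1 ⟨ha, mem_cj_inv.2 c⟩) fun c => h2 ⟨ha', mem_cj_inv.2 c⟩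
        convert this using 1; group)⟩⟩
    have c1 := i1.card_le
    have c2 := i2.card_le
    have c3 := Subgroup.card_le_of_le le
    rw [card_zp L.t2 L.t1] at c3
    omega

end IIb

theorem CS.iib (H : CS u s c z Q T) (hX : IsX u z Q X) {x : G} (hx : x ∈ X)
    (e : x ∈ Trans.cj c Q) : St s (s * x) ∧
      ∀ g, g * s * g⁻¹ = s * x → g ∉ Nm Q → Nat.card Q ≤ 8 := by
  have := Fact.mk Nat.prime_two
  obtain ⟨x1, x2, x3⟩ := (hX x).1 hx
  refine ⟨IIb.st H.toQS x1 x2 x3 e, fun g e1 gQ => ?_⟩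
  have xn : x ≠ 1 := fun a => gQ (H.nQ (mem_C1.2 (by
    rw [a, mul_one, mul_inv_eq_iff_eq_mul] at e1; exact e1)))
  have K := H.cj g
  rw [e1] at K
  have tx : T ≤ C1 x := H.i2.le_of H.zT H.zQ (fun a ha => mem_C1.2 (x1.2.2 a ha))
    (mem_C1.2 x2.symm)
  have le : T ≤ C1 (s * x) := fun a ha => mem_C1.2 (by
    rw [← mul_assoc, mem_C1.1 (H.syl.le ha), mul_assoc, mem_C1.1 (tx ha), mul_assoc])
  have sy : IsSylowIn 2 T (C1 (s * x)) :=
    K.syl.of_card_ge H.syl.isPGroup le (card_cj g T).le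
  obtain ⟨k, k1, k2⟩ := sy.exists_cj_eq K.syl
  have e2 : k * g * s * (k * g)⁻¹ = s * x := by
    calc _ = k * (g * s * g⁻¹) * k⁻¹ := by group
      _ = s * x := by rw [e1]; exact conj_eq_of_comm (mem_C1.1 k1)
  refine IIb.small H x1 x2 x3 xn e2 (by rw [cj_mul, k2]) fun a => gQ ?_
  rw [← cj_eq_self_iff, ← H.toQS.uniq (e2.trans e1.symm)]
  exact cj_eq_self_iff.2 a

end Cfsg.Lib.N9M
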