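import Cfsg.Agent.N9M.Kit
import Cfsg.Agent.N9M.Gen
import Cfsg.Agent.Ord6.Four
import Cfsg.Agent.Trans.TransferTools
import Cfsg.Agent.S3224

/-! A strongly `3`-embedded subgroup `3 ^ 2 : SD₁₆`: the cases where `Q` has one involution. -/

set_option autoImplicit false

namespace Cfsg.Lib.N9M

open Subgroup Cfsg.Lib.Trans Cfsg.Lib.SC6
open Cfsg.Lib.Odd3 (conj_mem_of_norm conj_mem_of_norm' mem_norm_of_conj)
open Cfsg.Lib.L3 (sq_cases cube_cases SZ)

variable {G : Type*} [Group G] [Finite G] {u s c z y w h : G} {Q T X : Subgroup G}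

theorem K0.uniq {x a b : G} (ha : a ∈ zpowers x) (hb : b ∈ zpowers x) (a2 : a * a = 1)
    (b2 : b * b = 1) (a1 : a ≠ 1) (b1 : b ≠ 1) : a = b := by
  classical
  have := Fintype.ofFinite (zpowers x)
  by_contra e
  refine (IsCyclic.card_pow_eq_one_le (α := zpowers x) two_pos).not_gt (Finset.two_lt_card_iff.2
    ⟨1, ⟨a, ha⟩, ⟨b, hb⟩, by simp, ?_, ?_, fun k => a1 (congrArg Subtype.val k).symm,
      fun k => b1 (congrArg Subtype.val k).symm, fun k => e (congrArg Subtype.val k)⟩)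
  · simpa [sq, Subtype.ext_iff] using a2
  · simpa [sq, Subtype.ext_iff] using b2

theorem CS.k0 [IsSimpleGroup G] (hG : ¬ IsMulCommutative G) (H : CS u s c z Q T)
    (e : Q ≤ zpowers s) : ∀ t : G, t * t = 1 → t ≠ 1 → St s t := by
  have := Fact.mk Nat.prime_two
  have s2 := H.hy.w6.t2
  have s1 := H.hy.w6.t1
  have cT : Nat.card T = 4 := by
    rw [H.i2.card H.zT H.zQ, le_antisymm e (zpowers_le.2 H.sQ), card_zp s2 s1]
  obtain ⟨S, hS⟩ := H.syl.isPGroup.exists_le_sylow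
  have sS : s ∈ (S : Subgroup G) := hS (H.i2.le H.sQ)
  have c16 : 2 ^ 4 ∣ Nat.card S := S.pow_dvd_card_of_pow_dvd_card H.hy.c16
  have cC : centralizer ({⟨s, sS⟩} : Set S) = T.subgroupOf S := by
    rw [← H.syl.eq_inf S.isPGroup' hS, inf_subgroupOf_left]
    ext g
    rw [mem_centralizer_singleton_iff, mem_subgroupOf, mem_C1, Subtype.ext_iff]
    rfl
  obtain ⟨x, hx⟩ : ∃ x : S, Nat.card S = 2 * orderOf x := by
    rcases Agent.S3224.result S.isPGroup' ⟨s, sS⟩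
      (orderOf_eq_prime (Subtype.ext (by simpa [sq] using s2)) fun k => s1 (congrArg Subtype.val k))
      (by rw [cC, Nat.card_congr (subgroupOfEquivOfLe hS).toEquiv, cT]) with
      ⟨n, ⟨f⟩⟩ | ⟨n, -, k, x, -, ox, -⟩ | k
    · exact ⟨f.symm (DihedralGroup.r 1), by
        rw [MulEquiv.orderOf_eq, DihedralGroup.orderOf_r_one, Nat.card_congr f.toEquiv,
          DihedralGroup.nat_card]⟩
    · exact ⟨x, by rw [ox, k, pow_succ']⟩
    · rw [k] at c16
      omega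
  have i2 : I2 (zpowers (x : G)) S := I2.of_card (zpowers_le.2 x.2) (by
    rw [Nat.card_zpowers, orderOf_coe]; exact hx.le)
  have top : commutator G = ⊤ := (commutator_normal ⊤ ⊤).eq_bot_or_eq_top.resolve_left fun k =>
    hG ⟨⟨fun a b => commutatorElement_eq_one_iff_mul_comm.1 (mem_bot.1
      (k ▸ commutator_mem_commutator (mem_top a) (mem_top b)))⟩⟩
  have key : ∀ t : G, t * t = 1 → t ≠ 1 → ∃ a : G, a⁻¹ * t * a ∈ zpowers (x : G) := fun t t2 t1 => by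
    obtain ⟨a, -, k, -⟩ := thompson_transfer_involution (H := (S : Subgroup G))
      (T := zpowers (x : G)) S.not_dvd_index (fun a ha b hb => i2.comm ha hb)
      (fun a ha => ⟨1, by rw [pow_one, sq]; exact i2.sq ha⟩) t
      (orderOf_eq_prime (by rw [sq, t2]) t1) (fun a ha b hb _ _ => i2.mul a ha b hb)
      (top ▸ mem_sup_left (mem_top t)) ⊥ IsPGroup.of_bot fun r hr => by rw [mem_bot.1 hr]; simp
    exact ⟨a, k⟩
  intro t t2 t1
  obtain ⟨a, ha⟩ := key s s2 s1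
  obtain ⟨b, hb⟩ := key t t2 t1
  have k := K0.uniq ha hb (by simpa using conj_sq (g := a⁻¹) s2) (by simpa using conj_sq (g := b⁻¹) t2)
    (by simpa using conj_ne_one (g := a⁻¹) s1) (by simpa using conj_ne_one (g := b⁻¹) t1)
  exact ⟨b * a⁻¹, by
    calc _ = b * (a⁻¹ * s * a) * b⁻¹ := by group
      _ = t := by rw [k]; group⟩

theorem CS.q8 (H : CS u s c z Q T) (e : ¬ Q ≤ zpowers s)
    (h1 : ∀ a ∈ Q, a * a = 1 → a ∈ zpowers s) :
    ∀ t : G, t * t = 1 → t ≠ 1 → t * s = s * t → St s t := by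
  have s2 := H.hy.w6.t2
  have r2 : Q ⊓ Trans.cj c Q = ⊥ := by
    by_contra k
    obtain ⟨i, hi, i1⟩ := exists_om H.pg.to_inf_left k
    exact H.toQS.sQc ((sq_cases s2 (h1 i hi.1.1 hi.2.1)).resolve_left i1 ▸ hi.1.2)
  obtain ⟨a, ha, a1, a2⟩ : ∃ a ∈ Q, a * z * a⁻¹ * z⁻¹ ∈ zpowers s ∧ a ∉ zpowers s := by
    by_contra! k
    exact e (H.toQS.gen (zpowers_le.2 H.sQ) (nm_zp H.hy.w6.yt) k)
  have a3 : a * z * a⁻¹ = c * s * c⁻¹ := by
    rw [H.hy.sc, H.hy.zs]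
    refine (H.toQS.loc.conj_cases a1).resolve_left fun k => a2 ?_
    rcases H.hY ha k with k | k
    · rw [mem_bot.1 (r2.le (mem_inf.2 ⟨ha, k⟩))]
      exact one_mem _
    · rw [eq_inv_of_mul_eq_one_left
        (mem_bot.1 (r2.le (mem_inf.2 ⟨mul_mem ha H.sQ, k⟩)))]
      exact inv_mem (mem_zpowers s)
  intro t t2 t1 ts
  by_cases tQ : t ∈ Q
  · exact ⟨1, by rw [(sq_cases s2 (h1 t tQ t2)).resolve_left t1]; group⟩
  obtain ⟨g, -, k | k⟩ := H.b0 t (mem_C1.2 ts) tQ (t2 ▸ one_mem _)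
  · exact ⟨g⁻¹ * a⁻¹ * c, by
      calc _ = g⁻¹ * a⁻¹ * (c * s * c⁻¹) * a * g := by group
        _ = g⁻¹ * z * g := by rw [← a3]; group
        _ = t := by rw [← k]; group⟩
  · exact ⟨g⁻¹ * c, by
      calc _ = g⁻¹ * (c * s * c⁻¹) * g := by group
        _ = t := by rw [H.hy.sc, ← k]; group⟩

end Cfsg.Lib.N9M
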