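import Cfsg.Agent.N9M.Defs

/-! A Sylow lemma: two elementary subgroups of order eight which are swapped. -/

set_option autoImplicit false

namespace Cfsg.Lib.N9M

open Subgroup Cfsg.Lib.Trans Cfsg.Lib.SC6
open Cfsg.Lib.Odd3 (conj_mem_of_norm conj_mem_of_norm' mem_norm_of_conj)
open Cfsg.Lib.L3 (sq_cases cube_cases SZ)

variable {G : Type*} [Group G] [Finite G] {u s c z y w h : G} {Q T X : Subgroup G}

namespace K1

theorem two_mul_le {H K : Subgroup G} (e : H < K) : 2 * Nat.card H ≤ Nat.card K := by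
  obtain ⟨k, hk⟩ := card_dvd_of_le e.le
  have h1 := card_lt_of_lt e
  have h2 : 0 < Nat.card H := Nat.card_pos
  rw [hk] at h1 ⊢
  have : 1 < k := by
    by_contra! f
    exact absurd (Nat.mul_le_mul_left (Nat.card H) f) (by omega)
  rw [mul_comm]
  exact Nat.mul_le_mul_left _ this

omit [Finite G] in
theorem comm_of_sq {E : Subgroup G} (e2 : ∀ a ∈ E, a * a = 1) {a b : G} (ha : a ∈ E)
    (hb : b ∈ E) : a * b = b * a := by
  have h1 := inv_eq_of_mul_eq_one_right (e2 _ (mul_mem ha hb))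
  rw [mul_inv_rev, inv_eq_of_mul_eq_one_right (e2 a ha),
    inv_eq_of_mul_eq_one_right (e2 b hb)] at h1
  exact h1.symm

omit [Finite G] in
theorem le_or {E A B : Subgroup G} (e : ∀ t ∈ E, t ∈ A ∨ t ∈ B) : E ≤ A ∨ E ≤ B := by
  by_contra! f
  obtain ⟨a, a1, a2⟩ := SetLike.not_le_iff_exists.1 f.1
  obtain ⟨b, b1, b2⟩ := SetLike.not_le_iff_exists.1 f.2
  rcases e _ (mul_mem a1 b1) with c | c
  · exact a2 ((A.mul_mem_cancel_right ((e b b1).resolve_right b2)).1 c)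
  · exact b2 ((B.mul_mem_cancel_left ((e a a1).resolve_left a2)).1 c)

end K1

theorem k1 {A B : Subgroup G} (_s1 : s ≠ 1) (hT : IsSylowIn 2 T (C1 s)) (c16 : Nat.card T = 16)
    (AT : A ≤ T) (BT : B ≤ T) (cA : Nat.card A = 8) (cB : Nat.card B = 8)
    (a2 : ∀ a ∈ A, a * a = 1) (b2 : ∀ a ∈ B, a * a = 1) (ne : A ≠ B) (sA : s ∈ A) (sB : s ∈ B)
    (inv : ∀ t ∈ T, t * t = 1 → t ∈ A ∨ t ∈ B)
    (sw : ∀ g ∈ Nm T, g * s * g⁻¹ ≠ s → Trans.cj g A = B) : PRankLE 2 3 G := by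
  have := Fact.mk Nat.prime_two
  obtain ⟨S, hS, TS⟩ := exists_isSylowIn_ge hT.isPGroup (le_top : T ≤ ⊤)
  have e1 : S ⊓ C1 s = T := hT.eq_inf hS.isPGroup TS
  have e2 : ∀ g ∈ S ⊓ Nm T, g ∉ T → g * s * g⁻¹ ≠ s := fun g hg g1 e =>
    g1 (e1 ▸ ⟨hg.1, mem_C1.2 (mul_inv_eq_iff_eq_mul.1 e)⟩)
  have e3 : ∀ g ∈ S ⊓ Nm T, g ∉ T → Trans.cj g A = B := fun g hg g1 => sw g hg.2 (e2 g hg g1)
  have i2 : I2 T (S ⊓ Nm T) := ⟨le_inf TS le_normalizer, fun a ha b hb a1 b1 => by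
    by_contra f
    refine ne ?_
    have h1 := e3 _ (mul_mem ha hb) f
    rw [cj_mul, e3 b hb b1, ← e3 _ (inv_mem ha) (mt T.inv_mem_iff.1 a1), cj_cj_inv] at h1
    rw [e3 _ (inv_mem ha) (mt T.inv_mem_iff.1 a1)] at h1
    exact h1⟩
  have nle : ¬ B ≤ A := fun e => ne (eq_of_le_of_card_ge e (by omega)).symm
  have lt1 : A ⊓ B < B := inf_lt_right.2 nle
  have big : ∀ E : Subgroup G, E ≤ S ⊓ Nm T → (∀ a ∈ E, a * a = 1) → ¬ E ≤ T →
      Nat.card E ≤ 4 := fun E hE E2 f => by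
    obtain ⟨t, t1, t2⟩ := SetLike.not_le_iff_exists.1 f
    have h1 := e3 t (hE t1) t2
    have h2 : E ⊓ T ≤ A ⊓ B := fun a ha => by
      have c1 : t * a * t⁻¹ = a := conj_eq_of_comm (K1.comm_of_sq E2 t1 ha.1)
      have c2 : a ∈ A ↔ a ∈ B := by rw [← h1, ← conj_mem_cj (g := t) (T := A), c1]
      rcases inv a ha.2 (E2 a ha.1) with c | c
      · exact ⟨c, c2.1 c⟩
      · exact ⟨c2.2 c, c⟩
    have h3 : E ⊓ T < A ⊓ B := lt_of_le_of_ne h2 fun e =>
      e2 t (hE t1) t2 (conj_eq_of_comm (K1.comm_of_sq E2 t1 (e.ge ⟨sA, sB⟩).1))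
    have h4 := K1.two_mul_le h3
    have h5 := K1.two_mul_le lt1
    have h6 := (i2.inf hE).card_le
    omega
  have sup : T ≤ A ⊔ B := by
    obtain ⟨b, b1, b2⟩ := SetLike.not_le_iff_exists.1 nle
    exact (I2.of_card AT (by omega)).le_of (BT b1) b2 le_sup_left (mem_sup_right b1)
  have e4 : S ≤ S ⊓ Nm T := by
    by_contra f
    obtain ⟨g, g1, g2⟩ := SetLike.exists_of_lt
      (lt_inf_normalizer hS.isPGroup (lt_of_le_not_ge inf_le_left f))
    have key : ∀ E : Subgroup G, E ≤ T → (∀ a ∈ E, a * a = 1) → Nat.card E = 8 →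
        Trans.cj g E ≤ T := fun E hE E2 c => by
      by_contra f
      have := big (Trans.cj g E) (cj_le_iff.2 fun t ht => conj_mem_of_norm g1.2 (i2.le (hE ht)))
        (by rintro _ ⟨a, ha, rfl⟩; exact conj_sq (E2 a ha)) f
      rw [card_cj] at this
      omega
    refine g2 ⟨g1.1, mem_normalizer_of_cj_le ((cj_mono g sup).trans ?_)⟩
    rw [cj_sup]
    exact sup_le (key A AT a2 cA) (key B BT b2 cB)
  intro E _ E2
  have pE : IsPGroup 2 E := fun a => ⟨1, Subtype.ext (by simpa using E2 a a.2)⟩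
  obtain ⟨x, -, hx⟩ := hS.exists_cj_le pE le_top
  have E3 : ∀ a ∈ Trans.cj x E, a * a = 1 := by
    rintro _ ⟨a, ha, rfl⟩
    exact conj_sq (by rw [← sq]; exact E2 a ha)
  rw [← card_cj x E]
  by_cases f : Trans.cj x E ≤ T
  · rcases K1.le_or fun t ht => inv t (f ht) (E3 t ht) with c | c
    · exact (Subgroup.card_le_of_le c).trans (by omega)
    · exact (Subgroup.card_le_of_le c).trans (by omega)
  · exact (big _ (hx.trans e4) E3 f).trans (by norm_num)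

end Cfsg.Lib.N9M
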