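import Cfsg.Agent.N9M.Kit
import Cfsg.Agent.N9M.K1

/-! The case `#Q ≤ 8` with `Q` not attached to `s x`: the `2`-rank is three. -/

set_option autoImplicit false

namespace Cfsg.Lib.N9M

open Subgroup Cfsg.Lib.Trans Cfsg.Lib.SC6
open Cfsg.Lib.Odd3 (conj_mem_of_norm conj_mem_of_norm' mem_norm_of_conj)
open Cfsg.Lib.L3 (sq_cases cube_cases SZ)

variable {G : Type*} [Group G] [Finite G] {u s c z y w h : G} {Q T X : Subgroup G}

namespace K2

theorem two_mul_le {A B : Subgroup G} (h : A ≤ B) {a : G} (h1 : a ∈ B) (h2 : a ∉ A) :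
    2 * Nat.card A ≤ Nat.card B := by
  obtain ⟨k, hk⟩ := card_dvd_of_le h
  have k1 : k ≠ 1 := fun e => h2 (by
    rw [eq_of_le_of_card_ge h (by rw [hk, e, mul_one])]; exact h1)
  have k0 : k ≠ 0 := fun e => (Nat.card_pos (α := B)).ne' (by rw [hk, e, mul_zero])
  rw [hk, mul_comm]
  exact Nat.mul_le_mul_left _ (by omega)

omit [Finite G] in
theorem comm_of_sq {A : Subgroup G} (a2 : ∀ a ∈ A, a * a = 1) {a b : G} (ha : a ∈ A)
    (hb : b ∈ A) : a * b = b * a := by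
  have h1 := inv_eq_of_mul_eq_one_right (a2 _ (mul_mem ha hb))
  rw [mul_inv_rev, inv_eq_of_mul_eq_one_right (a2 a ha), inv_eq_of_mul_eq_one_right (a2 b hb)] at h1
  exact h1.symm

omit [Finite G] in
theorem le_or {A B C : Subgroup G} (h : ∀ a ∈ C, a ∈ A ∨ a ∈ B) : C ≤ A ∨ C ≤ B := by
  by_contra! f
  obtain ⟨a, a1, a2⟩ := SetLike.not_le_iff_exists.1 f.1
  obtain ⟨b, b1, b2⟩ := SetLike.not_le_iff_exists.1 f.2
  rcases h _ (mul_mem a1 b1) with e | e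
  · exact a2 ((A.mul_mem_cancel_right ((h b b1).resolve_right b2)).1 e)
  · exact b2 ((B.mul_mem_cancel_left ((h a a1).resolve_left a2)).1 e)

end K2

open K2 in
theorem CS.k2 (H : CS u s c z Q T) (hX : IsX u z Q X) {x g : G} (hx : x ∈ X) (x1 : x ≠ 1)
    (c8 : Nat.card Q ≤ 8) (e : g * s * g⁻¹ = s * x) (hg : g ∉ Nm Q) :
    PRankLE 2 3 G ∧ ¬ PRankLE 2 2 G := by
  obtain ⟨xo, xz, xn⟩ := (hX x).1 hx
  have s2 := H.hy.w6.t2
  have s1 := H.hy.w6.t1
  have z2 := H.hy.z2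
  have zs := H.hy.zs
  have zi : z⁻¹ = z := inv_eq_of_mul_eq_one_right z2
  have uQ : u ∈ Nm Q := H.nQ (mem_C1.2 H.hy.w6.yt)
  have so : s ∈ om Q := ⟨H.sQ, s2, fun a ha => mem_C1.1 (H.le ha)⟩
  have bo := conj_mem_om uQ xo
  have t0 := H.toQS.tau0 xo.1 xo.2.1 xz xn
  generalize u * x * u⁻¹ = b at bo t0
  have bz : b ∉ C1 z := fun c => x1 (by
    rw [conj_eq_of_comm (mem_C1.1 c)] at t0
    exact left_eq_mul.1 t0)
  have xs : x ∉ zpowers s := fun c => by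
    rcases sq_cases s2 c with c | c
    · exact x1 c
    · rw [c, nrm, conj_eq_of_comm H.hy.w6.yt, show u⁻¹ * s * u = s by
        rw [mul_assoc, ← H.hy.w6.yt, inv_mul_cancel_left], s2, one_mul] at xn
      exact s1 xn
  have sY : zpowers s ≤ om Q ⊓ C1 z := zpowers_le.2 ⟨so, mem_C1.2 zs.symm⟩
  have c1 := two_mul_le sY ⟨xo, mem_C1.2 xz⟩ xs
  have c2 := two_mul_le (inf_le_left : om Q ⊓ C1 z ≤ om Q) bo fun c => bz c.2
  rw [card_zp s2 s1] at c1
  have c3 := Subgroup.card_le_of_le (om_le Q)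
  have oQ : om Q = Q := eq_of_le_of_card_ge (om_le Q) (by omega)
  have q2 : ∀ a ∈ Q, a * a = 1 := fun a ha => (oQ.symm ▸ ha : a ∈ om Q).2.1
  rw [oQ] at c1 c2 sY
  have cQ : Nat.card Q = 8 := by omega
  have iY : I2 (zpowers s) (Q ⊓ C1 z) := I2.of_card sY (by rw [card_zp s2 s1]; omega)
  have cT : Nat.card T = 16 := by rw [H.i2.card H.zT H.zQ, cQ]
  have zB : z ∈ T ⊓ C1 z := ⟨H.zT, mem_C1.2 rfl⟩
  have cB : Nat.card ↥(T ⊓ C1 z) = 8 := by
    rw [(H.i2.inf (inf_le_left : T ⊓ C1 z ≤ T)).card zB fun c => H.zQ c.2,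
      show T ⊓ C1 z ⊓ Q = Q ⊓ C1 z from le_antisymm (fun a ha => ⟨ha.2, ha.1.2⟩)
        fun a ha => ⟨⟨H.i2.le ha.1, ha.2⟩, ha.1⟩]
    omega
  have b2 : ∀ a ∈ T ⊓ C1 z, a * a = 1 := fun a ha => by
    by_cases aQ : a ∈ Q
    · exact q2 a aQ
    · have := q2 _ (H.i2.mul a ha.1 z H.zT aQ H.zQ)
      rwa [mul_assoc, ← mul_assoc z, ← mem_C1.1 ha.2, mul_assoc a z, z2, mul_one] at this
  have inv : ∀ t ∈ T, t * t = 1 → t ∈ Q ∨ t ∈ T ⊓ C1 z := fun t ht t2 =>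
    or_iff_not_imp_left.2 fun tQ => ⟨ht, mem_C1.2 (by
      have := inv_eq_of_mul_eq_one_right (q2 _ (H.i2.mul t ht z H.zT tQ H.zQ))
      rw [mul_inv_rev, zi, inv_eq_of_mul_eq_one_right t2] at this
      exact this.symm)⟩
  refine ⟨k1 s1 H.syl cT H.i2.le inf_le_left cQ cB q2 b2 (fun c => H.zQ (c ▸ zB)) H.sQ
    ⟨H.i2.le H.sQ, mem_C1.2 zs.symm⟩ inv fun k hk ks => ?_, fun c => ?_⟩
  · have sT : s ∈ om T := ⟨H.i2.le H.sQ, s2, fun a ha => mem_C1.1 (H.syl.le ha)⟩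
    have a1 := conj_mem_om hk sT
    have a2 : k * s * k⁻¹ ∈ Q := by
      by_contra aQ
      refine bz ((C1 b).mul_mem_cancel_left (mem_C1.2 (a1.2.2 b (H.i2.le bo.1)).symm) |>.1
        (mem_C1.2 (bo.2.2 _ (H.i2.mul _ a1.1 z H.zT aQ H.zQ))) |> fun c =>
          mem_C1.2 (mem_C1.1 c).symm)
    have a3 : k * s * k⁻¹ ∈ Q ⊓ C1 z := ⟨a2, mem_C1.2 (a1.2.2 z H.zT).symm⟩
    have a4 : k * s * k⁻¹ ∉ zpowers s := fun c =>
      (sq_cases s2 c).elim (conj_ne_one s1) ks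
    have a5 : k * s * k⁻¹ = s * x := by
      rcases sq_cases s2 (iY.mul_inv a3 ⟨xo.1, mem_C1.2 xz⟩ a4 xs) with c | c
      · exfalso
        have e1 : x = b * z * (b * z) := by
          have : b * z * (b * z) = b * z * b⁻¹ * z := by
            rw [inv_eq_of_mul_eq_one_right bo.2.1, mul_assoc (b * z)]
          rw [this, t0, mul_assoc, xz, ← mul_assoc, z2, one_mul]
        have m1 := conj_mem_of_norm' hk (mul_mem (H.i2.le bo.1) H.zT)
        have m2 : k⁻¹ * (b * z) * k * (k⁻¹ * (b * z) * k) = s := by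
          calc _ = k⁻¹ * (b * z * (b * z)) * k := by group
            _ = s := by rw [← e1, ← mul_inv_eq_one.1 c]; group
        generalize k⁻¹ * (b * z) * k = m at m1 m2
        by_cases mQ : m ∈ Q
        · exact s1 (m2 ▸ q2 m mQ)
        · have m3 := H.i2.mul z H.zT m m1 H.zQ mQ
          refine H.d2.nt (oQ.symm ▸ m3 : z * m ∈ om Q) H.zT ?_
          rw [inv_eq_of_mul_eq_one_right (q2 _ m3), zi, ← m2]
          calc _ = z * z * m * (z * z) * m := by group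
            _ = _ := by rw [z2, one_mul, mul_one]
      · exact mul_inv_eq_iff_eq_mul.1 c
    have a6 : Trans.cj k Q = Trans.cj g Q := H.toQS.uniq (a5.trans e.symm)
    have a7 : Trans.cj k Q ≤ T := cj_le_iff.2 fun t ht => conj_mem_of_norm hk (H.i2.le ht)
    rcases le_or (C := Trans.cj k Q) fun a ha => inv a (a7 ha) (by
      have := conj_sq (g := k) (q2 _ (mem_cj.1 ha))
      simpa [mul_assoc] using this) with c | c
    · exact absurd (cj_eq_self_iff.1 (a6 ▸ eq_of_le_of_card_ge c (by rw [card_cj]))) hg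
    · exact eq_of_le_of_card_ge c (by rw [card_cj, cQ, cB])
  · have := c Q ⟨⟨fun a b => Subtype.ext (comm_of_sq q2 a.2 b.2)⟩⟩ fun a ha => by
      rw [sq, q2 a ha]
    omega

end Cfsg.Lib.N9M
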