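import Cfsg.Agent.N9M.Defs
import Cfsg.Agent.Ord6.Four

/-! The normal eight-group is self-centralising in `Q`, under the weak hypothesis. -/

set_option autoImplicit false

namespace Cfsg.Lib.N9M

open Subgroup Cfsg.Lib.Trans Cfsg.Lib.SC6
open Cfsg.Lib.Odd3 (conj_mem_of_norm conj_mem_of_norm' mem_norm_of_conj)
open Cfsg.Lib.L3 (sq_cases cube_cases SZ)

variable {G : Type*} [Group G] [Finite G]

theorem W6.swap {t y : G} (h : W6 t y) {T : Subgroup G} (hT : IsSylowIn 2 T (C1 t))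
    (h1 : IsSylowIn 2 T ⊤) (zc : om T ≤ zpowers t) {d : G} (dD : St t d)
    (dT : d ∈ T) (d2 : d * d = 1) (dt : d ∉ zpowers t) (i2 : I2 (T ⊓ C1 d) T)
    (hV : om (T ⊓ C1 d) ≤ VV t d) :
    ∃ g ∈ Nm (T ⊓ C1 d), g * d = d * g ∧ g * t * g⁻¹ = t * d := by
  have := Fact.mk Nat.prime_two
  have d1 : d ≠ 1 := fun e => dt (e ▸ one_mem _)
  have td := mem_C1.1 (hT.le dT)
  obtain ⟨S, s1, s2⟩ := exists_isSylowIn_ge (H := C1 d) hT.isPGroup.to_inf_left inf_le_right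
  have h2 : IsSylowIn 2 S ⊤ := by
    obtain ⟨k, rfl⟩ := dD
    refine h1.of_card_ge s1.isPGroup le_top ?_
    rw [← card_cj k T]
    exact s1.card_le (h1.cj k).isPGroup
      (cj_le_iff.2 fun a ha => mem_C1.2 (conj_comm (mem_C1.1 (hT.le ha))))
  have i3 : I2 (T ⊓ C1 d) S := I2.of_card s2 (h2.card_eq_card h1 ▸ i2.card_le)
  obtain ⟨c, -, c2⟩ := h1.exists_cj_eq h2
  have tI : t ∈ T ⊓ C1 d := ⟨mem_syl h.t2 hT, mem_C1.2 td.symm⟩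
  have key : ∀ z ∈ S, z * z = 1 → z ≠ 1 → S ≤ C1 z → c * z * c⁻¹ = t := fun z z1 z2 z3 z4 =>
    (sq_cases h.t2 (zc ⟨cj_le_iff.1 c2.le z z1, conj_sq z2, fun a ha => by
      simpa [mul_assoc] using conj_comm (g := c) (mem_C1.1 (z4 (mem_cj.1 (c2.ge ha))))⟩)).resolve_left
      (conj_ne_one z3)
  obtain ⟨g, g1, g2⟩ : ∃ g ∈ S, g ∉ C1 t := by
    by_contra! e
    have := (key t (s2 tI) h.t2 h.t1 e).trans (key d (s2 ⟨dT, mem_C1.2 rfl⟩) d2 d1 s1.le).symm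
    exact dt (by rw [← (mul_left_cancel (mul_right_cancel this) : t = d)]; exact mem_zpowers t)
  have g3 := mem_C1.1 (s1.le g1)
  refine ⟨g, i3.nm g1, g3, ?_⟩
  rcases V_cases td h.t2 d2 (hV (conj_mem_om (i3.nm g1)
    ⟨tI, h.t2, fun a ha => mem_C1.1 (hT.le ha.1)⟩)) with e | e | e | e
  · exact absurd e (conj_ne_one h.t1)
  · exact absurd (mem_C1.2 (mul_inv_eq_iff_eq_mul.1 e)) g2
  · rw [← conj_eq_of_comm g3] at e
    exact absurd (by rw [← (mul_left_cancel (mul_right_cancel e) : t = d)]; exact mem_zpowers t) dt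
  · exact e

/-- An involution of `Q` that is central in `T` modulo `t`. -/
structure D3 (t y s d : G) (Q T : Subgroup G) : Prop where
  c2 : D2 t y s Q T
  cf : Cf t y d Q
  dT : ∀ a ∈ T, a * d * a⁻¹ * d⁻¹ ∈ zpowers t
  top : IsSylowIn 2 T ⊤
  dD : St t d

namespace D3
variable {t y s d : G} {Q T : Subgroup G} (h : D3 t y s d Q T)
include h

theorem eQ {a : G} (ha : a ∈ T)
    (e : a * (y * d * y⁻¹) * a⁻¹ * (y * d * y⁻¹)⁻¹ ∈ zpowers t) : a ∈ Q := by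
  by_contra c
  exact h.cf.dt (h.c2.dd (mem_zpowers t) h.cf.fp.le (fun a ha => nm_zp (h.c2.cT ha)) h.cf.fp.yD
    ha c h.cf.dR (h.dT a ha) e)

theorem mem_II {a : G} (ha : a ∈ T ⊓ C1 d) (e : a * (y * d * y⁻¹) = y * d * y⁻¹ * a) :
    a ∈ II Q y d := ⟨⟨h.eQ ha.1 (comm_mem_of_eq e), ha.2⟩, mem_C1.2 e⟩

omit [Finite G] in
theorem II_le : II Q y d ≤ T ⊓ C1 d := fun _ ha => ⟨h.c2.i2.le ha.1.1, ha.1.2⟩

theorem nV : T ≤ Nm (VV t d) := fun a ha => mem_norm_of_conj fun _ hu =>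
  mem_cj_inv.1 (V_le (H := cj a⁻¹ (VV t d))
    (mem_cj_inv.2 (by rw [conj_eq_of_comm (h.c2.cT ha)]; exact tV t d))
    (mem_cj_inv.2 ((mul_mem_cancel_right (inv_mem (dV t d))).1 (zpV t d (h.dT a ha)))) hu)

theorem nU : T ≤ Nm (UU t y d) := by
  refine h.c2.i2.le_of h.c2.sT h.c2.sQ h.cf.nU (mem_norm_of_conj fun _ hu => ?_)
  have := fun u hu => VU t y d (conj_mem_of_norm (a := u) (h.nV h.c2.sT) hu)
  refine mem_cj_inv.1 (U_le (H := cj s⁻¹ (UU t y d)) (mem_cj_inv.2 (this _ (tV t d)))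
    (mem_cj_inv.2 (this _ (dV t d))) (mem_cj_inv.2 ?_) hu)
  have := conj_mem_of_norm' h.cf.yU (this _ (dV t d))
  convert this using 1
  calc _ = s * y * s⁻¹ * (s * d * s⁻¹) * (s * y * s⁻¹)⁻¹ := by group
    _ = _ := by rw [h.c2.sy, inv_inv]

theorem nI : T ≤ Nm (II Q y d) := fun _ ha => mem_norm_of_conj fun _ hb =>
  h.cf.conj_mem_II (h.c2.i2.nm ha) (h.nU ha) hb

theorem i2T : I2 (T ⊓ C1 d) T := i2_cent h.cf.t2 (fun _ => h.c2.cT) h.dT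

theorem eI : y * d * y⁻¹ ∈ T ⊓ C1 d := h.II_le (h.cf.UI (eU t y d))

theorem omI : om (T ⊓ C1 d) ≤ VV t d := fun z hz =>
  h.cf.l3 ⟨⟨h.eQ hz.1.1 (comm_mem_of_eq (hz.2.2 _ h.eI).symm), hz.1.2⟩, hz.2.1,
    fun a ha => hz.2.2 a ⟨h.c2.i2.le ha.1, ha.2⟩⟩

theorem omT : om T ≤ zpowers t := fun z hz =>
  h.cf.zc ⟨h.eQ hz.1 (comm_mem_of_eq (hz.2.2 _ h.eI.1).symm), hz.2.1,
    fun a ha => hz.2.2 a (h.c2.i2.le ha)⟩

theorem eV {g : G} (h1 : g ∈ Nm (UU t y d)) (h2 : g ∈ Nm (VV t d)) :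
    g * (y * d * y⁻¹) * g⁻¹ * (y * d * y⁻¹)⁻¹ ∈ VV t d :=
  h.cf.i2U.mul_inv (conj_mem_of_norm h1 (eU t y d)) (eU t y d)
    (fun c => h.cf.eV (by simpa [mul_assoc] using conj_mem_of_norm' h2 c)) h.cf.eV

theorem cyc {a b : G} (ha : a ∈ T) (a1 : a ∉ C1 d) (b1 : b * d = d * b)
    (b2 : b * t * b⁻¹ = t * d) : Cyc (a * b) t d := by
  have a2 := (h.cf.toLoc.conj_cases (h.dT a ha)).resolve_left fun c => a1 (mem_C1.2 c)
  refine ⟨h.cf.t2, h.cf.d2, h.cf.td, ?_, ?_⟩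
  · calc _ = a * (b * t * b⁻¹) * a⁻¹ := by group
      _ = a * t * a⁻¹ * (a * d * a⁻¹) := by rw [b2]; group
      _ = d := by rw [a2, conj_eq_of_comm (h.c2.cT ha), ← mul_assoc, h.cf.t2, one_mul]
  · rw [← a2, mul_assoc a, b1]; group

theorem exists_w : ∃ w ∈ Nm (T ⊓ C1 d), w ^ 3 = 1 ∧ Cyc w t d := by
  obtain ⟨g, g1, g2, g3⟩ := h.c2.w6.swap h.c2.syl h.top h.omT h.dD (h.c2.i2.le h.cf.dR) h.cf.d2
    h.cf.dt h.i2T h.omI
  obtain ⟨r, r1, r2⟩ := h.cf.exR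
  obtain ⟨j, n, c, e⟩ := (h.cyc (h.c2.i2.le r1) r2 g2 g3).exists_pow
  refine ⟨_, pow_mem (mul_mem (h.i2T.nm (h.c2.i2.le r1)) g1) j, ?_, c⟩
  by_contra f
  exact h.cf.dt (h.c2.w6.two (n := n) h.c2.pg f (by rw [← pow_mul, mul_comm, pow_mul, e, one_pow])
    h.c2.tQ h.cf.dR (mem_C1.1 c.cube.1) (mem_C1.1 c.cube.2) h.cf.t1
    (fun c => h.cf.dt (c ▸ one_mem _)) ▸ mem_zpowers t)

theorem case_a {w : G} (w1 : w ∈ Nm (T ⊓ C1 d)) (c : Cyc w t d)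
    (e : w * (y * d * y⁻¹) * w⁻¹ ∈ UU t y d) : II Q y d ≤ UU t y d := by
  have := Fact.mk Nat.prime_two
  have wU : w ∈ Nm (UU t y d) := mem_norm_of_conj fun _ hu =>
    mem_cj_inv.1 (U_le (H := cj w⁻¹ (UU t y d))
      (mem_cj_inv.2 (VU t y d (conj_mem_of_norm c.nV (tV t d))))
      (mem_cj_inv.2 (VU t y d (conj_mem_of_norm c.nV (dV t d)))) (mem_cj_inv.2 e) hu)
  have TU := h.nU
  by_contra f
  obtain ⟨m, m1, m2, -, -, m3⟩ := Solv.PG.exists_step_elt (p := 2) h.c2.syl.isPGroup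
    (h.c2.pg.to_le Cf.IR) TU h.nI (lt_of_le_not_ge h.cf.UI f)
  have m4 : ∀ g ∈ T, w * g * w⁻¹ * (w * m * w⁻¹) * (w * g * w⁻¹)⁻¹ * (w * m * w⁻¹)⁻¹ ∈ UU t y d :=
    fun g hg => by
      have := conj_mem_of_norm wU (comm_symm (m3 g (mem_sup_left hg)))
      convert this using 1; group
  have m5 : w * m * w⁻¹ ∈ II Q y d := h.mem_II (conj_mem_of_norm w1 (h.II_le m1)) (by
    simpa [mul_assoc] using conj_comm (g := w)
      ((h.cf.U_om (conj_mem_of_norm' wU (eU t y d))).2.2 m m1))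
  have m6 := (h.cf.fp.mono (zpU t y d) h.cf.UR h.cf.nU h.cf.yU).idx (Cf.IR m5) h.cf.i2R
    fun b hb => by
      simpa [mul_assoc] using m4 _ (conj_mem_of_norm' w1 ⟨h.c2.i2.le hb.1, hb.2⟩).1
  obtain ⟨r, r1, r2⟩ := h.cf.exR
  have rT := h.c2.i2.le r1
  have r3 := (h.cf.toLoc.conj_cases (h.dT r rT)).resolve_left fun c => r2 (mem_C1.2 c)
  have n1 : w * r * w⁻¹ ∈ Nm (UU t y d) := mul_mem (mul_mem wU (TU rT)) (inv_mem wU)
  have n2 : w * r * w⁻¹ ∈ Nm (VV t d) := mul_mem (mul_mem c.nV (h.nV rT)) (inv_mem c.nV)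
  have c1 := h.cyc (b := w * r * w⁻¹) rT r2 (by rw [← c.gt]; exact conj_comm (h.c2.cT rT)) (by
    calc _ = w * r * w⁻¹ * (w * (t * d) * w⁻¹) * (w * r * w⁻¹)⁻¹ := by rw [c.gtd]
      _ = w * (r * t * r⁻¹ * (r * d * r⁻¹)) * w⁻¹ := by group
      _ = _ := by
        rw [r3, conj_eq_of_comm (h.c2.cT rT), ← mul_assoc t, h.cf.t2, one_mul, c.gd])
  have := h.c2.w6.kc h.c2.pg h.cf.UR (VU t y d) (c1.three h.cf.dt) (Cf.IR m5) (eU t y d) h.cf.eV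
    (mul_mem ⟨TU rT, m6 r r1⟩ ⟨n1, m4 r rT⟩)
    ⟨c1.nV, h.eV (mul_mem (TU rT) n1) c1.nV⟩
  exact m2 (by simpa [mul_assoc] using conj_mem_of_norm' wU this)

theorem self : II Q y d ≤ UU t y d := by
  obtain ⟨w, w1, w3, c⟩ := h.exists_w
  have TU := h.nU
  have key : ∀ g ∈ Nm (T ⊓ C1 d), g ∈ Nm (VV t d) → ∀ i ∈ T ⊓ C1 d,
      i * (g * (y * d * y⁻¹) * g⁻¹) * i⁻¹ * (g * (y * d * y⁻¹) * g⁻¹)⁻¹ ∈ VV t d :=
    fun g g1 g2 i hi => by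
      have i1 := (conj_mem_of_norm' g1 hi).1
      have := conj_mem_of_norm g2 (h.eV (TU i1) (h.nV i1))
      convert this using 1; group
  have b1 : ∀ g ∈ Nm (T ⊓ C1 d), g ∈ Nm (VV t d) → g * (y * d * y⁻¹) * g⁻¹ ∉ Q →
      II Q y d ≤ UU t y d := fun g g1 g2 e a ha =>
    h.c2.dd (zpU t y d (mem_zpowers t)) h.cf.UR TU h.cf.yU (conj_mem_of_norm g1 h.eI).1 e
      (Cf.IR ha) (comm_symm (VU t y d (key g g1 g2 a (h.II_le ha))))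
      (comm_symm (VU t y d (key g g1 g2 _ (h.II_le (conj_mem_of_norm h.cf.yI ha)))))
  by_cases q1 : w * (y * d * y⁻¹) * w⁻¹ ∈ Q
  swap; · exact b1 w w1 c.nV q1
  by_cases q2 : w⁻¹ * (y * d * y⁻¹) * w⁻¹⁻¹ ∈ Q
  swap; · exact b1 _ (inv_mem w1) (inv_mem c.nV) q2
  by_cases q3 : w * (y * d * y⁻¹) * w⁻¹ ∈ UU t y d
  · exact h.case_a w1 c q3
  exfalso
  have l1 := h.cf.li q1 fun r hr => key w w1 c.nV r (h.II_le hr)
  have l2 := h.cf.li q2 fun r hr => key _ (inv_mem w1) (inv_mem c.nV) r (h.II_le hr)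
  have p1 := h.cf.conj.dc _ q1
  have p2 := conj_zp (g := w) (h.cf.conj.dc _ q2)
  have p3 := conj_mem_of_norm w1 h.eI
  have p4 := conj_sq (g := w) h.cf.conj.d2
  have mI := fun {a} => h.mem_II (a := a)
  have eC : ∀ a ∈ II Q y d, a * (y * d * y⁻¹) = y * d * y⁻¹ * a := fun a ha => mem_C1.1 ha.2
  generalize y * d * y⁻¹ = e at *
  have p5 : w * e * w⁻¹ ∈ II Q y d := mI p3 (eq_of_comm_one (eq_one_of_zp h.cf.d2 h.cf.dt p1 (by
    rw [c.gt] at p2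
    refine comm_symm ?_
    convert p2 using 1; group)))
  have i1 : I2 (II Q y d ⊓ C1 (w * e * w⁻¹)) (II Q y d) :=
    i2_cent h.cf.t2 (fun b hb => h.cf.cen b (Cf.IR hb)) l1
  have nle : ¬ II Q y d ≤ C1 (w * e * w⁻¹) := fun f =>
    q3 (h.cf.k1 ⟨p5, p4, fun a ha => mem_C1.1 (f ha)⟩)
  obtain ⟨r, r1, r2⟩ := SetLike.not_le_iff_exists.1 nle
  have pg := h.c2.pg.to_le (Cf.IR (y := y) (d := d))
  have n1 := i1.card r1 fun f => r2 f.2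
  have n2 := h.c2.w6.card_two (n := 1) pg h.c2.w6.y1 (by rw [pow_one, h.c2.w6.y3]) h.cf.yI
    (h.cf.UI (zpU t y d (mem_zpowers t))) h.cf.yt h.cf.t1
  have wJ : w ∈ Nm (II Q y d ⊓ C1 (w * e * w⁻¹)) := mem_norm_of_conj fun j hj => by
    have j1 := mI (conj_mem_of_norm' w1 (h.II_le hj.1)) (by
      simpa [mul_assoc] using conj_comm (g := w⁻¹) (mem_C1.1 hj.2))
    have j2 := conj_zp (g := w) (l1 _ j1)
    rw [c.gt] at j2
    have j3 := eq_of_comm_one (eq_one_of_zp h.cf.d2 h.cf.dt (l2 j hj.1) (by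
      rw [inv_inv, ← yy w3]
      generalize w * e * w⁻¹ = x at j2 ⊢
      convert j2 using 1; simp [mul_assoc]))
    exact ⟨mI (conj_mem_of_norm w1 (h.II_le hj.1)) (by
      simpa [mul_assoc] using conj_comm (g := w) j3), mem_C1.2 (conj_comm (eC j hj.1))⟩
  have fp := h.c2.w6.fpf pg.to_inf_left (fun f => h.cf.dt (by
    rw [← c.gt, f]; simp)) w3 wJ (by omega)
  generalize w * e * w⁻¹ = x at *
  have x1 := fp.core_cm (a := y * x * y⁻¹) ⟨conj_mem_of_norm h.cf.yI p5,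
    mem_C1.2 (h.cf.toLoc.invol q1 p4).symm⟩ le_rfl wJ (by
      rw [cm_bot]
      exact i2_cent h.cf.t2 (fun b hb => h.cf.cen b (Cf.IR hb.1)) fun b hb =>
        comm_symm (h.cf.fp.cc (Cf.IR hb.1) q1 (comm_symm (l1 b hb.1))))
  have x2 : ∀ a ∈ II Q y d ⊓ C1 x, y⁻¹ * a * y ∈ II Q y d ⊓ C1 x := fun a ha =>
    ⟨conj_mem_of_norm' h.cf.yI ha.1, mem_C1.2 (by
      simpa [mul_assoc] using conj_comm (g := y⁻¹) (eq_of_comm_one (x1 a ha)))⟩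
  exact nle (h.cf.fp.core Cf.IR h.cf.yI (fun a ha f => by
      have := (x2 _ (x2 a ⟨ha, f⟩)).2
      rwa [← yy h.c2.w6.y3 (y⁻¹ * a * y), show y * (y⁻¹ * a * y) * y⁻¹ = a by group] at this)
    (zpowers_le.2 (mem_C1.2 (h.cf.cen x q1).symm))
    fun a ha b hb a1 b1 => (i1.mul a ha b hb (fun f => a1 f.2) fun f => b1 f.2).2)

theorem cardQ : Nat.card Q = 32 := by
  obtain ⟨r, r1, r2⟩ := h.cf.exI
  rw [h.cf.cardR, h.cf.i2I.card r1 r2, le_antisymm h.self h.cf.UI, h.cf.cardU]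

end D3

theorem D2.port {y s : G} {Q T : Subgroup G} {t d : G} (H : D2 t y s Q T) (cf : Cf t y d Q)
    (dT : ∀ a ∈ T, a * d * a⁻¹ * d⁻¹ ∈ zpowers t) (top : IsSylowIn 2 T ⊤) (dD : St t d) :
    II Q y d ≤ UU t y d ∧ Nat.card Q = 32 :=
  have h : D3 t y s d Q T := ⟨H, cf, dT, top, dD⟩
  ⟨h.self, h.cardQ⟩

end Cfsg.Lib.N9M
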