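import Cfsg.Agent.N9M.Kit
import Cfsg.Agent.N9M.Port
import Cfsg.Agent.N9M.Gen
import Cfsg.Agent.N9M.F2
import Cfsg.Agent.N9M.Dd

/-! The soluble case with cyclic `Ω₁ Z(Q)`: the `2`-rank of the group is three. -/

set_option autoImplicit false

namespace Cfsg.Lib.N9M

open Subgroup Cfsg.Lib.Trans Cfsg.Lib.SC6
open Cfsg.Lib.Odd3 (conj_mem_of_norm conj_mem_of_norm' mem_norm_of_conj)
open Cfsg.Lib.L3 (sq_cases cube_cases SZ)

variable {G : Type*} [Group G] [Finite G] {u s c z y w h : G} {Q T X : Subgroup G}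

namespace Rank1

omit [Finite G] in
theorem comm_of_sq {B : Subgroup G} (b2 : ∀ a ∈ B, a * a = 1) {a b : G} (ha : a ∈ B) (hb : b ∈ B) :
    a * b = b * a := by
  have e := inv_eq_of_mul_eq_one_right (b2 _ (mul_mem ha hb))
  rw [← e, mul_inv_rev, inv_eq_of_mul_eq_one_right (b2 a ha), inv_eq_of_mul_eq_one_right (b2 b hb)]

theorem nq {d : G} (cf : Cf s u d Q) (c32 : Nat.card Q = 32) {B : Subgroup G} (le : B ≤ Q)
    (b2 : ∀ a ∈ B, a * a = 1) (c16 : 16 ≤ Nat.card B) : False := by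
  have i2 : I2 B Q := I2.of_card le (by omega)
  by_cases e : Q ≤ B
  · exact cf.dt (cf.zc ⟨cf.dR, cf.d2, fun a ha => comm_of_sq b2 (e ha) (e cf.dR)⟩)
  obtain ⟨q, hq, q1⟩ := SetLike.not_le_iff_exists.1 e
  have k1 : I2 (B ⊓ C1 q) B := i2_cent cf.t2 (fun b hb => cf.cen b (le hb)) fun b hb =>
    comm_symm (cf.fp.idx (le hb) i2 (fun a ha => comm_mem_of_eq (comm_of_sq b2 ha hb)) q hq)
  have k2 : B ⊓ C1 q ≤ zpowers s := fun x hx => cf.zc ⟨le hx.1, b2 x hx.1, fun a ha =>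
    mem_C1.1 (i2.le_of (L := C1 x) hq q1 (fun b hb => mem_C1.2 (comm_of_sq b2 hb hx.1))
      (mem_C1.2 (mem_C1.1 hx.2).symm) ha)⟩
  have k3 := Subgroup.card_le_of_le k2
  have k4 := k1.card_le
  rw [card_zp cf.t2 cf.t1] at k3
  omega

omit [Finite G] in
theorem nrm_mul {a b : G} (e : a * b = b * a) (h1 : nrm u a = 1) (h2 : nrm u b = 1)
    (h3 : nrm u (a * b) = 1) : b * (u * a * u⁻¹) = u * a * u⁻¹ * b := by
  have e2 : u⁻¹ * a * u * (u⁻¹ * b * u) = u⁻¹ * b * u * (u⁻¹ * a * u) := by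
    simpa using conj_comm (g := u⁻¹) e
  have h4 : nrm u (a * b) = a * b * (u * a * u⁻¹) * (u * b * u⁻¹) *
      (u⁻¹ * a * u * (u⁻¹ * b * u)) := by rw [nrm]; group
  rw [h3, e2, eq_inv_of_mul_eq_one_right h1, eq_inv_of_mul_eq_one_right h2] at h4
  generalize u * a * u⁻¹ = p at h4 ⊢
  generalize u * b * u⁻¹ = q at h4
  refine eq_of_comm_one ?_
  calc b * p * b⁻¹ * p⁻¹ = a⁻¹ * (a * b * p * q * ((b * q)⁻¹ * (a * p)⁻¹)) * a := by group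
    _ = 1 := by rw [← h4]; group

theorem fin (H : CS u s c z Q T) {d : G} (cf : Cf s u d Q) (top : IsSylowIn 2 T ⊤)
    (dz : d * z = z * d) (c8 : 8 ≤ Nat.card ↥(Q ⊓ C1 z))
    (hY : ∀ a ∈ Q, a * z * a⁻¹ * z⁻¹ ∈ zpowers s → a * z = z * a ∧ a * a = 1) : False := by
  have zs := H.hy.zs
  by_cases zD : St s z
  · obtain ⟨k, k1, k2⟩ := H.toQS.f2 zD
    obtain ⟨q, q1, q2⟩ := H.f1q k1 k2
    have := (hY q q1 (by rw [q2, zs, mul_inv_cancel_right]; exact mem_zpowers s)).1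
    rw [this, mul_inv_cancel_right] at q2
    exact cf.t1 (by simpa using q2)
  have y2 : ∀ a ∈ Q ⊓ C1 z, a * a = 1 := fun a ha =>
    (hY a ha.1 (comm_mem_of_eq (mem_C1.1 ha.2))).2
  have sY : s ∈ Q ⊓ C1 z := ⟨H.sQ, mem_C1.2 zs.symm⟩
  have k1 : ∀ r ∈ Q ⊓ C1 z, ∀ a ∈ T, a * r * a⁻¹ * r⁻¹ ∈ zpowers s := fun r hr a ha => by
    have l : Q ≤ Q ⊓ cm (zpowers s) r := H.toQS.gen inf_le_left
      (mem_norm_of_conj fun b hb => ⟨cf.fp.conj hb.1, cf.fp.nD (cf.fp.conj hb.1),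
        cf.fp.cc hr.1 hb.1 hb.2.2⟩)
      fun b hb e => ⟨hb, cf.fp.nD hb, comm_mem_of_eq (comm_of_sq y2 ⟨hb, mem_C1.2 (hY b hb e).1⟩ hr)⟩
    exact (H.i2.le_of (L := cm (zpowers s) r) H.zT H.zQ (l.trans inf_le_right)
      ⟨nm_zp zs, comm_mem_of_eq (mem_C1.1 hr.2).symm⟩ ha).2
  have k2 : ∀ r ∈ Q ⊓ C1 z, r ∉ zpowers s → St s r ∧
      ((r ∈ Trans.cj c Q ∧ nrm u r = 1) ∨ (r * s ∈ Trans.cj c Q ∧ nrm u (r * s) = 1)) :=
    fun r hr e => (H.dD hr.1 (y2 r hr) (fun a => e (cf.zc a)) (k1 r hr)).2.imp_right fun a => a zD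
  have k3 : ∀ r ∈ Q ⊓ C1 z, r ∉ zpowers s → r ∈ Trans.cj c Q → nrm u r = 1 := fun r hr e e' =>
    (k2 r hr e).2.elim (fun a => a.2) fun a =>
      absurd ((mul_mem_cancel_left e').1 a.1) H.toQS.sQc
  have k4 : ∀ V : Subgroup G, s ∈ V → ∀ r ∈ Q ⊓ C1 z, r ∉ V →
      ∃ r ∈ Q ⊓ C1 z, r ∉ V ∧ r ∈ Trans.cj c Q := fun V hV r hr e => by
    rcases (k2 r hr fun a => e (zpowers_le.2 hV a)).2 with a | a
    · exact ⟨r, hr, e, a.1⟩
    · exact ⟨r * s, mul_mem hr sY, fun b => e ((mul_mem_cancel_right hV).1 b), a.1⟩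
  obtain ⟨a, ha, a1, a2⟩ := k4 _ (mem_zpowers s) d ⟨cf.dR, mem_C1.2 dz⟩ cf.dt
  have ca : Cf s u a Q := ⟨cf.toLoc, cf.zc, ha.1, y2 a ha, a1, fun b hb => k1 a ha b (H.i2.le hb)⟩
  obtain ⟨b, hb, b0⟩ : ∃ b ∈ Q ⊓ C1 z, b ∉ VV s a := by
    by_contra! e
    have := Subgroup.card_le_of_le (show Q ⊓ C1 z ≤ VV s a from e)
    rw [ca.cardV] at this
    omega
  obtain ⟨b, hb, b1, b2⟩ := k4 _ (tV s a) b hb b0
  have ab := comm_of_sq y2 ha hb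
  have na := k3 a ha a1 a2
  have e1 := nrm_mul ab na (k3 b hb (fun e => b1 (zpV s a e)) b2)
    (k3 _ (mul_mem ha hb) (fun e => b1 ((mul_mem_cancel_left (dV s a)).1 (zpV s a e)))
      (mul_mem a2 b2))
  have e2 := (H.d2.port ca (k1 a ha) top (k2 a ha a1).1).1
    (show b ∈ II Q u a from ⟨⟨hb.1, mem_C1.2 ab.symm⟩, mem_C1.2 e1⟩)
  have e3 : u * a * u⁻¹ ∈ C1 z := ((C1 z).mul_mem_cancel_left hb.2).1
    (V_le sY.2 ha.2 ((ca.mem_U.1 e2).resolve_left b1))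
  have e4 := H.toQS.tau0 ha.1 (y2 a ha) (mem_C1.1 ha.2) na
  rw [conj_eq_of_comm (mem_C1.1 e3)] at e4
  exact a1 (by rw [show a = 1 by simpa using e4]; exact one_mem _)

end Rank1

open Rank1

theorem CS.rank1 (H : CS u s c z Q T) {d : G} (cf : Cf s u d Q)
    (dT : ∀ a ∈ T, a * d * a⁻¹ * d⁻¹ ∈ zpowers s) : PRankLE 2 3 G ∧ ¬ PRankLE 2 2 G := by
  have := Fact.mk Nat.prime_two
  have top := H.top (fun e => cf.dt (e cf.dR)) cf.zc
  obtain ⟨dz, dD, -⟩ := H.dD cf.dR cf.d2 (fun e => cf.dt (cf.zc e)) dT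
  have c32 := (H.d2.port cf dT top dD).2
  refine ⟨fun A _ a2 => ?_, fun e => ?_⟩
  swap
  · have u2 : ∀ a ∈ UU s u d, a * a = 1 := fun a ha => (cf.U_om ha).2.1
    have := e (UU s u d) ⟨⟨fun a b => Subtype.ext (comm_of_sq u2 a.2 b.2)⟩⟩
      fun a ha => by rw [sq, u2 a ha]
    rw [cf.cardU] at this
    omega
  by_contra! c8
  have pA : IsPGroup 2 A := fun a => ⟨1, Subtype.ext (by simpa using a2 a a.2)⟩
  have c16 : 16 ≤ Nat.card A := by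
    obtain ⟨k, hk⟩ := pA.exists_card_eq
    rw [hk] at c8 ⊢
    exact Nat.pow_le_pow_right (n := 2) (by norm_num) (show 4 ≤ k from
      (Nat.pow_lt_pow_iff_right (a := 2) (by norm_num)).1 c8)
  obtain ⟨g, -, hg⟩ := top.exists_cj_le pA le_top
  rw [← card_cj g A] at c16
  have b2 : ∀ a ∈ Trans.cj g A, a * a = 1 := by
    rintro _ ⟨a, ha, rfl⟩
    exact conj_sq (by rw [← sq, a2 a ha])
  generalize Trans.cj g A = B at hg c16 b2
  by_cases e : B ≤ Q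
  · exact nq cf c32 e b2 c16
  obtain ⟨k, k1, k2⟩ := SetLike.not_le_iff_exists.1 e
  have c8' := (H.i2.inf hg).card_le
  obtain ⟨b, hb, e1⟩ := kb0 H.hy cf.toLoc (H.i2.nm H.zT) (H.i2.mul_inv (hg k1) H.zT k2 H.zQ)
    (b2 k k1 ▸ one_mem _)
  have l1 : Trans.cj b (B ⊓ Q) ≤ Q ⊓ C1 z := by
    rintro _ ⟨a, ha, rfl⟩
    have aQ : b * a * b⁻¹ ∈ Q := mul_mem (mul_mem hb ha.2) (inv_mem hb)
    have e2 := mem_C1.2 (conj_comm (g := b) (comm_of_sq b2 ha.1 k1))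
    refine ⟨aQ, ?_⟩
    rcases e1 with e1 | e1 <;> rw [e1] at e2
    · exact e2
    · have e3 := mem_C1.1 e2
      have e4 := cf.cen _ aQ
      refine mem_C1.2 (mul_right_cancel (b := s) ?_)
      change b * a * b⁻¹ * z * s = z * (b * a * b⁻¹) * s
      rw [mul_assoc _ z, e3, mul_assoc z, mul_assoc z, e4]
  have l2 : Q ⊓ C1 z ≤ Q ⊓ cm (zpowers s) z := fun a ha =>
    ⟨ha.1, cf.fp.nD ha.1, comm_mem_of_eq (mem_C1.1 ha.2)⟩
  have n1 := H.toQS.cardY1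
  have n2 := card_cj b (B ⊓ Q)
  have n3 : Nat.card ↥(Q ⊓ cm (zpowers s) z) ≤ 8 := by
    rw [c32] at n1
    by_contra! f
    nlinarith
  have n4 := Subgroup.card_le_of_le l1
  have e5 := Subgroup.eq_of_le_of_card_ge (l1.trans l2) (by omega)
  refine fin H cf top dz (by omega) fun a ha e => ?_
  have m := e5.ge (show a ∈ Q ⊓ cm (zpowers s) z from ⟨ha, cf.fp.nD ha, e⟩)
  refine ⟨mem_C1.1 (l1 m).2, ?_⟩
  obtain ⟨x, hx, rfl⟩ := m
  exact conj_sq (b2 x hx.1)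

end Cfsg.Lib.N9M
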