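import Cfsg.Agent.N9M.Gen
import Cfsg.Agent.N9M.Kit

/-! The case `C(s) / Q ≅ A₅`. -/

set_option autoImplicit false

namespace Cfsg.Lib.N9M

open Subgroup Cfsg.Lib.Trans Cfsg.Lib.SC6
open Cfsg.Lib.Odd3 (conj_mem_of_norm conj_mem_of_norm' mem_norm_of_conj)
open Cfsg.Lib.L3 (sq_cases cube_cases SZ)

variable {G : Type*} [Group G] [Finite G] {u s c z y w h : G} {Q T X : Subgroup G}

namespace TriA

abbrev A5 := alternatingGroup (Fin 5)

def a0 : A5 := ⟨Equiv.swap 0 1 * Equiv.swap 2 3, Equiv.Perm.mem_alternatingGroup.2 (by decide)⟩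

def b0 : A5 := ⟨Equiv.swap 0 1 * Equiv.swap 1 2, Equiv.Perm.mem_alternatingGroup.2 (by decide)⟩

theorem f1 : ∀ a : A5, a * a = 1 → a ≠ 1 → ∃ h : A5, h * a * h⁻¹ = a0 := by decide +kernel

theorem f2 : ∀ x : A5, x * a0 = a0 * x → (x = 1 ∨ x * a0 = 1 ∨ x * (b0 * a0 * b0⁻¹) = 1 ∨
    x * (b0⁻¹ * a0 * b0) = 1) ∧ b0 * x * b0⁻¹ * a0 = a0 * (b0 * x * b0⁻¹) ∧ x * x = 1 := by
  decide +kernel

theorem f3 : b0 ^ 3 = 1 ∧ b0 ≠ 1 ∧ a0 ≠ 1 := by decide +kernel

theorem f4 : (Finset.univ.filter fun x : A5 => x * a0 = a0 * x).card = 4 := by decide +kernel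

theorem card5 : Nat.card A5 = 60 := by
  have := two_mul_nat_card_alternatingGroup (α := Fin 5)
  rw [Nat.card_perm, Nat.card_fin, show Nat.factorial 5 = 120 by rfl] at this
  show Nat.card (alternatingGroup (Fin 5)) = 60
  omega

theorem cardK : Nat.card (C1 a0) = 4 := by
  rw [← f4, ← Fintype.card_subtype, ← Nat.card_eq_fintype_card]
  exact Nat.card_congr (Equiv.subtypeEquivRight fun x => mem_C1)

theorem idxK : (C1 a0).index = 15 := by
  have := (C1 a0).card_mul_index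
  rw [cardK, card5] at this
  omega

/-- The preimage of `L`. -/
def pre {s : G} (φ : C1 s →* A5) (L : Subgroup A5) : Subgroup G := (L.comap φ).map (C1 s).subtype

omit [Finite G] in
theorem mem_pre {φ : C1 s →* A5} {L : Subgroup A5} {a : G} :
    a ∈ pre φ L ↔ ∃ h : a ∈ C1 s, φ ⟨a, h⟩ ∈ L :=
  ⟨fun ⟨b, h1, h2⟩ => h2 ▸ ⟨b.2, h1⟩, fun ⟨h1, h2⟩ => ⟨⟨a, h1⟩, h2, rfl⟩⟩

omit [Finite G] in
theorem coe_pre {φ : C1 s →* A5} {L : Subgroup A5} (a : C1 s) : (a : G) ∈ pre φ L ↔ φ a ∈ L :=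
  mem_pre.trans ⟨fun ⟨_, h⟩ => h, fun h => ⟨a.2, h⟩⟩

omit [Finite G] in
theorem pre_le (φ : C1 s →* A5) (L : Subgroup A5) : pre φ L ≤ C1 s := map_subtype_le _

omit [Finite G] in
theorem card_pre {φ : C1 s →* A5} (hs : Function.Surjective φ) (L : Subgroup A5) :
    Nat.card (pre φ L) = Nat.card L * Nat.card (pre φ ⊥) := by
  have key : ∀ K : Subgroup A5, Nat.card (pre φ K) * K.index = Nat.card (C1 s) := fun K => by
    rw [pre, card_map_of_injective (C1 s).subtype_injective, ← index_comap_of_surjective K hs,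
      card_mul_index]
  have h1 := key L
  have h2 := key ⊥
  rw [index_bot, ← L.card_mul_index, ← h1, mul_comm (Nat.card L), ← mul_assoc, mul_right_comm] at h2
  rw [← Nat.eq_of_mul_eq_mul_right (Nat.pos_of_ne_zero L.index_ne_zero_of_finite) h2, mul_comm]

theorem core (H : Hy u s c z) (φ : C1 s →* A5) (hs : Function.Surjective φ)
    (ks : φ ⟨s, mem_C1.2 rfl⟩ = 1) (hq : ∀ a : C1 s, φ a = 1 → (a : G) * a ∈ zpowers s)
    (ab : ∀ a b : C1 s, φ a = 1 → φ b = 1 → (a : G) * b * (a : G)⁻¹ * (b : G)⁻¹ ∈ zpowers s)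
    (ne : ∃ a : C1 s, φ a = 1 ∧ (a : G) ∉ zpowers s) (hz : φ ⟨z, mem_C1.2 H.zs⟩ = a0) :
    ∃ y Q T, CA u s c z y Q T := by
  have s2 := H.w6.t2
  set Z : C1 s := ⟨z, mem_C1.2 H.zs⟩ with hZ
  have zZ : z = (Z : G) := rfl
  have q4 : ∀ a : C1 s, φ a = 1 → (a : G) ^ 4 = 1 := fun a ha => by
    rw [show (a : G) ^ 4 = a * a * (a * a) by rw [pow_succ, pow_succ, sq, mul_assoc]]
    rcases sq_cases s2 (hq a ha) with e | e <;> rw [e]
    · exact mul_one 1
    · exact s2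
  have pT : IsPGroup 2 (pre φ (C1 a0)) := fun a => ⟨3, Subtype.ext <| by
    obtain ⟨a, h1⟩ := a
    lift a to C1 s using pre_le _ _ h1
    have := q4 (a * a) (by rw [map_mul, (f2 _ (mem_C1.1 ((coe_pre a).1 h1))).2.2])
    rw [Subgroup.coe_mul, ← pow_two, ← pow_mul] at this
    exact this⟩
  have QT : pre φ ⊥ ≤ pre φ (C1 a0) := map_mono (comap_mono bot_le)
  have pQ : IsPGroup 2 (pre φ ⊥) := pT.to_le QT
  have sQ : s ∈ pre φ ⊥ := mem_pre.2 ⟨_, ks⟩
  have nQ : C1 s ≤ Nm (pre φ ⊥) := fun g hg => mem_norm_of_conj fun a ha => by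
    lift a to C1 s using pre_le _ _ ha
    lift g to C1 s using hg
    exact (coe_pre (g * a * g⁻¹)).2 (by simpa using (coe_pre a).1 ha)
  obtain ⟨y, y3, hy⟩ : ∃ y : C1 s, (y : G) ^ 3 = 1 ∧ φ y = b0 := by
    obtain ⟨y0, h0⟩ := hs b0
    have := Fact.mk Nat.prime_three
    have h3 : 3 ∣ orderOf (y0 : G) := by
      rw [orderOf_coe, ← orderOf_eq_prime f3.1 f3.2.1, ← h0]
      exact orderOf_map_dvd φ y0
    obtain ⟨m, n, m3, -, g3⟩ := three_part h3
    refine ⟨(y0 ^ m) ^ m, ?_, ?_⟩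
    · rw [Subgroup.coe_pow, Subgroup.coe_pow, ← pow_mul, mul_comm, pow_mul, H.exp3 _ n g3, one_pow]
    · obtain ⟨j, hj⟩ : ∃ j, m * m = 3 * j + 1 := by
        obtain ⟨k, hk | hk⟩ : ∃ k, m = 3 * k + 1 ∨ m = 3 * k + 2 := ⟨m / 3, by omega⟩
        · exact ⟨3 * k * k + 2 * k, by rw [hk]; ring⟩
        · exact ⟨3 * k * k + 4 * k + 1, by rw [hk]; ring⟩
      rw [map_pow, map_pow, h0, ← pow_mul, hj, pow_succ, pow_mul, f3.1, one_pow, one_mul]
  refine ⟨y, pre φ ⊥, pre φ (C1 a0), ⟨H, pQ, sQ, pre_le _ _, nQ, fun e => f3.2.2 ?_,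
    fun g hg gQ g2 => ?_⟩, ⟨pre_le _ _, pT, ?_⟩, QT, ?_, y3, fun e => f3.2.1 ?_, mem_C1.1 y.2,
    mem_norm_of_conj fun a ha => ?_, by rw [card_pre hs, cardK], fun a ha => ?_, fun a ha => ?_,
    fun a ha b hb => ?_, fun g hg e => ?_, fun N h1 h2 h3 => ?_, ?_, fun e => ?_⟩
  · exact hz ▸ (coe_pre Z).1 e
  · lift g to C1 s using hg
    obtain ⟨k, hk⟩ := f1 (φ g) (by
      rw [← map_mul]; exact (coe_pre (g * g)).1 (zpowers_le.2 sQ g2)) fun e => gQ ((coe_pre g).2 e)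
    obtain ⟨k, rfl⟩ := hs k
    obtain ⟨b, b1, b2⟩ := kb0 H (H.w6.loc pQ sQ (pre_le _ _) (nQ (mem_C1.2 H.w6.yt))) (nQ Z.2)
      (g := k * g * (k : G)⁻¹) ((coe_pre (k * g * k⁻¹ * Z⁻¹)).2 (by
        rw [map_mul, map_mul, map_mul, map_inv, map_inv, hk, hz, mul_inv_cancel]; exact one_mem _))
      (by
        have := conj_mem_of_norm (nm_zp (mem_C1.1 k.2)) g2
        convert this using 1; group)
    refine ⟨b * k, mul_mem (pre_le _ _ b1) k.2, ?_⟩
    convert b2 using 2 <;> group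
  · rw [relIndex, pre, subgroupOf, comap_map_eq_self_of_injective (C1 s).subtype_injective,
      index_comap_of_surjective _ hs, idxK]
    norm_num
  · exact (coe_pre Z).2 (mem_C1.2 (by rw [hz]))
  · rw [← hy, show y = 1 from Subtype.ext e, map_one]
  · lift a to C1 s using pre_le _ _ ha
    refine (coe_pre (y * a * y⁻¹)).2 (mem_C1.2 ?_)
    rw [map_mul, map_mul, map_inv, hy]
    exact (f2 _ (mem_C1.1 ((coe_pre a).1 ha))).2.1
  · lift a to C1 s using pre_le _ _ ha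
    refine (f2 _ (mem_C1.1 ((coe_pre a).1 ha))).1.imp (coe_pre a).2 (Or.imp
      (fun e => (coe_pre (a * Z)).2 ?_) (Or.imp (fun e => (coe_pre (a * (y * Z * y⁻¹))).2 ?_)
        fun e => (coe_pre (a * (y⁻¹ * Z * y))).2 ?_)) <;>
      simpa only [map_mul, map_inv, hy, hz, mem_bot] using e
  · lift a to C1 s using pre_le _ _ ha
    exact hq a ((coe_pre a).1 ha)
  · lift a to C1 s using pre_le _ _ ha
    lift b to C1 s using pre_le _ _ hb
    exact ab a b ((coe_pre a).1 ha) ((coe_pre b).1 hb)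
  · lift g to C1 s using hg
    have := (coe_pre (g * Z * g⁻¹ * Z⁻¹)).1 e
    rw [map_mul, map_mul, map_mul, map_inv, map_inv, hz, mem_bot, mul_inv_eq_one,
      mul_inv_eq_iff_eq_mul] at this
    exact (coe_pre g).2 (mem_C1.2 this)
  · have hn : (N.subgroupOf (C1 s)).Normal := (normal_subgroupOf_iff_le_normalizer h2).2 h3
    rcases (hn.map φ hs).eq_bot_or_eq_top with e | e
    · refine Or.inl (le_antisymm (fun a ha => ?_) h1)
      lift a to C1 s using h2 ha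
      exact (coe_pre a).2 (e ▸ mem_map_of_mem φ (mem_subgroupOf.2 ha))
    · refine Or.inr (le_antisymm h2 fun a ha => ?_)
      lift a to C1 s using ha
      obtain ⟨n, n1, n2⟩ := e.ge (mem_top (φ a))
      have := h1 ((coe_pre (a * n⁻¹)).2 (by rw [map_mul, map_inv, n2, mul_inv_cancel]; exact one_mem _))
      exact (N.mul_mem_cancel_right (inv_mem (mem_subgroupOf.1 n1))).1 this
  · have := Fact.mk Nat.prime_five
    obtain ⟨w, hw⟩ := exists_prime_orderOf_dvd_card' (G := C1 s) 5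
      ((show 5 ∣ Nat.card A5 by rw [card5]; norm_num).trans (card_dvd_of_surjective φ hs))
    refine ⟨w, w.2, ?_, fun e => ?_⟩
    · rw [← hw, ← orderOf_coe, pow_orderOf_eq_one]
    · rw [show w = 1 from Subtype.ext e, orderOf_one] at hw; norm_num at hw
  · obtain ⟨a, a1, a2⟩ := ne
    exact a2 (e ((coe_pre a).2 a1))

end TriA

open TriA in
theorem triA (H : Hy u s c z) (N : Subgroup (HB s)) [N.Normal] (h1 : IsMulCommutative N)
    (h2 : ∀ n ∈ N, n ^ 2 = 1) (e : HB s ⧸ N ≃* alternatingGroup (Fin 5)) (hN : N ≠ ⊥) :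
    ∃ y Q T, CA u s c z y Q T := by
  let π : C1 s →* HB s := QuotientGroup.mk' _
  let φ : C1 s →* A5 := e.toMonoidHom.comp ((QuotientGroup.mk' N).comp π)
  have πs : Function.Surjective π := QuotientGroup.mk'_surjective _
  have hs : Function.Surjective φ :=
    e.surjective.comp ((QuotientGroup.mk'_surjective N).comp πs)
  have kπ : ∀ a : C1 s, π a = 1 ↔ (a : G) ∈ zpowers s := fun a =>
    (QuotientGroup.eq_one_iff a).trans mem_subgroupOf
  have kφ : ∀ a : C1 s, φ a = 1 ↔ π a ∈ N := fun a =>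
    (map_eq_one_iff e e.injective).trans (QuotientGroup.eq_one_iff _)
  have hq : ∀ a : C1 s, φ a = 1 → (a : G) * a ∈ zpowers s := fun a ha =>
    (kπ (a * a)).1 (by rw [map_mul, ← sq]; exact h2 _ ((kφ a).1 ha))
  have ks : φ ⟨s, mem_C1.2 rfl⟩ = 1 := (kφ _).2 (((kπ ⟨s, mem_C1.2 rfl⟩).2 (mem_zpowers s)).symm ▸ one_mem N)
  set Z : C1 s := ⟨z, mem_C1.2 H.zs⟩ with hZ
  obtain ⟨k, hk⟩ := f1 (φ Z) (by rw [← map_mul, show Z * Z = 1 from Subtype.ext H.z2, map_one])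
    fun c1 => by
      let U : C1 s := ⟨u, mem_C1.2 H.w6.yt⟩
      have u1 : φ U = (φ U)⁻¹ := by
        rw [← map_inv, ← show Z * U * Z⁻¹ = U⁻¹ from Subtype.ext H.zu, map_mul, map_mul, map_inv, c1]
        simp
      have u2 : φ U ^ 3 = 1 := by rw [← map_pow, show U ^ 3 = 1 from Subtype.ext H.w6.y3, map_one]
      have u3 : φ U = 1 := by
        rw [pow_succ, sq, mul_eq_one_iff_eq_inv.2 u1, one_mul] at u2; exact u2
      have u4 : u * u ∈ zpowers s := hq U u3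
      have u5 := eq_one_of_mem_two (pg_zp H.w6.t2) u4 (by
        rw [← sq, ← pow_mul, mul_comm, pow_mul, H.w6.y3, one_pow])
      have u6 := H.w6.y3
      rw [pow_succ, sq, u5, one_mul] at u6
      exact H.w6.y1 u6
  have kk : ∀ a, ((MulAut.conj k).toMonoidHom.comp φ) a = 1 ↔ φ a = 1 := fun a =>
    map_eq_one_iff (MulAut.conj k) (MulAut.conj k).injective
  refine core H ((MulAut.conj k).toMonoidHom.comp φ) ((MulAut.conj k).surjective.comp hs)
    ((kk _).2 ks) (fun a ha => hq a ((kk a).1 ha)) (fun a b ha hb => (kπ (a * b * a⁻¹ * b⁻¹)).1 ?_)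
    ?_ hk
  · have := congrArg Subtype.val
      (h1.is_comm.comm ⟨_, (kφ a).1 ((kk a).1 ha)⟩ ⟨_, (kφ b).1 ((kk b).1 hb)⟩)
    rw [map_mul, map_mul, map_mul, map_inv, map_inv, mul_inv_eq_one, mul_inv_eq_iff_eq_mul]
    exact this
  · obtain ⟨⟨n, n1⟩, n2⟩ := ne_bot_iff_exists_ne_one.1 hN
    obtain ⟨a, rfl⟩ := πs n
    exact ⟨a, (kk a).2 ((kφ a).2 n1), fun c1 => n2 (Subtype.ext ((kπ a).2 c1))⟩

end Cfsg.Lib.N9M
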