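import Cfsg.Agent.N9M.Gen
import Cfsg.Agent.N9M.Nx

/-! A strongly `3`-embedded subgroup `3 ^ 2 : SD₁₆`: the case where `z` is not conjugate to `s`. -/

set_option autoImplicit false
set_option linter.unusedSectionVars false

namespace Cfsg.Lib.N9M

open Subgroup Cfsg.Lib.Trans Cfsg.Lib.SC6
open Cfsg.Lib.Odd3 (conj_mem_of_norm conj_mem_of_norm' mem_norm_of_conj)
open Cfsg.Lib.L3 (sq_cases cube_cases SZ)

variable {G : Type*} [Group G] [Finite G] {u s c z y w h : G} {Q T X : Subgroup G}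

namespace Unf

theorem memOr (H : QS u s c z Q) (hX : IsX u z Q X) {f : G} (hf : f ∈ om Q)
    (e : f * z = z * f) : f ∈ X ∨ f * s ∈ X := by
  refine (H.nrm_cases hf.1).imp (fun n => (hX f).2 ⟨hf, e, n⟩) fun n => (hX _).2
    ⟨mul_mem hf (H.loc.zp_om (mem_zpowers s)), ?_, by rw [H.nrm_s hf.1, n, H.hy.w6.t2]⟩
  rw [mul_assoc, ← H.hy.zs, ← mul_assoc, e, mul_assoc]

theorem act (H : QS u s c z Q) {x : G} (hx : x ∈ Trans.cj c Q) (x2 : x * x = 1)
    (e : x * z = z * x) (n : nrm (c * u * c⁻¹) x = 1) :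
    ff u c x * s * (ff u c x)⁻¹ = x * s := by
  have K := H.cc
  have h1 := K.tau0 hx x2 e n
  have h2 : ff u c x ∈ Trans.cj c Q := K.loc.fp.conj hx
  have h3 := conj_eq_of_comm (mem_C1.1 (K.le h2))
  change ff u c x * z * (ff u c x)⁻¹ = z * x at h1
  calc ff u c x * s * (ff u c x)⁻¹ = ff u c x * (z * z * s) * (ff u c x)⁻¹ := by
        rw [H.hy.z2, one_mul]
    _ = ff u c x * z * (ff u c x)⁻¹ * (ff u c x * (z * s) * (ff u c x)⁻¹) := by group
    _ = z * x * (z * s) := by rw [h1, h3]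
    _ = x * (z * z) * s := by rw [← e]; group
    _ = x * s := by rw [H.hy.z2, mul_one]

theorem tau (H : C2c u s c z Q T X) (e : ¬ St s z) {x : G} (hx : x ∈ X) :
    nrm (c * u * c⁻¹) x = 1 := by
  have K := H.toQS.cc
  obtain ⟨h1, h2, -⟩ := (H.isX x).1 hx
  have xq := H.xc hx
  refine (K.nrm_cases xq).resolve_right fun n => e ?_
  have s2 := K.hy.w6.t2
  have xs : x * (z * s) = z * s * x := mem_C1.1 (K.le xq)
  have a1 : x * (z * s) * (x * (z * s)) = 1 := by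
    calc x * (z * s) * (x * (z * s)) = x * (z * s * x) * (z * s) := by group
      _ = x * x * (z * s * (z * s)) := by rw [← xs]; group
      _ = 1 := by rw [h1.2.1, s2, one_mul]
  have a2 : x * (z * s) * z = z * (x * (z * s)) := by
    calc x * (z * s) * z = x * z * (s * z) := by group
      _ = z * (x * (z * s)) := by rw [h2, ← H.hy.zs]; group
  have a3 := K.tau0 (mul_mem xq K.sQ) a1 a2 (by rw [K.nrm_s xq, n, s2])
  have a4 : z * (x * (z * s)) = s * x := by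
    calc z * (x * (z * s)) = z * (z * s * x) := by rw [xs]
      _ = z * z * s * x := by group
      _ = s * x := by rw [H.hy.z2, one_mul]
  rw [a4] at a3
  obtain ⟨g, -, hg⟩ := H.sx x hx
  have a5 : St s (s * x) := ⟨g, hg⟩
  rw [← a3] at a5
  exact st_conj_iff.1 a5

theorem vQ (H : C2c u s c z Q T X) (e : ¬ St s z) {x : G} (hx : x ∈ X) : ff u c x ∈ Nm Q := by
  obtain ⟨h1, h2, -⟩ := (H.isX x).1 hx
  have a := act H.toQS (H.xc hx) h1.2.1 h2 (tau H e hx)
  obtain ⟨g, g1, g2⟩ := H.sx x hx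
  rw [← h1.2.2 s H.sQ, ← g2] at a
  have b := H.toQS.uniq a
  rw [cj_eq_of_mem_normalizer g1] at b
  exact cj_eq_self_iff.1 b

theorem cX (H : C2c u s c z Q T X) (e : ¬ St s z) : c ∈ Nm X := by
  refine mem_norm_of_conj fun x hx => ?_
  obtain ⟨h1, h2, h3⟩ := (H.isX x).1 hx
  have q1 : c * x * c⁻¹ ∈ Q := by
    rw [← H.toQS.cjcc]
    exact conj_mem_cj.2 (H.xc hx)
  have q2 : c * x * c⁻¹ ∈ om (Trans.cj c Q) := mem_om_cj.2 (by simpa [mul_assoc] using h1)
  have q3 : c * x * c⁻¹ * z = z * (c * x * c⁻¹) := by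
    have := conj_comm (g := c) h2
    rwa [H.hy.cz] at this
  have q4 : nrm (c * u * c⁻¹) (c * x * c⁻¹) = 1 := by rw [nrm_conj, h3]; group
  have q5 : ¬ St s (c * x * c⁻¹) := fun a => H.nx x hx (st_conj_iff.1 a)
  generalize c * x * c⁻¹ = x' at q1 q2 q3 q4 q5
  have xs : x' * s = s * x' := mem_C1.1 (H.le q1)
  have hl := H.toQS.loc
  have gen : Q ≤ Q ⊓ cm (zpowers s) x' := by
    refine H.toQS.gen inf_le_left (mem_norm_of_conj fun b hb => ?_) fun a ha ea => ?_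
    · exact ⟨hl.fp.conj hb.1, hl.fp.nD (hl.fp.conj hb.1), hl.fp.cc q1 hb.1 hb.2.2⟩
    · refine ⟨ha, hl.fp.nD ha, comm_mem_of_eq ?_⟩
      rcases hl.conj_cases ea with a1 | a1
      · rcases H.toCS.hY ha a1 with a2 | a2
        · exact q2.2.2 a a2
        · have a3 := q2.2.2 _ a2
          refine mul_right_cancel (b := s) ?_
          calc a * x' * s = a * s * x' := by rw [mul_assoc, xs, mul_assoc]
            _ = x' * a * s := by rw [a3, mul_assoc]
      · refine absurd (st_conj_iff.1 (?_ : St s (a * z * a⁻¹))) e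
        rw [a1, ← H.hy.zs]
        exact ⟨c, H.hy.sc⟩
  have st : St s (x' * s) := ⟨_, act H.toQS q2.1 q2.2.1 q3 q4⟩
  have hom : x' ∈ om Q := by
    refine ⟨q1, q2.2.1, fun a ha => ?_⟩
    refine (hl.conj_cases (gen ha).2.2).resolve_right fun a1 => q5 (st_conj_iff.1 (?_ :
      St s (a * x' * a⁻¹)))
    rwa [a1, ← xs]
  refine (memOr H.toQS H.isX hom q3).resolve_right fun a => H.toQS.sQc ?_
  exact (mul_mem_cancel_left q2.1).1 (H.xc a)

theorem hK (H : C2c u s c z Q T X) {g : G} (hg : g ∈ C1 s) {n : ℕ} (g2 : g ^ 2 ^ n = 1)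
    (e : ∀ f ∈ om Q, g * f = f * g) : g ∈ Q := by
  obtain ⟨k, k1, k2⟩ := L3.exists_conj_mem H.syl hg g2
  have kQ := H.nQ k1
  by_contra gQ
  have g' : k * g * k⁻¹ ∉ Q := fun a => gQ (by
    have := conj_mem_of_norm' kQ a
    simpa [mul_assoc] using this)
  have a1 := H.i2.mul_inv H.zT k2 H.zQ g'
  obtain ⟨⟨x, hx⟩, x1⟩ := ne_bot_iff_exists_ne_one.1 H.ne
  obtain ⟨h1, h2, h3⟩ := (H.isX x).1 hx
  have a2 := H.toQS.tau0 h1.1 h1.2.1 h2 h3
  have b : u * x * u⁻¹ ∈ om Q := conj_mem_om H.toQS.loc.fp.yR h1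
  generalize u * x * u⁻¹ = b' at a2 b
  have a3 : k * g * k⁻¹ * b' = b' * (k * g * k⁻¹) := by
    have := conj_comm (g := k) (e _ (conj_mem_om (inv_mem kQ) b))
    simpa [mul_assoc] using this
  have a4 := b.2.2 _ a1
  have a5 : z * b' = b' * z := by
    calc z * b' = z * (k * g * k⁻¹)⁻¹ * (k * g * k⁻¹ * b') := by group
      _ = z * (k * g * k⁻¹)⁻¹ * b' * (k * g * k⁻¹) := by rw [a3]; group
      _ = b' * z := by rw [a4]; group
  rw [← a5, mul_inv_cancel_right] at a2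
  exact x1 (Subtype.ext (left_eq_mul.1 a2))

end Unf

theorem C2c.ab (H : C2c u s c z Q T X) (e : ¬ St s z) : AB u s c z Q X :=
  ⟨H.toQS, e, H.isX, H.ne, Unf.cX H e, fun _ hx => Unf.vQ H e hx, H.nx,
    fun _ ha a => H.toCS.hY ha a, fun _ hg _ g2 a => Unf.hK H hg g2 a⟩

end Cfsg.Lib.N9M
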