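import Cfsg.Agent.N9M.Defs
import Cfsg.Agent.Solv.ElemAb
import Cfsg.Agent.P8.Bas2

/-! A strongly `3`-embedded subgroup `3 ^ 2 : SD₁₆`: the elementwise hypothesis holds. -/

set_option autoImplicit false

namespace Cfsg.Lib.N9M

open Subgroup Cfsg.Lib.Trans Cfsg.Lib.SC6 Cfsg.Lib.Solv
open Cfsg.Lib.Odd3 (conj_mem_of_norm conj_mem_of_norm' mem_norm_of_conj)
open Cfsg.Lib.L3 (sq_cases cube_cases SZ)

variable {G : Type*} [Group G] [Finite G]

namespace Setup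

/-- The data extracted from the hypotheses. -/
structure Dt (M : Subgroup G) (a b : G) : Prop where
  c9 : Nat.card M = 9
  el : ∀ m ∈ M, m ^ 3 = 1
  cM : centralizer (M : Set G) = M
  cg : ∀ g ∈ M, g ≠ 1 → C1 g ≤ Nm M
  cN : Nat.card (Nm M) = 144
  aN : a ∈ Nm M
  bN : b ∈ Nm M
  oa : orderOf a = 8
  ob : orderOf b = 2
  ba : b * a * b⁻¹ = a ^ 3

omit [Finite G] in
theorem orb (N : Subgroup G) (c : G) :
    {y : G | ∃ n ∈ N, n * c * n⁻¹ = y}.ncard = (C1 c).relIndex N := by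
  let _ : MulAction N G := MulAction.compHom _ (MulAut.conj.comp N.subtype)
  have h1 := MulAction.index_stabilizer N c
  have h2 : MulAction.stabilizer N c = (C1 c).subgroupOf N := by
    ext a
    rw [MulAction.mem_stabilizer_iff, mem_subgroupOf, mem_C1]
    change (a : G) * c * (a : G)⁻¹ = c ↔ _
    rw [mul_inv_eq_iff_eq_mul]
  have h3 : MulAction.orbit N c = {y : G | ∃ n ∈ N, n * c * n⁻¹ = y} := by
    ext y
    constructor
    · rintro ⟨a, rfl⟩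
      exact ⟨a, a.2, rfl⟩
    · rintro ⟨a, ha, rfl⟩
      exact ⟨⟨a, ha⟩, rfl⟩
  rw [← h3, ← h1, h2]
  rfl

omit [Finite G] in
theorem one23 {x : G} (h2 : x * x = 1) (h3 : x ^ 3 = 1) : x = 1 := by
  rwa [pow_three', h2, one_mul] at h3

namespace Dt

variable {M : Subgroup G} {a b : G} (h : Dt M a b)
include h

omit [Finite G] in
theorem comm {x y : G} (hx : x ∈ M) (hy : y ∈ M) : x * y = y * x := h.cM.ge hy x hx

omit [Finite G] in
theorem ord {x : G} (hx : x ∈ M) (x1 : x ≠ 1) : orderOf x = 3 :=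
  haveI := Fact.mk Nat.prime_three
  orderOf_eq_prime (h.el x hx) x1

omit [Finite G] in
theorem mem {g : G} (e : M ≤ C1 g) : g ∈ M := h.cM.le fun _ hm => mem_C1.1 (e hm)

theorem sub3 {K : Subgroup G} {x y : G} (hx : x ∈ M) (x1 : x ≠ 1) (hy : y ∈ M) (e : y ∉ zpowers x)
    (xK : x ∈ K) (yK : y ∈ K) : M ≤ K := by
  have h1 : zpowers x < M ⊓ K :=
    lt_of_le_of_ne (zpowers_le.2 (mem_inf.2 ⟨hx, xK⟩)) fun f => e (f ▸ mem_inf.2 ⟨hy, yK⟩)
  have h2 := Trans.card_lt_of_lt h1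
  have h3 := card_dvd_of_le (inf_le_left : M ⊓ K ≤ M)
  rw [Nat.card_zpowers, h.ord hx x1] at h2
  have h4 : Nat.card M ≤ Nat.card (M ⊓ K : Subgroup G) := by
    rw [h.c9] at h3 ⊢
    have := Nat.le_of_dvd (by norm_num) h3
    generalize Nat.card (M ⊓ K : Subgroup G) = n at *
    interval_cases n <;> omega
  exact (eq_of_le_of_card_ge inf_le_left h4).ge.trans inf_le_right

omit [Finite G] h in
theorem sq {g x : G} (x3 : x ^ 3 = 1) (x1 : x ≠ 1) (e : g * x * g⁻¹ ∈ zpowers x) :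
    g * g * x = x * (g * g) := by
  rcases cube_cases x3 e with f | f | f
  · exact absurd f (conj_ne_one x1)
  · calc g * g * x = g * (g * x * g⁻¹) * g⁻¹ * (g * g) := by group
      _ = _ := by rw [f, f]
  · calc g * g * x = g * (g * x * g⁻¹) * g⁻¹ * (g * g) := by group
      _ = g * x⁻¹ * g⁻¹ * (g * g) := by rw [f]
      _ = (g * x * g⁻¹)⁻¹ * (g * g) := by group
      _ = _ := by rw [f, inv_inv]

omit [Finite G] in
theorem a8 : a ^ 8 = 1 := by rw [← h.oa, pow_orderOf_eq_one]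

omit [Finite G] in
theorem ak {k : ℕ} (e : a ^ k = 1) : 8 ∣ k := h.oa ▸ orderOf_dvd_of_pow_eq_one e

omit [Finite G] in
theorem z2 : a ^ 4 * a ^ 4 = 1 := by rw [← pow_add, h.a8]

omit [Finite G] in
theorem b2 : b * b = 1 := by rw [← pow_two, ← h.ob, pow_orderOf_eq_one]

omit [Finite G] in
theorem b1 : b ≠ 1 := fun e => by have := h.ob; rw [e, orderOf_one] at this; omega

omit [Finite G] in
theorem bM : b ∉ M := fun e => h.b1 (one23 h.b2 (h.el b e))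

/-- The central involution inverts `M`. -/
theorem zinv {m : G} (hm : m ∈ M) : a ^ 4 * m * (a ^ 4)⁻¹ = m⁻¹ := by
  have zN : a ^ 4 ∈ Nm M := pow_mem h.aN 4
  have zM : ¬ M ≤ C1 (a ^ 4) := fun e => by
    have := h.ak (k := 4) (one23 h.z2 (h.el _ (h.mem e)))
    omega
  have az : a * a ^ 4 = a ^ 4 * a := by group
  have zz : ∀ x, a ^ 4 * (a ^ 4 * x * (a ^ 4)⁻¹) * (a ^ 4)⁻¹ = x := fun x => by
    calc _ = (a ^ 4 * a ^ 4) * x * (a ^ 4 * a ^ 4)⁻¹ := by group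
      _ = x := by rw [h.z2]; group
  have key : ∀ x ∈ M, x * a ^ 4 = a ^ 4 * x → x = 1 := fun x hx e => by
    by_contra x1
    obtain ⟨n, nM, nz⟩ := SetLike.not_le_iff_exists.1 zM
    have ax : a * x * a⁻¹ ∈ zpowers x := by
      by_contra f
      refine zM (h.sub3 hx x1 (conj_mem_of_norm h.aN hx) f (mem_C1.2 e) (mem_C1.2 ?_))
      have := conj_comm (g := a) e
      rwa [conj_eq_of_comm az] at this
    have wM : n * (a ^ 4 * n * (a ^ 4)⁻¹)⁻¹ ∈ M := mul_mem nM (inv_mem (conj_mem_of_norm zN nM))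
    have w1 : n * (a ^ 4 * n * (a ^ 4)⁻¹)⁻¹ ≠ 1 := fun f =>
      nz (mem_C1.2 (mul_inv_eq_iff_eq_mul.1 (mul_inv_eq_one.1 f).symm).symm)
    have wz : a ^ 4 * (n * (a ^ 4 * n * (a ^ 4)⁻¹)⁻¹) * (a ^ 4)⁻¹ =
        (n * (a ^ 4 * n * (a ^ 4)⁻¹)⁻¹)⁻¹ := by
      rw [← conj_mul (b := a ^ 4), ← conj_inv (b := a ^ 4), zz, mul_inv_rev, inv_inv]
    generalize n * (a ^ 4 * n * (a ^ 4)⁻¹)⁻¹ = w at wM w1 wz
    have nx : ∀ y ∈ M, y ≠ 1 → a ^ 4 * y * (a ^ 4)⁻¹ = y⁻¹ → y * a ^ 4 ≠ a ^ 4 * y :=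
      fun y hy y1 e1 e2 => y1 (one23 (by
        rw [conj_eq_of_comm e2.symm] at e1
        exact mul_eq_one_iff_eq_inv.2 e1) (h.el y hy))
    let I : Subgroup G :=
      { carrier := {y | y ∈ M ∧ a ^ 4 * y * (a ^ 4)⁻¹ = y⁻¹}
        one_mem' := ⟨one_mem _, by group⟩
        mul_mem' := fun {p q} hp hq => ⟨mul_mem hp.1 hq.1, by
          rw [← conj_mul (b := a ^ 4), hp.2, hq.2, h.comm hp.1 hq.1, mul_inv_rev]⟩
        inv_mem' := fun {p} hp => ⟨inv_mem hp.1, by rw [← conj_inv (b := a ^ 4), hp.2]⟩ }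
    have aw : a * w * a⁻¹ ∈ zpowers w := by
      by_contra f
      refine nx x hx x1 (h.sub3 (K := I) wM w1 (conj_mem_of_norm h.aN wM) f ⟨wM, wz⟩
        ⟨conj_mem_of_norm h.aN wM, ?_⟩ hx).2 e
      calc _ = a * (a ^ 4 * w * (a ^ 4)⁻¹) * a⁻¹ := by group
        _ = _ := by rw [wz]; group
    have wx : w ∉ zpowers x := fun f =>
      nx w wM w1 wz (mem_C1.1 ((zpowers_le.2 (mem_C1.2 e) : zpowers x ≤ C1 (a ^ 4)) f))
    have a2 := h.el _ (h.mem (h.sub3 (K := C1 (a * a)) hx x1 wM wx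
      (mem_C1.2 (sq (h.el x hx) x1 ax).symm) (mem_C1.2 (sq (h.el w wM) w1 aw).symm)))
    have := h.ak (k := 6) (by rw [← a2, ← pow_two, ← pow_mul])
    omega
  have c := conj_mem_of_norm zN hm
  refine eq_inv_of_mul_eq_one_right (key _ (mul_mem hm c) (mul_inv_eq_iff_eq_mul.1 ?_).symm)
  rw [← conj_mul (b := a ^ 4), zz, h.comm hm c]

theorem nz {m : G} (hm : m ∈ M) (m1 : m ≠ 1) : a ^ 4 * m ≠ m * a ^ 4 := fun e => m1 (one23 (by
  have := h.zinv hm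
  rw [conj_eq_of_comm e] at this
  exact mul_eq_one_iff_eq_inv.2 this) (h.el m hm))

/-- Transitivity on the non-trivial elements and the order of their centralisers. -/
theorem tr {m : G} (hm : m ∈ M) (m1 : m ≠ 1) :
    (∀ y ∈ M, y ≠ 1 → ∃ g, g * m * g⁻¹ = y) ∧ I2 M (C1 m) := by
  have h1 : zpowers a ⊓ C1 m = ⊥ := by
    rw [eq_bot_iff]
    rintro x ⟨hx, e⟩
    obtain ⟨k, rfl⟩ := mem_powers_iff_mem_zpowers.2 hx
    by_contra x1
    have k8 : k % 8 ≠ 0 := fun f => x1 (by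
      change a ^ k = 1
      rw [← pow_mod_orderOf, h.oa, f, pow_zero])
    obtain ⟨t, ht⟩ : ∃ t, k * t % 8 = 4 := by
      have : k % 8 < 8 := Nat.mod_lt _ (by norm_num)
      by_cases f4 : k % 8 = 4
      · exact ⟨1, by omega⟩
      by_cases f2 : k % 2 = 0
      · exact ⟨2, by omega⟩
      · exact ⟨4, by omega⟩
    have := mem_C1.1 (pow_mem e t)
    change (a ^ k) ^ t * m = m * (a ^ k) ^ t at this
    rw [← pow_mul, ← pow_mod_orderOf, h.oa, ht] at this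
    exact h.nz hm m1 this
  have h2 : (C1 m).relIndex (zpowers a) = 8 := by
    rw [← inf_relIndex_left, h1, relIndex_bot_left, Nat.card_zpowers, h.oa]
  have c8 : ((M : Set G) \ {1}).ncard = 8 := by
    rw [Set.ncard_sdiff_singleton_of_mem M.one_mem, ← Nat.card_coe_set_eq, SetLike.coe_sort_coe,
      h.c9]
  have s1 : {y : G | ∃ n ∈ zpowers a, n * m * n⁻¹ = y} ⊆ {y : G | ∃ n ∈ Nm M, n * m * n⁻¹ = y} :=
    fun y ⟨n, hn, e⟩ => ⟨n, zpowers_le.2 h.aN hn, e⟩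
  have s2 : {y : G | ∃ n ∈ Nm M, n * m * n⁻¹ = y} ⊆ (M : Set G) \ {1} := by
    rintro _ ⟨n, hn, rfl⟩
    exact ⟨conj_mem_of_norm hn hm, conj_ne_one m1⟩
  have l1 := Set.ncard_le_ncard s1 (Set.toFinite _)
  have e2 := Set.eq_of_subset_of_ncard_le s2 (by rw [orb, h2] at l1; rw [c8]; exact l1)
    (Set.toFinite _)
  refine ⟨fun y hy y1 => ?_, I2.of_card (fun x hx => mem_C1.2 (h.comm hx hm)) ?_⟩
  · obtain ⟨n, -, e⟩ : y ∈ {y : G | ∃ n ∈ Nm M, n * m * n⁻¹ = y} := e2 ▸ ⟨hy, y1⟩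
    exact ⟨n, e⟩
  · have h3 := card_mul_relIndex (h.cg m hm m1)
    rw [← orb, e2, c8, h.cN] at h3
    rw [h.c9]
    omega

omit [Finite G] in
theorem bz : b * a ^ 4 * b⁻¹ = a ^ 4 := by
  rw [← conj_pow, h.ba, ← pow_mul, show 3 * 4 = 8 + 4 by norm_num, pow_add, h.a8, one_mul]

theorem exu : ∃ u ∈ M, u ≠ 1 ∧ u * b = b * u := by
  have bb : ∀ x, b * (b * x * b⁻¹) * b⁻¹ = x := fun x => by
    calc _ = (b * b) * x * (b * b)⁻¹ := by group
      _ = x := by rw [h.b2]; group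
  by_contra! f
  have inv : ∀ m ∈ M, b * m * b⁻¹ = m⁻¹ := fun m hm => by
    have c := conj_mem_of_norm h.bN hm
    by_contra e
    refine f _ (mul_mem hm c) (fun e1 => e (eq_inv_of_mul_eq_one_right e1))
      (mul_inv_eq_iff_eq_mul.1 ?_).symm
    rw [← conj_mul (b := b), bb, h.comm hm c]
  have h1 : b * a ^ 4 ∈ M := h.mem fun m hm => mem_C1.2 (mul_inv_eq_iff_eq_mul.1 (by
    calc b * a ^ 4 * m * (b * a ^ 4)⁻¹ = b * (a ^ 4 * m * (a ^ 4)⁻¹) * b⁻¹ := by group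
      _ = m := by rw [h.zinv hm, inv _ (inv_mem hm), inv_inv])).symm
  have h2 : b * a ^ 4 = 1 := one23 (by
    calc b * a ^ 4 * (b * a ^ 4) = b * a ^ 4 * b⁻¹ * (b * b) * a ^ 4 := by group
      _ = 1 := by rw [h.bz, h.b2, mul_one, h.z2]) (h.el _ h1)
  have h3 := h.ba
  rw [eq_inv_of_mul_eq_one_left h2] at h3
  have := h.ak (k := 2) (by
    calc a ^ 2 = a ^ 3 * a⁻¹ := by group
      _ = 1 := by rw [← h3]; group)
  omega

theorem noM {P : Subgroup G} (hP : IsPGroup 2 P) (hM : M ≤ Nm P) {u v : G} (hu : u ∈ M) (u1 : u ≠ 1)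
    (hv : v ∈ M) (e : v ∉ zpowers u) : P = ⊥ := by
  have key : ∀ m ∈ M, m ≠ 1 → P ⊓ C1 m = ⊥ := fun m hm m1 => by
    rw [eq_bot_iff]
    rintro x ⟨xP, xm⟩
    by_contra x1
    have nM : ∀ y ∈ P, y ≠ 1 → y ∉ M := fun y hy y1 f => y1 (eq_one_of_mem_two hP hy (h.el y f))
    have i2 := (h.tr hm m1).2
    have pr : ∀ y ∈ P, y ∈ C1 m → y ≠ 1 → x * y = 1 := fun y hy ym y1 => by
      by_contra f
      exact nM _ (mul_mem xP hy) f (i2.mul x xm y ym (nM x xP x1) (nM y hy y1))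
    refine nM x xP x1 (h.mem fun n hn => mem_C1.2 (mul_inv_eq_iff_eq_mul.1 ?_))
    have c := i2.le hn
    exact mul_left_cancel ((pr _ (conj_mem_of_norm (hM hn) xP) (mul_mem (mul_mem c xm) (inv_mem c))
      (conj_ne_one x1)).trans (pr x xP xm x1).symm)
  have v1 : v ≠ 1 := fun f => e (f ▸ one_mem _)
  have g9 := P8.Bas2H.gen9 hP (hM hu) (hM hv) ⟨h.ord hu u1, h.ord hv v1, h.comm hu hv, e⟩
  have k1 : P ⊓ Gold.C1 u = ⊥ := key u hu u1
  have k2 : P ⊓ Gold.C1 v = ⊥ := key v hv v1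
  have k3 : P ⊓ Gold.C1 (u * v) = ⊥ := key _ (mul_mem hu hv) fun f =>
    e (eq_inv_of_mul_eq_one_right f ▸ inv_mem (mem_zpowers u))
  have k4 : P ⊓ Gold.C1 (u * v⁻¹) = ⊥ := key _ (mul_mem hu (inv_mem hv)) fun f =>
    e (mul_inv_eq_one.1 f ▸ mem_zpowers u)
  rw [k1, k2, k3, k4] at g9
  simpa using g9

theorem hy (hs : IsSylowIn 3 M ⊤) : ∃ u s c z : G, Hy u s c z := by
  have := Fact.mk Nat.prime_three
  obtain ⟨u, hu, u1, ub⟩ := h.exu
  obtain ⟨tr, i2⟩ := h.tr hu u1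
  have bi : b⁻¹ = b := inv_eq_of_mul_eq_one_right h.b2
  have cjM : ∀ (g : G) (n : ℕ), g ^ 3 ^ n = 1 → ∃ k, k * g * k⁻¹ ∈ M := fun g n e => by
    obtain ⟨k, -, hk⟩ := L3.exists_conj_mem hs (mem_top g) e
    exact ⟨k, hk⟩
  have cj3 : ∀ (g : G) (n : ℕ), g ^ 3 ^ n = 1 → g ≠ 1 → ∃ k, k * u * k⁻¹ = g := fun g n e g1 => by
    obtain ⟨k, hk⟩ := cjM g n e
    obtain ⟨l, hl⟩ := tr _ hk (conj_ne_one g1)
    exact ⟨k⁻¹ * l, by
      calc k⁻¹ * l * u * (k⁻¹ * l)⁻¹ = k⁻¹ * (l * u * l⁻¹) * k := by group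
        _ = g := by rw [hl]; group⟩
  have fx : ∀ g ∈ M, g * b = b * g → g ∈ zpowers u := fun g hg e => by
    by_contra f
    exact h.bM (h.mem (h.sub3 hu u1 hg f (mem_C1.2 ub) (mem_C1.2 e)))
  have cN : a ^ 2 ∈ Nm M := pow_mem h.aN 2
  have zc : a ^ 2 * a ^ 2 = a ^ 4 := by rw [← pow_add]
  have vu : a ^ 2 * u * (a ^ 2)⁻¹ ∉ zpowers u := fun f =>
    h.nz hu u1 (zc ▸ sq (h.el u hu) u1 f)
  refine ⟨u, b, a ^ 2, a ^ 4, ⟨h.b2, h.b1, h.el u hu, u1, ub, fun g e1 e2 => ?_,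
    fun t g n t2 t1 g1 g3 e => ?_⟩, zc, h.z2, h.zinv hu, ?_,
    fun y y3 y1 => cj3 y 1 (by rw [pow_one, y3]) y1, fun p q e1 e2 => ?_, fun g n e => ?_,
    fun P hP n1 n2 => h.noM hP (h.sub3 hu u1 (conj_mem_of_norm cN hu) vu n1 n2) hu u1
      (conj_mem_of_norm cN hu) vu, h.c9 ▸ card_subgroup_dvd_card M, fun e => ?_,
    dvd_trans (by rw [h.cN]; norm_num) (card_subgroup_dvd_card (Nm M))⟩
  · by_cases gM : g ∈ M
    · rcases cube_cases (h.el u hu) (fx g gM e1) with f | f | f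
      · exact Or.inl (f ▸ one_mem _)
      · exact Or.inr (Or.inl (by rw [f, mul_inv_cancel]; exact one_mem _))
      · exact Or.inr (Or.inr (by rw [f, inv_mul_cancel]; exact one_mem _))
    · have h1 := i2.mul g (mem_C1.2 e2) b (mem_C1.2 ub.symm) gM h.bM
      have h2 : g = g * b * b := by rw [mul_assoc, h.b2, mul_one]
      rcases cube_cases (h.el u hu) (fx _ h1 (by rw [← mul_assoc, ← e1])) with f | f | f
      · exact Or.inl (by rw [h2, f, one_mul]; exact mem_zpowers b)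
      · exact Or.inr (Or.inl (by rw [h2, f, ub, mul_inv_cancel_right]; exact mem_zpowers b))
      · exact Or.inr (Or.inr (by
          rw [h2, f, mul_assoc, ← ub, inv_mul_cancel_left]; exact mem_zpowers b))
  · obtain ⟨k, rfl⟩ := cj3 g n g3 g1
    have t2' : k⁻¹ * t * k * (k⁻¹ * t * k) = 1 := by simpa using conj_sq (g := k⁻¹) t2
    have t1' : k⁻¹ * t * k ≠ 1 := by simpa using conj_ne_one (g := k⁻¹) t1
    have e' : k⁻¹ * t * k * u = u * (k⁻¹ * t * k) := by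
      calc _ = k⁻¹ * (t * (k * u * k⁻¹)) * k := by group
        _ = _ := by rw [← e]; group
    have h1 := i2.mul _ (mem_C1.2 e') b (mem_C1.2 ub.symm)
      (fun f => t1' (one23 t2' (h.el _ f))) h.bM
    have h3 := h.el _ h1
    refine ⟨k * (k⁻¹ * t * k * b) ^ 2, ?_⟩
    have h4 : t = k * (k⁻¹ * t * k) * k⁻¹ := by group
    rw [h4]
    simp only [← h4]
    have h5 : (k⁻¹ * t * k * b) ^ 2 * b * ((k⁻¹ * t * k * b) ^ 2)⁻¹ = k⁻¹ * t * k := by
      generalize k⁻¹ * t * k = r at t2' h3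
      have ri : r⁻¹ = r := inv_eq_of_mul_eq_one_right t2'
      calc (r * b) ^ 2 * b * ((r * b) ^ 2)⁻¹
          = r * b * r * (b * b) * (b⁻¹ * r⁻¹ * b⁻¹ * r⁻¹) := by rw [pow_two]; group
        _ = (r * b) ^ 3 * r := by rw [h.b2, bi, ri, pow_three']; group
        _ = r := by rw [h3, one_mul]
    calc _ = k * ((k⁻¹ * t * k * b) ^ 2 * b * ((k⁻¹ * t * k * b) ^ 2)⁻¹) * k⁻¹ := by group
      _ = t := by rw [h5]; group
  · have h1 : b * a ^ 2 * b⁻¹ = a ^ 6 := by rw [← conj_pow, h.ba, ← pow_mul]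
    calc a ^ 2 * b * (a ^ 2)⁻¹ = a ^ 2 * (b * a ^ 2 * b⁻¹)⁻¹ * b := by group
      _ = a ^ 4 * (a ^ 8)⁻¹ * b := by rw [h1]; group
      _ = _ := by rw [h.a8, inv_one, mul_one]
  · by_cases pM : p ∈ M
    · exact Or.inl (h.el p pM)
    by_cases qM : q ∈ M
    · exact Or.inr (Or.inl (h.el q qM))
    · exact Or.inr (Or.inr (h.el _ (i2.mul p (mem_C1.2 e1) q (mem_C1.2 e2) pM qM)))
  · obtain ⟨k, hk⟩ := cjM g n e
    have := h.el _ hk
    rw [conj_pow] at this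
    simpa using this
  · have h1 := card_mul_relIndex hs.le
    have h2 := hs.not_dvd
    rw [h.c9, card_top] at h1
    omega

end Dt

end Setup

theorem setup (M : Sylow 3 G) (hM9 : Nat.card ↥(M : Subgroup G) = 9)
    (hMel : ∀ m ∈ (M : Subgroup G), m ^ 3 = 1)
    (hCM : centralizer ((M : Subgroup G) : Set G) = (M : Subgroup G))
    (hCg : ∀ g ∈ (M : Subgroup G), g ≠ 1 → centralizer ({g} : Set G) ≤ Nm (M : Subgroup G))
    (hS : ∀ S : Sylow 2 ↥(Nm (M : Subgroup G)), Nat.card ↥(S : Subgroup ↥(Nm (M : Subgroup G))) = 16 ∧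
      ∃ a ∈ (S : Subgroup ↥(Nm (M : Subgroup G))), ∃ b ∈ (S : Subgroup ↥(Nm (M : Subgroup G))),
        orderOf a = 8 ∧ orderOf b = 2 ∧ b * a * b⁻¹ = a ^ 3) :
    ∃ u s c z : G, Hy u s c z := by
  have := Fact.mk Nat.prime_three
  have := Fact.mk Nat.prime_two
  obtain ⟨T⟩ : Nonempty (Sylow 2 (Nm (M : Subgroup G))) := inferInstance
  obtain ⟨c16, a, -, b, -, oa, ob, ba⟩ := hS T
  have : ElemAb 3 (M : Subgroup G) :=
    ⟨fun a b => Subtype.ext (hCM.ge b.2 a a.2), fun a => Subtype.ext (hMel a a.2)⟩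
  have h144 : Nat.card (Nm (M : Subgroup G)) = 144 := by
    have h1 := Subgroup.card_dvd_of_injective _
      (QuotientGroup.kerLift_injective (M : Subgroup G).normalizerMonoidHom)
    rw [Subgroup.normalizerMonoidHom_ker, ← Subgroup.index, hCM,
      Vec.card_mulAut (p := 3) (n := 2) hM9, Fin.prod_univ_two] at h1
    have h2 := card_mul_relIndex (le_normalizer (H := (M : Subgroup G)))
    have h3 := card_subgroup_dvd_card (T : Subgroup (Nm (M : Subgroup G)))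
    have h5 := (isSylowIn_of_le M (le_normalizer (H := (M : Subgroup G)))).not_dvd
    rw [c16, ← h2, hM9] at h3
    rw [← h2, hM9]
    change (M : Subgroup G).relIndex (Nm (M : Subgroup G)) ∣ 48 at h1
    have h6 := Nat.le_of_dvd (by norm_num) h1
    generalize (M : Subgroup G).relIndex (Nm (M : Subgroup G)) = k at *
    interval_cases k <;> omega
  exact Setup.Dt.hy (M := M) (a := a) (b := b) ⟨hM9, hMel, hCM, hCg, h144, a.2, b.2,
    (Subgroup.orderOf_coe a).trans oa, (Subgroup.orderOf_coe b).trans ob,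
    congrArg Subtype.val ba⟩ (isSylowIn_top M)

end Cfsg.Lib.N9M
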