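import Cfsg.Agent.N9M.Gen
import Cfsg.Agent.Ord6.Tri

/-! The soluble case for the centraliser of `s`. -/

set_option autoImplicit false

namespace Cfsg.Lib.N9M

open Subgroup Cfsg.Lib.Trans Cfsg.Lib.SC6
open Cfsg.Lib.Odd3 (conj_mem_of_norm conj_mem_of_norm' mem_norm_of_conj)
open Cfsg.Lib.L3 (sq_cases cube_cases SZ)

namespace TriS

open Cfsg.Lib.Odd3 (SC Inv PP)

variable {K : Type*} [Group K] [Finite K]

omit [Finite K] in
theorem conj_cases {L : Type*} [Group L]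
    (h3 : Nat.card L = 3 ∨ Nonempty (L ≃* Equiv.Perm (Fin 3))) {a : L} (a3 : a ^ 3 = 1)
    (a1 : a ≠ 1) (b : L) : b * a * b⁻¹ * a⁻¹ = 1 ∨ b * a * b⁻¹ * a = 1 := by
  rcases h3 with e | ⟨⟨e⟩⟩
  · have := Fact.mk Nat.prime_three
    have := isCyclic_of_prime_card e
    left
    rw [(IsCyclic.commGroup (α := L)).mul_comm b a]; group
  · have key : ∀ a b : Equiv.Perm (Fin 3), a ^ 3 = 1 → a ≠ 1 →
        b * a * b⁻¹ * a⁻¹ = 1 ∨ b * a * b⁻¹ * a = 1 := by decide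
    refine (key (e a) (e b) (by rw [← map_pow, a3, map_one])
      (fun c => a1 (e.injective (by rw [c, map_one])))).imp (fun c => ?_) fun c => ?_ <;>
      exact e.injective (by simpa using c)

theorem abs {x s : K} (hx : SC x) (N : Subgroup K) [hN : N.Normal] (h1 : x ∉ N)
    (h2 : ∀ g, g * x * g⁻¹ * x⁻¹ ∈ N ∨ g * x * g⁻¹ * x ∈ N) (hs : s * x * s⁻¹ = x⁻¹)
    (s2 : s * s = 1) :
    ∃ P T, PP 2 N P ∧ P.Normal ∧ IsSylowIn 2 P N ∧ IsSylowIn 2 T ⊤ ∧ I2 P T ∧ s ∈ T ∧ s ∉ P ∧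
      ∀ g, ∃ n ∈ N, ∃ i : ℕ, g = n * x ^ i ∨ g = n * x ^ i * s := by
  have := Fact.mk Nat.prime_two
  have hI := SC.inv_of_normal h1
  obtain ⟨P, p1, p2, -⟩ := abs_pp hx hI
  have nP : ∀ g, g ∈ Nm P := fun g => p1.norm_le (by rw [normalizer_eq_top]; trivial)
  have sN : s ∉ N := fun c => h1 (by
    have := mul_mem c (hN.conj_mem _ (inv_mem c) x)
    rwa [← mul_assoc, ← mul_assoc, hs, hx.inv_mul_inv] at this)
  have cs : ∀ g, g * x * g⁻¹ * x⁻¹ ∈ N ∨ g * s * x * (g * s)⁻¹ * x⁻¹ ∈ N := fun g =>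
    (h2 g).imp_right fun e => by
      have := hN.conj_mem _ (inv_mem e) x
      convert this using 1
      calc _ = g * (s * x * s⁻¹) * g⁻¹ * x⁻¹ := by group
        _ = _ := by rw [hs]; group
  obtain ⟨T, t1, t2⟩ := exists_isSylowIn_ge (H := ⊤)
    (IsPGroup.to_sup_of_normal_left' p1.pg (pg_zp s2) (fun g _ => nP g)) le_top
  have sT : s ∈ T := t2 (mem_sup_right (mem_zpowers s))
  have key : ∀ g ∈ T, g * x * g⁻¹ * x⁻¹ ∈ N → g ∈ P := fun g hg e =>
    (p1 g).2 ⟨(hI.cases_of_comm hx e).resolve_right fun c => c.not_mem_two t1.isPGroup hg,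
      (t1.isPGroup ⟨g, hg⟩).imp fun _ e => congrArg Subtype.val e⟩
  have dec : ∀ g, g * x * g⁻¹ * x⁻¹ ∈ N → ∃ n ∈ N, ∃ i : ℕ, g = n * x ^ i := fun g e => by
    rcases abs_cases hx h1 e with c | c | c
    · exact ⟨g, c, 0, by simp⟩
    · exact ⟨_, c, 1, by simp⟩
    · exact ⟨_, c, 2, by
        calc g = g * x ^ 3 := by rw [hx.cube, mul_one]
          _ = _ := by rw [pow_succ' x 2, mul_assoc]⟩
  refine ⟨P, T, p1, ⟨fun a ha g => conj_mem_of_norm (nP g) ha⟩, p2, t1,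
    ⟨le_sup_left.trans t2, fun a ha b hb a1 b1 => ?_⟩, sT, fun c => sN (p1.le c), fun g => ?_⟩
  · have := mul_mem (key _ (mul_mem ha sT) ((cs a).resolve_left fun c => a1 (key a ha c)))
      (conj_mem_of_norm (nP s) (key _ (mul_mem hb sT)
        ((cs b).resolve_left fun c => b1 (key b hb c))))
    rwa [show a * s * (s * (b * s) * s⁻¹) = a * (s * s) * b by group, s2, mul_one] at this
  · rcases cs g with f | f
    · obtain ⟨n, n1, i, e⟩ := dec g f
      exact ⟨n, n1, i, Or.inl e⟩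
    · obtain ⟨n, n1, i, e⟩ := dec _ f
      exact ⟨n, n1, i, Or.inr (by rw [← e, mul_assoc, s2, mul_one])⟩

end TriS

variable {G : Type*} [Group G] [Finite G] {u s c z y w h : G} {Q T X : Subgroup G}

theorem triS (H : Hy u s c z) (N : Subgroup (HB s)) [N.Normal] (h1 : Group.IsNilpotent N)
    (h2 : (Nat.card N).Coprime 3)
    (h3 : Nat.card (HB s ⧸ N) = 3 ∨ Nonempty (HB s ⧸ N ≃* Equiv.Perm (Fin 3))) :
    ∃ Q T, CS u s c z Q T := by
  have := Fact.mk Nat.prime_two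
  have h := H.w6
  have zs : z * s = s * z := by
    have a := conj_sq (g := c) h.t2
    rw [H.sc] at a
    calc z * s = (z * s)⁻¹ := (inv_eq_of_mul_eq_one_right a).symm
      _ = s * z := by
        rw [mul_inv_rev, inv_eq_of_mul_eq_one_right h.t2, inv_eq_of_mul_eq_one_right H.z2]
  have zc : ∀ a ∈ zpowers s, a * a = 1 ∧ ∀ b ∈ C1 s, a * b = b * a := fun a ha => by
    rcases sq_cases h.t2 ha with rfl | rfl
    · simp
    · exact ⟨h.t2, fun b hb => (mem_C1.1 hb).symm⟩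
  have e : SZ (C1 s) (zpowers s) u := L3.sz_of_central (mem_C1.2 h.yt) h.y3 h.y1
    (fun a ha => ⟨(zc a ha).1, (zc a ha).2 u (mem_C1.2 h.yt)⟩)
    fun k hk e => h.cent k (mem_C1.1 hk) e
  let π : C1 s →* HB s := QuotientGroup.mk' ((zpowers s).subgroupOf (C1 s))
  have hs : Function.Surjective π := QuotientGroup.mk'_surjective _
  have hπ : ∀ a : C1 s, π a = 1 ↔ (a : G) ∈ zpowers s := fun a => QuotientGroup.eq_one_iff a
  have hk : IsPGroup 2 π.ker := by
    rw [QuotientGroup.ker_mk']; exact isPGroup_subgroupOf (pg_zp h.t2) _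
  have hm : ∀ (P : Subgroup _) (a : C1 s), (a : G) ∈ (P.comap π).map (C1 s).subtype ↔ π a ∈ P :=
    fun P a => ⟨fun ⟨w, hw, e⟩ => (Subtype.ext e : w = a) ▸ hw, fun e => ⟨a, e, rfl⟩⟩
  have hsyl : ∀ P D : Subgroup _, IsSylowIn 2 P D →
      IsSylowIn 2 ((P.comap π).map (C1 s).subtype) ((D.comap π).map (C1 s).subtype) :=
    fun P D hP => (hP.comap π hk (le_top.trans (MonoidHom.range_eq_top.2 hs).ge)).map (C1 s).subtype
  have hnm : ∀ (P : Subgroup _) (g : C1 s), π g ∈ Nm P →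
      (g : G) ∈ Nm ((P.comap π).map (C1 s).subtype) := fun P g hg => mem_norm_of_conj (by
    rintro _ ⟨a, ha, rfl⟩
    exact ⟨g * a * g⁻¹, by simpa using conj_mem_of_norm hg ha, rfl⟩)
  have hx : Odd3.SC (π ⟨u, e.mem⟩) := sc_of_sz e
  have xN : π ⟨u, e.mem⟩ ∉ N := fun c => by
    have a := (N.orderOf_dvd_natCard c)
    rw [hx.orderOf_eq] at a
    exact absurd (Nat.Coprime.eq_one_of_dvd h2.symm a) (by norm_num)
  have hc : ∀ g, g * π ⟨u, e.mem⟩ * g⁻¹ * (π ⟨u, e.mem⟩)⁻¹ ∈ N ∨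
      g * π ⟨u, e.mem⟩ * g⁻¹ * π ⟨u, e.mem⟩ ∈ N := fun g =>
    (TriS.conj_cases h3 (a := (π ⟨u, e.mem⟩ : HB s ⧸ N))
      (by rw [← QuotientGroup.mk_pow, hx.cube, QuotientGroup.mk_one])
      (fun c => xN ((QuotientGroup.eq_one_iff _).1 c)) g).imp
      (fun c => (QuotientGroup.eq_one_iff _).1 (by simpa using c))
      fun c => (QuotientGroup.eq_one_iff _).1 (by simpa using c)
  have zC : z ∈ C1 s := mem_C1.2 zs
  obtain ⟨P, T, p1, pn, p2, t1, t2, t3, t4, t5⟩ := TriS.abs hx N xN hc (s := π ⟨z, zC⟩)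
    (by rw [← map_inv, ← map_mul, ← map_mul, ← map_inv]; exact congrArg π (Subtype.ext H.zu))
    (by rw [← map_mul, ← map_one π]; exact congrArg π (Subtype.ext H.z2))
  have q2 := hsyl P N p2
  have sy := hsyl T ⊤ t1
  rw [comap_top, ← MonoidHom.range_eq_map, range_subtype] at sy
  have sQ : zpowers s ≤ (P.comap π).map (C1 s).subtype := zpowers_le.2
    ((hm P ⟨s, mem_C1.2 rfl⟩).2 (by rw [(hπ _).2 (mem_zpowers s)]; exact one_mem _))
  have nQ : C1 s ≤ Nm ((P.comap π).map (C1 s).subtype) := fun g hg =>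
    hnm P ⟨g, hg⟩ (mem_norm_of_conj fun a ha => pn.conj_mem a ha _)
  have le : (P.comap π).map (C1 s).subtype ≤ C1 s := map_subtype_le _
  have i2 : I2 ((P.comap π).map (C1 s).subtype) ((T.comap π).map (C1 s).subtype) := by
    refine ⟨map_mono (comap_mono t2.le), ?_⟩
    rintro _ ⟨a, ha, rfl⟩ _ ⟨b, hb, rfl⟩ a1 b1
    exact (hm P (a * b)).2 (t2.mul _ ha _ hb (fun c => a1 ((hm P a).2 c))
      fun c => b1 ((hm P b).2 c))
  have zT := (hm T ⟨z, zC⟩).2 t3
  have zQ : z ∉ (P.comap π).map (C1 s).subtype := fun c => t4 ((hm P ⟨z, zC⟩).1 c)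
  have odd : ∀ d ∈ (N.comap π).map (C1 s).subtype, (orderOf d).Coprime 2 →
      d ∈ centralizer (((P.comap π).map (C1 s).subtype : Subgroup G) : Set G) := by
    rintro _ ⟨d, hd, rfl⟩ o
    have d2 : (d : G) ^ 2 ∈ centralizer (((P.comap π).map (C1 s).subtype : Subgroup G) : Set G) := by
      refine mem_centralizer_iff.2 ?_
      rintro _ ⟨b, hb, rfl⟩
      obtain ⟨b1, k, b2⟩ := (p1 _).1 hb
      have c1 : π b * π d = π d * π b :=
        congrArg Subtype.val (Char.Brauer.commute_of_pow_eq_one_of_isNilpotent (G := N)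
          (o.symm.pow_left k) (x := ⟨π b, b1⟩) (y := ⟨π d, hd⟩) (Subtype.ext b2)
          (Subtype.ext (by
            change π d ^ orderOf (d : G) = 1
            rw [← map_pow, orderOf_coe, pow_orderOf_eq_one, map_one]))).eq
      have c2 : (d : G) * b * (d : G)⁻¹ * (b : G)⁻¹ ∈ zpowers s := (hπ (d * b * d⁻¹ * b⁻¹)).1 (by
        rw [map_mul, map_mul, map_mul, map_inv, map_inv, ← c1]; group)
      obtain ⟨c3, c4⟩ := zc _ c2
      have c5 := c4 _ d.2
      change (b : G) * (d : G) ^ 2 = (d : G) ^ 2 * b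
      generalize (d : G) = d at *
      generalize (b : G) = b at *
      have c6 : d * b = d * b * d⁻¹ * b⁻¹ * b * d := by group
      generalize d * b * d⁻¹ * b⁻¹ = t at *
      calc b * d ^ 2 = t * t * b * d * d := by rw [c3, sq]; group
        _ = t * (t * b * d) * d := by group
        _ = t * d * b * d := by rw [← c6]; group
        _ = d * (t * b * d) := by rw [c5]; group
        _ = d ^ 2 * b := by rw [← c6, sq]; group
    obtain ⟨m, hm⟩ := exists_pow_eq_self_of_coprime (x := (d : G)) o.symm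
    change (d : G) ∈ _
    rw [← hm]
    exact pow_mem d2 m
  refine ⟨_, _, ⟨H, q2.isPGroup, sQ (mem_zpowers s), le, nQ, zQ, fun g g1 gQ g2 => ?_⟩, sy, i2, zT,
    fun g hg => ?_⟩
  · obtain ⟨k, k1, k2⟩ := L3.exists_conj_mem (k := 2) sy g1 (by
      calc g ^ 2 ^ 2 = g * g * (g * g) := by rw [show 2 ^ 2 = 4 from rfl, pow_succ, pow_three']; group
        _ = 1 := (zc _ g2).1)
    obtain ⟨b, b1, b2⟩ := kb0 H (h.loc q2.isPGroup (sQ (mem_zpowers s)) le (nQ e.mem)) (nQ zC)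
      (i2.mul_inv k2 zT (fun c => gQ (by simpa [mul_assoc] using conj_mem_of_norm' (nQ k1) c)) zQ)
      (by
        have := conj_mem_of_norm (nm_zp (mem_C1.1 k1)) g2
        convert this using 1; group)
    refine ⟨b * k, mul_mem (le b1) k1, ?_⟩
    rwa [show b * k * g * (b * k)⁻¹ = b * (k * g * k⁻¹) * b⁻¹ by group]
  · obtain ⟨n, n1, i, e1⟩ := t5 (π ⟨g, hg⟩)
    have fin : ∀ r : C1 s, π ⟨g, hg⟩ = n * π r → ∃ q ∈ (P.comap π).map (C1 s).subtype, ∃ o : G,
        (∀ a ∈ (P.comap π).map (C1 s).subtype, o * a = a * o) ∧ g = q * o * r := fun r e2 => by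
      obtain ⟨q, q1, o, o1, -, e3⟩ := q2.exists_mul_eq odd ((hm N (⟨g, hg⟩ * r⁻¹)).2 (by
        rw [map_mul, map_inv, e2, mul_inv_cancel_right]; exact n1))
      exact ⟨q, q1, o, fun a ha => (mem_centralizer_iff.1 o1 a ha).symm, by
        rw [← e3]; simp⟩
    rcases e1 with e1 | e1
    · obtain ⟨q, q1, o, o1, e3⟩ := fin (⟨u, e.mem⟩ ^ i) (by rw [e1, map_pow])
      exact ⟨q, q1, o, o1, i, Or.inl e3⟩
    · obtain ⟨q, q1, o, o1, e3⟩ := fin (⟨u, e.mem⟩ ^ i * ⟨z, zC⟩)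
        (by rw [e1, map_mul, map_pow, mul_assoc])
      exact ⟨q, q1, o, o1, i, Or.inr (by rw [e3, mul_assoc (q * o)]; rfl)⟩

end Cfsg.Lib.N9M
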